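import Mathlib
import Cfsg.Prelude.Def_LocalStructure
import Cfsg.Agent.H18.DkMk

/-!
# Pieces S3875-ORD and S3875-EXP (helper71, for helper23): the orders of `PSL₂(p)` and of
`SL₂(2^m)`, `p = 2^m + 1`, are at least `p (p² - 1) / 2`; `PSL₂(p)`, `p > 3`, has order
`p (p² - 1) / 2` and is not `p`-closed
-/

set_option autoImplicit false

namespace Cfsg.Agent.H71.P3

theorem gcd_two_pred {p : ℕ} (hp : p.Prime) (h3 : 3 < p) : Nat.gcd 2 (p - 1) = 2 := by
  have hodd : Odd p := hp.odd_of_ne_two (by omega)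
  obtain ⟨k, hk⟩ := hodd
  exact Nat.gcd_eq_left ⟨k, by omega⟩

/-- `|PSL₂(F)| = p (p² - 1) / 2` for a field of odd prime order `p > 3` -/
theorem card_psl_prime {F : Type*} [Field F] [Fintype F] {p : ℕ} (hp : p.Prime) (h3 : 3 < p)
    (hF : Fintype.card F = p) :
    Nat.card (Matrix.ProjectiveSpecialLinearGroup (Fin 2) F) = p * (p ^ 2 - 1) / 2 := by
  have h1 := Cfsg.Agent.H18.Dk.card_PSL2_mul (F := F)
  rw [hF, gcd_two_pred hp h3] at h1
  exact (Nat.div_eq_of_eq_mul_right (by norm_num) h1.symm).symm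

theorem card_ge_of_iso {G : Type*} [Group G] [Finite G] (p : ℕ) [Fact p.Prime]
    (h : (∃ (F : Type) (_ : Field F) (_ : Fintype F), Fintype.card F = p ∧ 3 < p ∧
        Nonempty (G ≃* Matrix.ProjectiveSpecialLinearGroup (Fin 2) F)) ∨
      (∃ (m : ℕ) (F : Type) (_ : Field F) (_ : Fintype F), Fintype.card F = 2 ^ m ∧
        p = 2 ^ m + 1 ∧ 3 < p ∧ Nonempty (G ≃* Matrix.SpecialLinearGroup (Fin 2) F))) :
    p * (p ^ 2 - 1) / 2 ≤ Nat.card G := by
  have hp : p.Prime := Fact.out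
  rcases h with ⟨F, hF, hFin, hcard, h3, ⟨e⟩⟩ | ⟨m, F, hF, hFin, hcard, hpm, h3, ⟨e⟩⟩
  · rw [Nat.card_congr e.toEquiv, card_psl_prime hp h3 hcard]
  · rw [Nat.card_congr e.toEquiv, Cfsg.Agent.H44.card_SL2, hcard]
    have h4 : 4 ≤ 2 ^ m := by
      have hm : 2 ≤ m := by
        by_contra hcon
        push Not at hcon
        interval_cases m <;> omega
      calc 4 = 2 ^ 2 := by norm_num
        _ ≤ 2 ^ m := Nat.pow_le_pow_right (by norm_num) hm
    obtain ⟨u, hu⟩ : ∃ u, 2 ^ m = u + 4 := ⟨2 ^ m - 4, by omega⟩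
    rw [hpm, hu]
    have e1 : (u + 4 + 1) ^ 2 - 1 = (u + 4) * (u + 6) := by
      have e0 : (u + 4 + 1) ^ 2 = (u + 4) * (u + 6) + 1 := by ring
      omega
    have e2 : (u + 4) ^ 2 - 1 = (u + 3) * (u + 5) := by
      have e0 : (u + 4) ^ 2 = (u + 3) * (u + 5) + 1 := by ring
      omega
    rw [e1, e2]
    apply Nat.div_le_of_le_mul
    exact Nat.le.intro (by ring : (u + 4 + 1) * ((u + 4) * (u + 6)) + (u + 4) * (u + 5) * u =
      2 * ((u + 4) * ((u + 3) * (u + 5))))

theorem exists_psl (p : ℕ) [Fact p.Prime] (h3 : 3 < p) :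
    ∃ (H : Type) (_ : Group H) (_ : Finite H), Nat.card H = p * (p ^ 2 - 1) / 2 ∧
      ¬ Cfsg.IsPClosed p H := by
  have hp : p.Prime := Fact.out
  have hcardF : Fintype.card (ZMod p) = p := ZMod.card p
  have hcard := card_psl_prime hp h3 hcardF
  have hmul := Cfsg.Agent.H18.Dk.card_PSL2_mul (F := ZMod p)
  rw [hcardF, gcd_two_pred hp h3] at hmul
  have hsimple : IsSimpleGroup (Matrix.ProjectiveSpecialLinearGroup (Fin 2) (ZMod p)) :=
    Matrix.ProjectiveSpecialLinearGroup.rank_two_simple (by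
      rw [Nat.card_eq_fintype_card, hcardF]
      omega)
  refine ⟨Matrix.ProjectiveSpecialLinearGroup (Fin 2) (ZMod p), inferInstance, inferInstance,
    hcard, ?_⟩
  intro hcl
  obtain ⟨P⟩ : Nonempty (Sylow p (Matrix.ProjectiveSpecialLinearGroup (Fin 2) (ZMod p))) :=
    inferInstance
  have hn := hcl P
  -- `p ∣ |H|`
  have hdvd : p ∣ Nat.card (Matrix.ProjectiveSpecialLinearGroup (Fin 2) (ZMod p)) := by
    have h1 : p ∣ 2 * Nat.card (Matrix.ProjectiveSpecialLinearGroup (Fin 2) (ZMod p)) := by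
      rw [hmul]
      exact dvd_mul_right _ _
    rcases (Nat.Prime.dvd_mul hp).mp h1 with h2 | h2
    · have := Nat.le_of_dvd (by norm_num) h2
      omega
    · exact h2
  rcases hn.eq_bot_or_eq_top with hb | ht
  · exact Sylow.ne_bot_of_dvd_card P hdvd hb
  · obtain ⟨k, hk⟩ := IsPGroup.iff_card.mp P.isPGroup'
    rw [ht, Subgroup.card_top] at hk
    rw [hk] at hmul
    -- `2 * p ^ k = p * (p ^ 2 - 1)`
    have hsq : p ^ 2 - 1 = (p - 1) * (p + 1) := by
      obtain ⟨r, rfl⟩ : ∃ r, p = r + 1 := ⟨p - 1, by omega⟩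
      have e0 : (r + 1) ^ 2 = r * (r + 1 + 1) + 1 := by ring
      simp only [Nat.add_sub_cancel]
      omega
    rcases Nat.eq_zero_or_pos k with h0 | h0
    · subst h0
      rw [pow_zero, mul_one] at hmul
      have h5 : p ∣ 2 := by
        rw [hmul]
        exact dvd_mul_right _ _
      have := Nat.le_of_dvd (by norm_num) h5
      omega
    · obtain ⟨j, rfl⟩ : ∃ j, k = j + 1 := ⟨k - 1, by omega⟩
      have h6 : 2 * p ^ j = p ^ 2 - 1 := by
        have h7 : p * (2 * p ^ j) = p * (p ^ 2 - 1) := by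
          rw [← hmul]
          ring
        exact Nat.eq_of_mul_eq_mul_left hp.pos h7
      rcases Nat.eq_zero_or_pos j with hj | hj
      · subst hj
        rw [pow_zero, mul_one, hsq] at h6
        have h8 : 3 * 5 ≤ (p - 1) * (p + 1) := Nat.mul_le_mul (by omega) (by omega)
        omega
      · have h9 : p ∣ p ^ 2 - 1 := by
          rw [← h6]
          exact Dvd.dvd.mul_left (dvd_pow_self p (by omega)) 2
        have h10 : p ∣ p ^ 2 := dvd_pow_self p (by norm_num)
        have h11 : p ∣ p ^ 2 - (p ^ 2 - 1) := Nat.dvd_sub h10 h9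
        have h12 : p ^ 2 - (p ^ 2 - 1) = 1 := by
          have : 1 ≤ p ^ 2 := Nat.one_le_pow _ _ hp.pos
          omega
        rw [h12] at h11
        have := Nat.le_of_dvd (by norm_num) h11
        omega

end Cfsg.Agent.H71.P3
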