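import Mathlib

set_option autoImplicit false

/-!
# S2490 pieces FREE, K, K2 (helper71, for helper93)
-/

namespace Cfsg.Agent.H71.Ord7920

open Subgroup

open scoped Pointwise

/-- **S2490-FREE**: a free action of a finite group on a finite set. -/
theorem card_dvd_of_free {H : Type*} [Group H] [Finite H] {X : Type*} [MulAction H X] [Finite X]
    (hfree : ∀ (h : H) (x : X), h • x = x → h = 1) : Nat.card H ∣ Nat.card X := by
  classical
  let f : H × Quotient (MulAction.orbitRel H X) → X := fun a => a.1 • a.2.out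
  have hmk : ∀ (h : H) (x : X), (Quotient.mk (MulAction.orbitRel H X) (h • x)) =
      Quotient.mk (MulAction.orbitRel H X) x := by
    intro h x
    apply Quotient.sound
    exact ⟨h, rfl⟩
  have hinj : Function.Injective f := by
    rintro ⟨h, ω⟩ ⟨h', ω'⟩ heq
    have heq' : h • ω.out = h' • ω'.out := heq
    have h1 : ω = ω' := by
      have e1 := hmk h ω.out
      have e2 := hmk h' ω'.out
      rw [Quotient.out_eq] at e1 e2
      rw [← e1, ← e2, heq']
    subst h1
    have h2 : (h'⁻¹ * h) • ω.out = ω.out := by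
      rw [mul_smul, heq', inv_smul_smul]
    have h3 := hfree _ _ h2
    have h4 : h = h' := by
      have := congrArg (fun t => h' * t) h3
      simpa using this
    rw [h4]
  have hsurj : Function.Surjective f := by
    intro x
    have h1 : (Quotient.mk (MulAction.orbitRel H X) x).out ∈ MulAction.orbit H x :=
      Quotient.exact (Quotient.out_eq (Quotient.mk (MulAction.orbitRel H X) x))
    obtain ⟨g, hg⟩ := h1
    refine ⟨(g⁻¹, Quotient.mk (MulAction.orbitRel H X) x), ?_⟩
    show g⁻¹ • (Quotient.mk (MulAction.orbitRel H X) x).out = x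
    rw [← hg, inv_smul_smul]
  have hcard : Nat.card X = Nat.card H * Nat.card (Quotient (MulAction.orbitRel H X)) := by
    rw [← Nat.card_prod]
    exact (Nat.card_congr (Equiv.ofBijective f ⟨hinj, hsurj⟩)).symm
  exact Dvd.intro _ hcard.symm

section aux

variable {G : Type*} [Group G] [Finite G]

lemma exists_order_mul {q r : ℕ} (hq : q.Prime) (hr : r.Prime) (hqr : q ≠ r) {x y : G}
    (hx : q ∣ orderOf x) (hy : r ∣ orderOf y) (hc : x * y = y * x) :
    ∃ g : G, orderOf g = q * r := by
  have h1 : orderOf (x ^ (orderOf x / q)) = q :=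
    orderOf_pow_orderOf_div (orderOf_pos x).ne' hx
  have h2 : orderOf (y ^ (orderOf y / r)) = r :=
    orderOf_pow_orderOf_div (orderOf_pos y).ne' hy
  have hcomm : Commute (x ^ (orderOf x / q)) (y ^ (orderOf y / r)) :=
    Commute.pow_pow (show Commute x y from hc) _ _
  refine ⟨x ^ (orderOf x / q) * y ^ (orderOf y / r), ?_⟩
  rw [hcomm.orderOf_mul_eq_mul_orderOf_of_coprime (by rw [h1, h2]; exact (Nat.coprime_primes hq hr).2 hqr),
    h1, h2]

lemma prime_dvd_orderOf_of_pow {q : ℕ} (hq : q.Prime) {x : G} (hx : x ≠ 1) {k : ℕ}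
    (hk : x ^ q ^ k = 1) : q ∣ orderOf x := by
  have h1 : orderOf x ∣ q ^ k := orderOf_dvd_of_pow_eq_one hk
  obtain ⟨j, -, hj⟩ := (Nat.dvd_prime_pow hq).1 h1
  have hj0 : j ≠ 0 := by
    rintro rfl
    rw [pow_zero, orderOf_eq_one_iff] at hj
    exact hx hj
  rw [hj]
  exact dvd_pow_self q hj0

lemma orderOf_dvd_card_of_mem (N : Subgroup G) {y : G} (hy : y ∈ N) : orderOf y ∣ Nat.card N := by
  have h1 : orderOf (⟨y, hy⟩ : N) ∣ Nat.card N := orderOf_dvd_natCard _
  rwa [Subgroup.orderOf_mk] at h1

end aux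

/-- **S2490-K**. -/
theorem sylow_card_dvd_sub_one {G : Type*} [Group G] [Finite G] (N : Subgroup G) [N.Normal]
    (q r : ℕ) [Fact q.Prime] [Fact r.Prime] (hqN : ¬ q ∣ Nat.card N)
    (hno : ¬ ∃ g : G, orderOf g = q * r) (Q : Sylow q G) (R : Sylow r N) :
    Nat.card Q ∣ Nat.card R - 1 := by
  classical
  have hqp : q.Prime := Fact.out
  have hrp : r.Prime := Fact.out
  -- `Q` acts on the Sylow `r`-subgroups of `N`
  let φ : (Q : Subgroup G) →* MulAut N := (MulAut.conjNormal (H := N)).comp (Q : Subgroup G).subtype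
  letI : MulAction (Q : Subgroup G) (Sylow r N) := MulAction.compHom (Sylow r N) φ
  have hmod := (Q.isPGroup').card_modEq_card_fixedPoints (Sylow r N)
  have hnd : ¬ q ∣ Nat.card (Sylow r N) := by
    intro hdvd
    exact hqN (dvd_trans hdvd (dvd_trans (Sylow.card_dvd_index R) (Subgroup.index_dvd_card _)))
  have hne : Nonempty (MulAction.fixedPoints (Q : Subgroup G) (Sylow r N)) := by
    by_contra hcon
    rw [not_nonempty_iff] at hcon
    have h0 : Nat.card ↥(MulAction.fixedPoints (Q : Subgroup G) (Sylow r N)) = 0 :=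
      Nat.card_of_isEmpty
    rw [h0] at hmod
    exact hnd ((Nat.modEq_zero_iff_dvd).1 hmod)
  obtain ⟨⟨R0, hR0⟩⟩ := hne
  -- `Q` normalizes `R0`
  have hconj : ∀ x : (Q : Subgroup G), ∀ y : N, y ∈ R0 → (MulAut.conjNormal (x : G) : MulAut N) y ∈ R0 := by
    intro x y hy
    have h1 : (φ x) • R0 = R0 := hR0 x
    have h2 : (φ x) • y ∈ (φ x) • (R0 : Subgroup N) :=
      Subgroup.smul_mem_pointwise_smul y (φ x) (R0 : Subgroup N) hy
    rw [← Sylow.pointwise_smul_def, h1] at h2
    exact h2
  -- the set of non-identity elements of `R0` (in `G`)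
  let R0' : Subgroup G := (R0 : Subgroup N).map N.subtype
  have hR0N : R0' ≤ N := Subgroup.map_subtype_le _
  have hcardR0 : Nat.card R0' = Nat.card R := by
    rw [Subgroup.card_map_of_injective (f := N.subtype) N.subtype_injective,
      R0.card_eq_multiplicity, R.card_eq_multiplicity]
  have hconj' : ∀ x : (Q : Subgroup G), ∀ y : G, y ∈ R0' → (x : G) * y * (x : G)⁻¹ ∈ R0' := by
    rintro x _ ⟨y, hy, rfl⟩
    refine ⟨(MulAut.conjNormal (x : G) : MulAut N) y, hconj x y hy, ?_⟩
    simp
  let X : Set G := (R0' : Set G) \ {1}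
  letI : MulAction (Q : Subgroup G) X :=
    { smul := fun x y => ⟨(x : G) * y.1 * (x : G)⁻¹, hconj' x y.1 y.2.1, fun h => y.2.2 (by
        rw [Set.mem_singleton_iff] at h ⊢
        have := congrArg (fun t => (x : G)⁻¹ * t * (x : G)) h
        simpa [mul_assoc] using this)⟩
      one_smul := fun y => Subtype.ext (by
        show ((1 : (Q : Subgroup G)) : G) * y.1 * ((1 : (Q : Subgroup G)) : G)⁻¹ = y.1
        simp)
      mul_smul := fun a b y => Subtype.ext (by
        show ((a * b : (Q : Subgroup G)) : G) * y.1 * ((a * b : (Q : Subgroup G)) : G)⁻¹ =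
          (a : G) * ((b : G) * y.1 * (b : G)⁻¹) * (a : G)⁻¹
        simp [mul_assoc]) }
  have hfree : ∀ (h : (Q : Subgroup G)) (y : X), h • y = y → h = 1 := by
    intro h y hy
    by_contra hh
    have hy1 : (h : G) * y.1 * (h : G)⁻¹ = y.1 := congrArg Subtype.val hy
    have hcomm : (h : G) * y.1 = y.1 * (h : G) := by
      have := congrArg (fun t => t * (h : G)) hy1
      simpa [mul_assoc] using this
    have hhG : (h : G) ≠ 1 := fun e => hh (Subtype.ext e)
    obtain ⟨k, hk⟩ := Q.isPGroup' h
    have hk' : (h : G) ^ q ^ k = 1 := by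
      have := congrArg Subtype.val hk
      simpa using this
    have hqh : q ∣ orderOf (h : G) := prime_dvd_orderOf_of_pow hqp hhG hk'
    obtain ⟨y0, hy0, hy0e⟩ := y.2.1
    have hyne : y.1 ≠ 1 := fun e => y.2.2 (by rw [Set.mem_singleton_iff]; exact e)
    obtain ⟨k2, hk2⟩ := R0.isPGroup' ⟨y0, hy0⟩
    have hk2' : y.1 ^ r ^ k2 = 1 := by
      have := congrArg (fun t : (R0 : Subgroup N) => ((t : N) : G)) hk2
      simp only [SubmonoidClass.coe_pow, OneMemClass.coe_one] at this
      rw [← hy0e]
      exact this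
    have hry : r ∣ orderOf y.1 := prime_dvd_orderOf_of_pow hrp hyne hk2'
    have hqr : q ≠ r := by
      intro e
      apply hqN
      rw [e]
      exact dvd_trans hry (orderOf_dvd_card_of_mem N (hR0N y.2.1))
    exact hno (exists_order_mul hqp hrp hqr hqh hry hcomm)
  have hdvd := card_dvd_of_free hfree
  have hX : Nat.card X = Nat.card R0' - 1 := by
    rw [Nat.card_coe_set_eq, Set.ncard_sdiff_singleton_of_mem (Subgroup.one_mem R0'),
      ← Nat.card_coe_set_eq]
    rfl
  rw [hX, hcardR0] at hdvd
  exact hdvd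

/-- **S2490-K2**. -/
theorem prime_dvd_card_sub_one {G : Type*} [Group G] [Finite G] (N : Subgroup G) [N.Normal]
    (q : ℕ) [Fact q.Prime] (hq : q ∣ Nat.card G) (hqN : ¬ q ∣ Nat.card N)
    (hno : ∀ r : ℕ, r.Prime → r ∣ Nat.card N → ¬ ∃ g : G, orderOf g = q * r) :
    q ∣ Nat.card N - 1 := by
  classical
  have hqp : q.Prime := Fact.out
  obtain ⟨x, hx⟩ := exists_prime_orderOf_dvd_card' q hq
  let φ : (zpowers x) →* MulAut N := (MulAut.conjNormal (H := N)).comp (zpowers x).subtype
  letI : MulAction (zpowers x) N := MulAction.compHom N φ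
  have hP : IsPGroup q (zpowers x) := by
    apply IsPGroup.of_card (n := 1)
    rw [Nat.card_zpowers, hx, pow_one]
  have hmod := hP.card_modEq_card_fixedPoints N
  have hfix : MulAction.fixedPoints (zpowers x) N = {1} := by
    ext y
    rw [MulAction.mem_fixedPoints, Set.mem_singleton_iff]
    constructor
    · intro hy
      by_contra hy1
      have h1 : (⟨x, mem_zpowers x⟩ : zpowers x) • y = y := hy _
      have h2 : (MulAut.conjNormal x : MulAut N) y = y := h1
      have h3 : x * (y : G) * x⁻¹ = (y : G) := by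
        have := congrArg Subtype.val h2
        simpa using this
      have hcomm : x * (y : G) = (y : G) * x := by
        have := congrArg (fun t => t * x) h3
        simpa [mul_assoc] using this
      have hyG : (y : G) ≠ 1 := fun e => hy1 (Subtype.ext e)
      have hord : orderOf (y : G) ≠ 1 := fun e => hyG (orderOf_eq_one_iff.1 e)
      obtain ⟨r, hr, hrd⟩ := Nat.exists_prime_and_dvd hord
      have hrN : r ∣ Nat.card N := dvd_trans hrd (orderOf_dvd_card_of_mem N y.2)
      have hqr : q ≠ r := fun e => hqN (e ▸ hrN)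
      exact hno r hr hrN (exists_order_mul hqp hr hqr (by rw [hx]) hrd hcomm)
    · rintro rfl z
      show (φ z) 1 = 1
      exact map_one _
  rw [hfix] at hmod
  have h1 : Nat.card (({1} : Set N)) = 1 := by
    rw [Nat.card_coe_set_eq, Set.ncard_singleton]
  rw [h1] at hmod
  exact (Nat.modEq_iff_dvd' Nat.card_pos).1 hmod.symm

end Cfsg.Agent.H71.Ord7920
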