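import Mathlib
import Cfsg.Agent.H71.Ord7920K
import Cfsg.Agent.H69.Ord7920N

set_option autoImplicit false
set_option linter.unusedSectionVars false
set_option linter.style.haveILetI false

/-!
# S2490 pieces A1, A2 (helper71, for helper93)
-/

namespace Cfsg.Agent.H71.Ord7920

open Subgroup

lemma prime_dvd_7920 {b : ℕ} (hb : b.Prime) (h : b ∣ 7920) : b = 2 ∨ b = 3 ∨ b = 5 ∨ b = 11 := by
  have h1 : (7920 : ℕ) = 2 ^ 4 * 3 ^ 2 * 5 * 11 := by norm_num
  rw [h1] at h
  rcases (Nat.Prime.dvd_mul hb).1 h with h | h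
  · rcases (Nat.Prime.dvd_mul hb).1 h with h | h
    · rcases (Nat.Prime.dvd_mul hb).1 h with h | h
      · left; exact (Nat.prime_dvd_prime_iff_eq hb Nat.prime_two).1 (hb.dvd_of_dvd_pow h)
      · right; left; exact (Nat.prime_dvd_prime_iff_eq hb Nat.prime_three).1 (hb.dvd_of_dvd_pow h)
    · right; right; left; exact (Nat.prime_dvd_prime_iff_eq hb Nat.prime_five).1 h
  · right; right; right; exact (Nat.prime_dvd_prime_iff_eq hb (by norm_num)).1 h

lemma sylow_card_eq_pow {H : Type*} [Group H] [Finite H] {p : ℕ} [Fact p.Prime] (P : Sylow p H)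
    {k m : ℕ} (h : Nat.card H = p ^ k * m) (hm : ¬ p ∣ m) : Nat.card P = p ^ k := by
  have hp : p.Prime := Fact.out
  rw [P.card_eq_multiplicity, h]
  congr 1
  have hm0 : m ≠ 0 := by rintro rfl; exact hm (dvd_zero p)
  rw [Nat.factorization_mul (pow_ne_zero k hp.ne_zero) hm0, Nat.factorization_pow,
    Finsupp.add_apply, Finsupp.smul_apply, hp.factorization_self,
    Nat.factorization_eq_zero_of_not_dvd hm]
  simp

lemma sylow_card_7920 {G : Type*} [Group G] [Finite G] (hord : Nat.card G = 7920) (b : ℕ)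
    [Fact b.Prime] (hb : b ∣ 7920) (Q : Sylow b G) :
    (b = 2 ∧ Nat.card Q = 16) ∨ (b = 3 ∧ Nat.card Q = 9) ∨ (b = 5 ∧ Nat.card Q = 5) ∨
      (b = 11 ∧ Nat.card Q = 11) := by
  have hbp : b.Prime := Fact.out
  rcases prime_dvd_7920 hbp hb with rfl | rfl | rfl | rfl
  · left
    exact ⟨rfl, by
      have := sylow_card_eq_pow Q (k := 4) (m := 495) (by rw [hord]; norm_num) (by norm_num)
      simpa using this⟩
  · right; left
    exact ⟨rfl, by
      have := sylow_card_eq_pow Q (k := 2) (m := 880) (by rw [hord]; norm_num) (by norm_num)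
      simpa using this⟩
  · right; right; left
    exact ⟨rfl, by
      have := sylow_card_eq_pow Q (k := 1) (m := 1584) (by rw [hord]; norm_num) (by norm_num)
      simpa using this⟩
  · right; right; right
    exact ⟨rfl, by
      have := sylow_card_eq_pow Q (k := 1) (m := 720) (by rw [hord]; norm_num) (by norm_num)
      simpa using this⟩

lemma sylow_card_sub_7920 {G : Type*} [Group G] [Finite G] (hord : Nat.card G = 7920)
    (N : Subgroup G) (h11 : ¬ 11 ∣ Nat.card N) (r : ℕ) [Fact r.Prime] (hr : r ∣ Nat.card N)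
    (R : Sylow r N) :
    (r = 2 ∧ (Nat.card R = 2 ∨ Nat.card R = 4 ∨ Nat.card R = 8 ∨ Nat.card R = 16)) ∨
      (r = 3 ∧ (Nat.card R = 3 ∨ Nat.card R = 9)) ∨ (r = 5 ∧ Nat.card R = 5) := by
  have hrp : r.Prime := Fact.out
  have hN : Nat.card N ∣ 7920 := hord ▸ Subgroup.card_subgroup_dvd_card N
  obtain ⟨e, m, hm, hNe⟩ := Nat.exists_eq_pow_mul_and_not_dvd (Nat.card_pos (α := N)).ne' r hrp.ne_one
  have hR : Nat.card R = r ^ e := sylow_card_eq_pow R hNe hm
  have he : e ≠ 0 := by
    rintro rfl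
    rw [pow_zero, one_mul] at hNe
    exact hm (hNe ▸ hr)
  have hdvd : r ^ e ∣ 7920 := dvd_trans (Dvd.intro _ hNe.symm) hN
  have hr7920 : r ∣ 7920 := dvd_trans hr hN
  rcases prime_dvd_7920 hrp hr7920 with rfl | rfl | rfl | rfl
  · left
    refine ⟨rfl, ?_⟩
    have he4 : e ≤ 4 := by
      by_contra hcon
      have : 2 ^ 5 ∣ 7920 := dvd_trans (pow_dvd_pow 2 (by omega)) hdvd
      norm_num at this
    rw [hR]
    interval_cases e <;> simp_all
  · right; left
    refine ⟨rfl, ?_⟩
    have he4 : e ≤ 2 := by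
      by_contra hcon
      have : 3 ^ 3 ∣ 7920 := dvd_trans (pow_dvd_pow 3 (by omega)) hdvd
      norm_num at this
    rw [hR]
    interval_cases e <;> simp_all
  · right; right
    refine ⟨rfl, ?_⟩
    have he4 : e ≤ 1 := by
      by_contra hcon
      have : 5 ^ 2 ∣ 7920 := dvd_trans (pow_dvd_pow 5 (by omega)) hdvd
      norm_num at this
    rw [hR]
    interval_cases e <;> simp_all
  · exact absurd hr h11

/-- local copy of S2490-CENT. -/
theorem card_inf_centralizer_modEq_aux {G : Type*} [Group G] [Finite G] (N : Subgroup G)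
    [N.Normal] (p : ℕ) [Fact p.Prime] (P : Subgroup G) (hP : IsPGroup p P) :
    Nat.card (N ⊓ centralizer (P : Set G) : Subgroup G) ≡ Nat.card N [MOD p] := by
  classical
  let φ : P →* MulAut N := (MulAut.conjNormal (H := N)).comp P.subtype
  letI : MulAction P N := MulAction.compHom N φ
  have hmod := hP.card_modEq_card_fixedPoints N
  have hsmul : ∀ (x : P) (y : N), ((x • y : N) : G) = (x : G) * (y : G) * (x : G)⁻¹ := by
    intro x y
    show (((MulAut.conjNormal (x : G) : MulAut N) y : N) : G) = _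
    simp
  have hcard : Nat.card (MulAction.fixedPoints P N) =
      Nat.card (N ⊓ centralizer (P : Set G) : Subgroup G) := by
    apply Nat.card_congr
    have hto : ∀ y : MulAction.fixedPoints P N,
        (y.1 : G) ∈ (N ⊓ centralizer (P : Set G) : Subgroup G) := by
      intro y
      refine Subgroup.mem_inf.2 ⟨y.1.2, Subgroup.mem_centralizer_iff.2 ?_⟩
      intro h hh
      have h1 := y.2 ⟨h, hh⟩
      have h2 : (h : G) * (y.1 : G) * (h : G)⁻¹ = (y.1 : G) := by
        rw [← hsmul ⟨h, hh⟩ y.1, h1]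
      have := congrArg (fun t => t * h) h2
      simpa [mul_assoc] using this
    have hinv : ∀ z : (N ⊓ centralizer (P : Set G) : Subgroup G),
        (⟨z.1, (Subgroup.mem_inf.1 z.2).1⟩ : N) ∈ MulAction.fixedPoints P N := by
      intro z x
      apply Subtype.ext
      rw [hsmul]
      have h1 := (Subgroup.mem_centralizer_iff.1 (Subgroup.mem_inf.1 z.2).2) (x : G) x.2
      show (x : G) * (z : G) * (x : G)⁻¹ = (z : G)
      rw [h1, mul_inv_cancel_right]
    exact
      { toFun := fun y => ⟨(y.1 : G), hto y⟩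
        invFun := fun z => ⟨⟨z.1, (Subgroup.mem_inf.1 z.2).1⟩, hinv z⟩
        left_inv := fun y => rfl
        right_inv := fun z => rfl }
  rw [← hcard]
  exact hmod.symm

/-- **S2490-A2**. -/
theorem no_normal_eleven {G : Type*} [Group G] [Finite G] (hord : Nat.card G = 7920) (A : Set ℕ)
    (h11 : 11 ∈ A) (hb : ∃ b ∉ A, b.Prime ∧ b ∣ 7920)
    (hno : ∀ a ∈ A, ∀ b ∉ A, a.Prime → b.Prime → a ∣ 7920 → b ∣ 7920 →
      ¬ ∃ g : G, orderOf g = a * b)
    (P : Subgroup G) (hP : Nat.card P = 11) (hPn : P.Normal) : False := by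
  classical
  haveI := hPn
  haveI : Fact (Nat.Prime 11) := ⟨by norm_num⟩
  haveI : Fact (Nat.Prime 5) := ⟨by norm_num⟩
  have hp11 : Nat.Prime 11 := by norm_num
  have hp5 : Nat.Prime 5 := by norm_num
  -- Step 1: every prime `b ∉ A` dividing 7920 equals 5
  have step1 : ∀ b : ℕ, b ∉ A → b.Prime → b ∣ 7920 → b = 5 := by
    intro b hbA hbp hbd
    haveI : Fact b.Prime := ⟨hbp⟩
    have hb11 : b ≠ 11 := fun e => hbA (e ▸ h11)
    have hqN : ¬ b ∣ Nat.card P := by
      rw [hP]
      intro h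
      exact hb11 ((Nat.prime_dvd_prime_iff_eq hbp hp11).1 h)
    have hno' : ¬ ∃ g : G, orderOf g = b * 11 := by
      rw [mul_comm b 11]
      exact hno 11 h11 b hbA hp11 hbp (by norm_num) hbd
    let Q : Sylow b G := default
    let R : Sylow 11 P := default
    have hK := sylow_card_dvd_sub_one P b 11 hqN hno' Q R
    have hR : Nat.card R = 11 := by
      have := sylow_card_eq_pow R (k := 1) (m := 1) (by rw [hP]; norm_num) (by norm_num)
      simpa using this
    rw [hR] at hK
    rcases sylow_card_7920 hord b hbd Q with ⟨rfl, h⟩ | ⟨rfl, h⟩ | ⟨rfl, h⟩ | ⟨rfl, h⟩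
    · rw [h] at hK; omega
    · rw [h] at hK; omega
    · rfl
    · exact absurd rfl hb11
  obtain ⟨b0, hb0A, hb0p, hb0d⟩ := hb
  have h5A : (5 : ℕ) ∉ A := by
    have := step1 b0 hb0A hb0p hb0d
    rwa [this] at hb0A
  have h2A : (2 : ℕ) ∈ A := by
    by_contra h
    have := step1 2 h Nat.prime_two (by norm_num)
    omega
  have h3A : (3 : ℕ) ∈ A := by
    by_contra h
    have := step1 3 h Nat.prime_three (by norm_num)
    omega
  -- Step 2: the centralizer of `P`
  have hNC := Cfsg.Agent.H69.Ord7920.card_inf_normalizer_dvd 11 P hP ⊤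
  rw [Subgroup.normalizer_eq_top, top_inf_eq, top_inf_eq, Subgroup.card_top, hord] at hNC
  obtain ⟨C, hC⟩ : ∃ C : Subgroup G, C = centralizer (P : Set G) := ⟨_, rfl⟩
  rw [← hC] at hNC
  haveI hCn : C.Normal := by rw [hC]; infer_instance
  have hCd : Nat.card C ∣ 7920 := hord ▸ Subgroup.card_subgroup_dvd_card C
  have h5C : ¬ 5 ∣ Nat.card C := by
    intro h5
    obtain ⟨y, hy⟩ := exists_prime_orderOf_dvd_card' 5 h5
    obtain ⟨x, hx⟩ := exists_prime_orderOf_dvd_card' (G := P) 11 (by rw [hP])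
    have hx' : orderOf (x : G) = 11 := by rw [Subgroup.orderOf_coe]; exact hx
    have hy' : orderOf (y : G) = 5 := by rw [Subgroup.orderOf_coe]; exact hy
    have hyC : (y : G) ∈ centralizer (P : Set G) := hC ▸ y.2
    have hcomm : (x : G) * (y : G) = (y : G) * (x : G) :=
      (Subgroup.mem_centralizer_iff.1 hyC) (x : G) x.2
    exact hno 11 h11 5 h5A hp11 hp5 (by norm_num) (by norm_num)
      (exists_order_mul hp11 hp5 (by norm_num) (by rw [hx']) (by rw [hy']) hcomm)
  -- Step 3
  have hK2 := prime_dvd_card_sub_one C 5 (by rw [hord]; norm_num) h5C (by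
    intro r hr hrC
    have hr' : r ∣ 7920 := dvd_trans hrC hCd
    have hrA : r ∈ A := by
      rcases prime_dvd_7920 hr hr' with rfl | rfl | rfl | rfl
      · exact h2A
      · exact h3A
      · exact absurd hrC h5C
      · exact h11
    have := hno r hrA 5 h5A hr hp5 hr' (by norm_num)
    rwa [mul_comm] at this)
  have hc1 : 792 ∣ Nat.card C := by omega
  obtain ⟨k, hk⟩ := hc1
  have hle : Nat.card C ≤ 7920 := Nat.le_of_dvd (by norm_num) hCd
  have hk10 : k ≤ 10 := by omega
  rw [hk] at hCd h5C hK2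
  interval_cases k <;> omega

/-- **S2490-A1**. -/
theorem eleven_dvd_card_normal {G : Type*} [Group G] [Finite G] (hord : Nat.card G = 7920)
    (A : Set ℕ) (h11 : 11 ∈ A) (hb : ∃ b ∉ A, b.Prime ∧ b ∣ 7920)
    (hno : ∀ a ∈ A, ∀ b ∉ A, a.Prime → b.Prime → a ∣ 7920 → b ∣ 7920 →
      ¬ ∃ g : G, orderOf g = a * b)
    (hnn : ∀ P : Subgroup G, Nat.card P = 11 → ¬ P.Normal)
    (N : Subgroup G) (hN : N.Normal) (hN1 : N ≠ ⊥) : 11 ∣ Nat.card N := by
  classical
  by_contra h11N
  haveI : Fact (Nat.Prime 11) := ⟨by norm_num⟩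
  haveI : Fact (Nat.Prime 5) := ⟨by norm_num⟩
  haveI : Fact (Nat.Prime 2) := ⟨by norm_num⟩
  have hp11 : Nat.Prime 11 := by norm_num
  have hp5 : Nat.Prime 5 := by norm_num
  -- LEMMA X
  have X : ∀ N : Subgroup G, N.Normal → N ≠ ⊥ → ¬ 11 ∣ Nat.card N →
      Nat.card N = 16 ∧ 2 ∈ A ∧ 3 ∈ A ∧ 5 ∉ A := by
    intro N hN hN1 h11N
    haveI := hN
    have hNd : Nat.card N ∣ 7920 := hord ▸ Subgroup.card_subgroup_dvd_card N
    have keyA : ∀ r : ℕ, r.Prime → r ∣ Nat.card N → r ∈ A := by
      intro r hr hrN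
      haveI : Fact r.Prime := ⟨hr⟩
      let R : Sylow r N := default
      have hRc := sylow_card_sub_7920 hord N h11N r hrN R
      have hr7920 : r ∣ 7920 := dvd_trans hrN hNd
      by_contra hrA
      have hno' : ¬ ∃ g : G, orderOf g = 11 * r :=
        hno 11 h11 r hrA hp11 hr (by norm_num) hr7920
      let Q : Sylow 11 G := default
      have hK := sylow_card_dvd_sub_one N 11 r h11N hno' Q R
      have hQ : Nat.card Q = 11 := by
        have := sylow_card_eq_pow Q (k := 1) (m := 720) (by rw [hord]; norm_num) (by norm_num)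
        simpa using this
      rw [hQ] at hK
      omega
    have keyB : ∀ r : ℕ, r.Prime → r ∣ Nat.card N → ∀ b ∉ A, b.Prime → b ∣ 7920 →
        b = 5 ∧ r = 2 ∧ 16 ∣ Nat.card N := by
      intro r hr hrN b hbA hbp hbd
      haveI : Fact r.Prime := ⟨hr⟩
      haveI : Fact b.Prime := ⟨hbp⟩
      let R : Sylow r N := default
      have hRc := sylow_card_sub_7920 hord N h11N r hrN R
      have hr7920 : r ∣ 7920 := dvd_trans hrN hNd
      have hbN : ¬ b ∣ Nat.card N := fun h => hbA (keyA b hbp h)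
      have hno' : ¬ ∃ g : G, orderOf g = b * r := by
        have := hno r (keyA r hr hrN) b hbA hr hbp hr7920 hbd
        rwa [mul_comm] at this
      let Q : Sylow b G := default
      have hK := sylow_card_dvd_sub_one N b r hbN hno' Q R
      have hRN : Nat.card R ∣ Nat.card N := Subgroup.card_subgroup_dvd_card (R : Subgroup N)
      rcases sylow_card_7920 hord b hbd Q with ⟨rfl, h⟩ | ⟨rfl, h⟩ | ⟨rfl, h⟩ | ⟨rfl, h⟩
      · rw [h] at hK; omega
      · rw [h] at hK; omega
      · rw [h] at hK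
        have h16 : r = 2 ∧ Nat.card R = 16 := by omega
        exact ⟨rfl, h16.1, h16.2 ▸ hRN⟩
      · exact absurd h11 hbA
    obtain ⟨b0, hb0A, hb0p, hb0d⟩ := hb
    have hc1 : Nat.card N ≠ 1 := fun h => hN1 (Subgroup.card_eq_one.1 h)
    obtain ⟨r, hr, hrN⟩ := Nat.exists_prime_and_dvd hc1
    obtain ⟨hb5, hr2, h16⟩ := keyB r hr hrN b0 hb0A hb0p hb0d
    have h3N : ¬ 3 ∣ Nat.card N := by
      intro h
      have := (keyB 3 Nat.prime_three h b0 hb0A hb0p hb0d).2.1
      omega
    have h5N : ¬ 5 ∣ Nat.card N := by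
      intro h
      have := (keyB 5 hp5 h b0 hb0A hb0p hb0d).2.1
      omega
    have c3 : (Nat.card N).Coprime 3 :=
      ((Nat.Prime.coprime_iff_not_dvd Nat.prime_three).2 h3N).symm
    have c5 : (Nat.card N).Coprime 5 := ((Nat.Prime.coprime_iff_not_dvd hp5).2 h5N).symm
    have c11 : (Nat.card N).Coprime 11 := ((Nat.Prime.coprime_iff_not_dvd hp11).2 h11N).symm
    have hcop : (Nat.card N).Coprime (3 ^ 2 * 5 * 11) :=
      ((c3.pow_right 2).mul_right c5).mul_right c11
    have hd16 : Nat.card N ∣ 16 := by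
      have : Nat.card N ∣ 16 * (3 ^ 2 * 5 * 11) := by norm_num; exact hNd
      exact hcop.dvd_of_dvd_mul_right this
    refine ⟨Nat.dvd_antisymm hd16 h16, hr2 ▸ keyA r hr hrN, ?_, hb5 ▸ hb0A⟩
    by_contra h3
    have := (keyB r hr hrN 3 h3 Nat.prime_three (by norm_num)).1
    omega
  obtain ⟨hN16, h2A, h3A, h5A⟩ := X N hN hN1 h11N
  haveI := hN
  -- `N` is abelian
  have hNp : IsPGroup 2 N := IsPGroup.of_card (n := 4) (by rw [hN16]; norm_num)
  haveI : Nontrivial N := by
    apply (Finite.one_lt_card_iff_nontrivial).1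
    rw [hN16]; norm_num
  have hZnt : Nontrivial (center N) := hNp.center_nontrivial
  obtain ⟨Z, hZ⟩ : ∃ Z : Subgroup G, Z = (center N).map N.subtype := ⟨_, rfl⟩
  have hZn : Z.Normal := by rw [hZ]; exact ConjAct.normal_of_characteristic_of_normal
  have hZ1 : Z ≠ ⊥ := by
    intro h
    rw [hZ] at h
    have h0 : center N = ⊥ := (Subgroup.map_eq_bot_iff_of_injective _ N.subtype_injective).1 h
    exact (Subgroup.nontrivial_iff_ne_bot _).1 hZnt h0
  have hZcard : Nat.card Z = Nat.card (center N) := by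
    rw [hZ]; exact Subgroup.card_map_of_injective N.subtype_injective
  have hZd : Nat.card Z ∣ 16 := by
    rw [hZcard, ← hN16]; exact Subgroup.card_subgroup_dvd_card _
  have hZ11 : ¬ 11 ∣ Nat.card Z := fun h => by
    have := dvd_trans h hZd
    norm_num at this
  have hZ16 := (X Z hZn hZ1 hZ11).1
  have hcenter : center N = ⊤ := Subgroup.eq_top_of_card_eq _ (by rw [← hZcard, hZ16, hN16])
  have hNcomm : ∀ a ∈ N, ∀ b ∈ N, a * b = b * a := by
    intro a ha b hb
    have h1 : (⟨a, ha⟩ : N) ∈ center N := by rw [hcenter]; exact Subgroup.mem_top _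
    have h2 := (Subgroup.mem_center_iff.1 h1) ⟨b, hb⟩
    exact (congrArg Subtype.val h2).symm
  -- an element of order 11 centralizes `N`
  obtain ⟨x, hx⟩ := exists_prime_orderOf_dvd_card' (G := G) 11 (by rw [hord]; norm_num)
  have hP : IsPGroup 11 (zpowers x) :=
    IsPGroup.of_card (n := 1) (by rw [Nat.card_zpowers, hx, pow_one])
  have hcent := card_inf_centralizer_modEq_aux N 11 (zpowers x) hP
  obtain ⟨D, hD⟩ : ∃ D : Subgroup G, D = N ⊓ centralizer ((zpowers x : Subgroup G) : Set G) :=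
    ⟨_, rfl⟩
  rw [← hD] at hcent
  have hle : D ≤ N := hD ▸ inf_le_left
  have hd : Nat.card D ∣ 16 := hN16 ▸ Subgroup.card_dvd_of_le hle
  have hc16 : Nat.card D = 16 := by
    have hle' := Nat.le_of_dvd (by norm_num) hd
    rw [hN16] at hcent
    unfold Nat.ModEq at hcent
    obtain ⟨c, hc⟩ : ∃ c : ℕ, c = Nat.card D := ⟨_, rfl⟩
    rw [← hc] at hle' hcent hd ⊢
    interval_cases c <;> omega
  have hNx : N ≤ centralizer ((zpowers x : Subgroup G) : Set G) := by
    have h1 : D = N := Subgroup.eq_of_le_of_card_ge hle (by rw [hc16, hN16])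
    rw [← h1, hD]; exact inf_le_right
  have hxn : ∀ n ∈ N, x * n = n * x := fun n hn =>
    (Subgroup.mem_centralizer_iff.1 (hNx hn)) x (mem_zpowers x)
  -- the centralizer of `N`
  obtain ⟨C, hC⟩ : ∃ C : Subgroup G, C = centralizer (N : Set G) := ⟨_, rfl⟩
  haveI hCn : C.Normal := by rw [hC]; infer_instance
  have hNC : N ≤ C := fun a ha => by
    rw [hC]
    exact Subgroup.mem_centralizer_iff.2 (fun b hb => hNcomm b hb a ha)
  have hxC : x ∈ C := by
    rw [hC]
    exact Subgroup.mem_centralizer_iff.2 (fun n hn => (hxn n hn).symm)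
  have hCd : Nat.card C ∣ 7920 := hord ▸ Subgroup.card_subgroup_dvd_card C
  have h16C : 16 ∣ Nat.card C := hN16 ▸ Subgroup.card_dvd_of_le hNC
  have h11C : 11 ∣ Nat.card C := hx ▸ orderOf_dvd_card_of_mem C hxC
  have h5C : ¬ 5 ∣ Nat.card C := by
    intro h5
    obtain ⟨y, hy⟩ := exists_prime_orderOf_dvd_card' 5 h5
    obtain ⟨n, hn⟩ := exists_prime_orderOf_dvd_card' (G := N) 2 (by rw [hN16]; norm_num)
    have hn' : orderOf (n : G) = 2 := by rw [Subgroup.orderOf_coe]; exact hn
    have hy' : orderOf (y : G) = 5 := by rw [Subgroup.orderOf_coe]; exact hy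
    have hyC : (y : G) ∈ centralizer (N : Set G) := hC ▸ y.2
    have hcomm : (n : G) * (y : G) = (y : G) * (n : G) :=
      (Subgroup.mem_centralizer_iff.1 hyC) (n : G) n.2
    exact hno 2 h2A 5 h5A Nat.prime_two hp5 (by norm_num) (by norm_num)
      (exists_order_mul Nat.prime_two hp5 (by norm_num) (by rw [hn']) (by rw [hy']) hcomm)
  have hK2 := prime_dvd_card_sub_one C 5 (by rw [hord]; norm_num) h5C (by
    intro r hr hrC
    have hr' : r ∣ 7920 := dvd_trans hrC hCd
    have hrA : r ∈ A := by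
      rcases prime_dvd_7920 hr hr' with rfl | rfl | rfl | rfl
      · exact h2A
      · exact h3A
      · exact absurd hrC h5C
      · exact h11
    have := hno r hrA 5 h5A hr hp5 hr' (by norm_num)
    rwa [mul_comm] at this)
  have hC176 : Nat.card C = 176 := by
    have h176 : 176 ∣ Nat.card C := by omega
    obtain ⟨m, hm⟩ := h176
    have hle : Nat.card C ≤ 7920 := Nat.le_of_dvd (by norm_num) hCd
    have hm45 : m ≤ 45 := by omega
    rw [hm] at hCd h5C hK2 ⊢
    interval_cases m <;> omega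
  -- the Sylow 11-subgroup of `C` is characteristic
  let S : Sylow 11 C := default
  have hS : Nat.card S = 11 := by
    have := sylow_card_eq_pow S (k := 1) (m := 16) (by rw [hC176]; norm_num) (by norm_num)
    simpa using this
  have hn11 : Nat.card (Sylow 11 C) = 1 := by
    have h1 := card_sylow_modEq_one 11 C
    have h2 := Sylow.card_dvd_index S
    have h3 : Nat.card S * (S : Subgroup C).index = Nat.card C := Subgroup.card_mul_index _
    rw [hS, hC176] at h3
    have h4 : (S : Subgroup C).index = 16 := by omega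
    rw [h4] at h2
    have hle := Nat.le_of_dvd (by norm_num) h2
    unfold Nat.ModEq at h1
    obtain ⟨c, hc⟩ : ∃ c : ℕ, c = Nat.card (Sylow 11 C) := ⟨_, rfl⟩
    rw [← hc] at hle h1 h2 ⊢
    interval_cases c <;> omega
  haveI : Subsingleton (Sylow 11 C) := (Nat.card_eq_one_iff_unique.1 hn11).1
  haveI : (S : Subgroup C).Characteristic := Sylow.characteristic_of_subsingleton S
  have hSn : ((S : Subgroup C).map C.subtype).Normal := ConjAct.normal_of_characteristic_of_normal
  have hScard : Nat.card ((S : Subgroup C).map C.subtype) = 11 := by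
    rw [Subgroup.card_map_of_injective C.subtype_injective]; exact hS
  exact hnn _ hScard hSn

end Cfsg.Agent.H71.Ord7920
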