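import Mathlib

set_option autoImplicit false

namespace Cfsg.Agent.H71

/-- Collection in class 2: if `y * x = d * (x * y)` with `d` central then `y ^ n * x = d ^ n * (x * y ^ n)`. -/
theorem pow_mul_comm_central {G : Type*} [Group G] {x y d : G} (hd : ∀ z : G, Commute d z)
    (h : y * x = d * (x * y)) (n : ℕ) : y ^ n * x = d ^ n * (x * y ^ n) := by
  induction n with
  | zero => simp
  | succ n ih =>
    calc y ^ (n + 1) * x = y * (y ^ n * x) := by rw [pow_succ', mul_assoc]
      _ = y * (d ^ n * (x * y ^ n)) := by rw [ih]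
      _ = d ^ n * (y * (x * y ^ n)) := ((hd y).pow_left n).symm.left_comm _
      _ = d ^ n * ((y * x) * y ^ n) := by rw [mul_assoc]
      _ = d ^ n * ((d * (x * y)) * y ^ n) := by rw [h]
      _ = d ^ (n + 1) * (x * y ^ (n + 1)) := by
        rw [pow_succ d, pow_succ' y]; simp only [mul_assoc]

/-- Collection in class 2: `(x * y) ^ n = d ^ (n choose 2) * (x ^ n * y ^ n)`. -/
theorem mul_pow_central {G : Type*} [Group G] {x y d : G} (hd : ∀ z : G, Commute d z)
    (h : y * x = d * (x * y)) (n : ℕ) : (x * y) ^ n = d ^ (n.choose 2) * (x ^ n * y ^ n) := by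
  induction n with
  | zero => simp
  | succ n ih =>
    have hch : (n + 1).choose 2 = n.choose 2 + n := by
      rw [Nat.choose_succ_succ, Nat.choose_one_right, add_comm]
    calc (x * y) ^ (n + 1) = (x * y) ^ n * (x * y) := pow_succ _ _
      _ = d ^ (n.choose 2) * (x ^ n * y ^ n) * (x * y) := by rw [ih]
      _ = d ^ (n.choose 2) * (x ^ n * ((y ^ n * x) * y)) := by simp only [mul_assoc]
      _ = d ^ (n.choose 2) * (x ^ n * ((d ^ n * (x * y ^ n)) * y)) := by
        rw [pow_mul_comm_central hd h]
      _ = d ^ (n.choose 2) * (d ^ n * (x ^ n * ((x * y ^ n) * y))) := by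
        rw [mul_assoc (d ^ n), ((hd (x ^ n)).pow_left n).symm.left_comm]
      _ = d ^ ((n + 1).choose 2) * (x ^ (n + 1) * y ^ (n + 1)) := by
        rw [hch, pow_add, pow_succ, pow_succ]; simp only [mul_assoc]

end Cfsg.Agent.H71
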