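import Mathlib
import Cfsg.Agent.H71.SylowConj

set_option autoImplicit false

namespace Cfsg.Agent.H71

/-- An element of a normal `p'`-subgroup which is a `p`-element is trivial. -/
theorem eq_one_of_mem_of_pow {G : Type*} [Group G] [Finite G] {p : ℕ} [Fact p.Prime]
    (N : Subgroup G) (hN : ¬ p ∣ Nat.card N) {n : G} (hn : n ∈ N) {k : ℕ}
    (hk : n ^ p ^ k = 1) : n = 1 := by
  have h1 : orderOf n ∣ p ^ k := orderOf_dvd_of_pow_eq_one hk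
  have h2 : orderOf n ∣ Nat.card N := by
    have := orderOf_dvd_natCard (⟨n, hn⟩ : N)
    rwa [Subgroup.orderOf_mk] at this
  have hcop : Nat.Coprime (p ^ k) (Nat.card N) :=
    Nat.Coprime.pow_left k ((Nat.Prime.coprime_iff_not_dvd Fact.out).2 hN)
  exact orderOf_eq_one_iff.1 (Nat.eq_one_of_dvd_one (hcop ▸ Nat.dvd_gcd h1 h2))

/-- Two `p`-subgroups with the same image modulo a normal `p'`-subgroup `N` are conjugate under
`N`. -/
theorem conj_mod_normal {G : Type*} [Group G] [Finite G] {p : ℕ} [Fact p.Prime]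
    (N : Subgroup G) [N.Normal] (hN : ¬ p ∣ Nat.card N) (H₁ H₂ : Subgroup G)
    (h₁ : IsPGroup p H₁) (h₂ : IsPGroup p H₂) (h12 : H₁ ≤ N ⊔ H₂) (h21 : H₂ ≤ N ⊔ H₁) :
    ∃ n ∈ N, ∀ y : G, y ∈ H₂ ↔ n⁻¹ * y * n ∈ H₁ := by
  have hL2 : N ⊔ H₁ = N ⊔ H₂ :=
    le_antisymm (sup_le le_sup_left h12) (sup_le le_sup_left h21)
  have key : ∀ (H : Subgroup G), IsPGroup p H → N ⊔ H₁ = N ⊔ H →
      ∀ (S : Sylow p (N ⊔ H₁ : Subgroup G)), H.subgroupOf (N ⊔ H₁) ≤ S →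
      ∀ s : (N ⊔ H₁ : Subgroup G), s ∈ S → (s : G) ∈ H := by
    intro H hH hLH S hS s hs
    have hsm : (s : G) ∈ N ⊔ H := hLH ▸ s.2
    rw [← SetLike.mem_coe, Subgroup.normal_mul] at hsm
    obtain ⟨n, hn, h, hh, hnh⟩ := Set.mem_mul.1 hsm
    have hhL : h ∈ N ⊔ H₁ := hLH ▸ (le_sup_right (a := N) hh)
    have hhS : (⟨h, hhL⟩ : (N ⊔ H₁ : Subgroup G)) ∈ S := hS (Subgroup.mem_subgroupOf.2 hh)
    have hnL : n ∈ N ⊔ H₁ := le_sup_left (b := H₁) hn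
    have hnS : (⟨n, hnL⟩ : (N ⊔ H₁ : Subgroup G)) ∈ S := by
      have : (⟨n, hnL⟩ : (N ⊔ H₁ : Subgroup G)) = s * (⟨h, hhL⟩ : (N ⊔ H₁ : Subgroup G))⁻¹ :=
        Subtype.ext (by simp [← hnh])
      rw [this]; exact mul_mem hs (inv_mem hhS)
    obtain ⟨k, hk⟩ := S.isPGroup' ⟨⟨n, hnL⟩, hnS⟩
    have hk' : n ^ p ^ k = 1 := by
      have := congrArg (fun t : S => ((t : (N ⊔ H₁ : Subgroup G)) : G)) hk
      simpa using this
    have hn1 : n = 1 := eq_one_of_mem_of_pow N hN hn hk'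
    have : (s : G) = h := by
      have h' : n * h = (s : G) := hnh
      rw [← h', hn1, one_mul]
    rw [this]; exact hh
  obtain ⟨S₁, hS₁⟩ := (h₁.comap_subtype (K := N ⊔ H₁)).exists_le_sylow
  obtain ⟨S₂, hS₂⟩ := (h₂.comap_subtype (K := N ⊔ H₁)).exists_le_sylow
  obtain ⟨l, hl⟩ := MulAction.exists_smul_eq (N ⊔ H₁ : Subgroup G) S₁ S₂
  have hlm : (l : G) ∈ N ⊔ H₁ := l.2
  rw [← SetLike.mem_coe, Subgroup.normal_mul] at hlm
  obtain ⟨n, hn, h, hh, hnh⟩ := Set.mem_mul.1 hlm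
  have hnh' : n * h = (l : G) := hnh
  refine ⟨n, hn, fun y => ?_⟩
  constructor
  · intro hy
    have hyL : y ∈ N ⊔ H₁ := hL2 ▸ (le_sup_right (a := N) hy)
    have hyS₂ : (⟨y, hyL⟩ : (N ⊔ H₁ : Subgroup G)) ∈ S₂ := hS₂ (Subgroup.mem_subgroupOf.2 hy)
    rw [← hl, mem_smul_sylow_iff] at hyS₂
    have h3 := key H₁ h₁ rfl S₁ hS₁ _ hyS₂
    have h4 : (l : G)⁻¹ * y * (l : G) ∈ H₁ := by simpa using h3
    have : n⁻¹ * y * n = h * ((l : G)⁻¹ * y * (l : G)) * h⁻¹ := by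
      rw [← hnh']; group
    rw [this]
    exact H₁.mul_mem (H₁.mul_mem hh h4) (H₁.inv_mem hh)
  · intro hy
    have hyL : y ∈ N ⊔ H₁ := by
      have : y = n * (n⁻¹ * y * n) * n⁻¹ := by group
      rw [this]
      exact Subgroup.mul_mem _ (Subgroup.mul_mem _ (Subgroup.mem_sup_left hn) (Subgroup.mem_sup_right hy))
        (Subgroup.inv_mem _ (Subgroup.mem_sup_left hn))
    have h4 : (l : G)⁻¹ * y * (l : G) ∈ H₁ := by
      have : (l : G)⁻¹ * y * (l : G) = h⁻¹ * (n⁻¹ * y * n) * h := by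
        rw [← hnh']; group
      rw [this]
      exact H₁.mul_mem (H₁.mul_mem (H₁.inv_mem hh) hy) hh
    have h5 : l⁻¹ * (⟨y, hyL⟩ : (N ⊔ H₁ : Subgroup G)) * l ∈ S₁ :=
      hS₁ (Subgroup.mem_subgroupOf.2 (by simpa using h4))
    have h6 : (⟨y, hyL⟩ : (N ⊔ H₁ : Subgroup G)) ∈ S₂ := by
      rw [← hl, mem_smul_sylow_iff]; exact h5
    exact key H₂ h₂ hL2 S₂ hS₂ _ h6

end Cfsg.Agent.H71
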