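import Mathlib

set_option autoImplicit false

namespace Cfsg.Agent.H71

/-- `n` is a `π`-number. -/
def PiNum (π : Set ℕ) (n : ℕ) : Prop := ∀ p : ℕ, p.Prime → p ∣ n → p ∈ π

/-- `n` is a `π'`-number. -/
def PiNum' (π : Set ℕ) (n : ℕ) : Prop := ∀ p : ℕ, p.Prime → p ∣ n → p ∉ π

variable {π : Set ℕ}

theorem PiNum.of_dvd {m n : ℕ} (h : PiNum π n) (hd : m ∣ n) : PiNum π m :=
  fun p hp hpm => h p hp (hpm.trans hd)

theorem PiNum'.of_dvd {m n : ℕ} (h : PiNum' π n) (hd : m ∣ n) : PiNum' π m :=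
  fun p hp hpm => h p hp (hpm.trans hd)

theorem PiNum.mul {m n : ℕ} (h1 : PiNum π m) (h2 : PiNum π n) : PiNum π (m * n) :=
  fun p hp hd => (hp.dvd_mul.1 hd).elim (h1 p hp) (h2 p hp)

theorem PiNum'.mul {m n : ℕ} (h1 : PiNum' π m) (h2 : PiNum' π n) : PiNum' π (m * n) :=
  fun p hp hd => (hp.dvd_mul.1 hd).elim (h1 p hp) (h2 p hp)

theorem piNum_one : PiNum π 1 := fun _ hp hd => absurd (Nat.dvd_one.1 hd) hp.ne_one

theorem piNum'_one : PiNum' π 1 := fun _ hp hd => absurd (Nat.dvd_one.1 hd) hp.ne_one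

theorem piNum_prime_pow {q : ℕ} (hq : q.Prime) (hqπ : q ∈ π) (k : ℕ) : PiNum π (q ^ k) := by
  intro p hp hd
  have := (Nat.prime_dvd_prime_iff_eq hp hq).1 (hp.dvd_of_dvd_pow hd)
  rw [this]; exact hqπ

theorem piNum'_prime_pow {q : ℕ} (hq : q.Prime) (hqπ : q ∉ π) (k : ℕ) : PiNum' π (q ^ k) := by
  intro p hp hd
  have := (Nat.prime_dvd_prime_iff_eq hp hq).1 (hp.dvd_of_dvd_pow hd)
  rw [this]; exact hqπ

theorem eq_one_of_piNum_piNum' {n : ℕ} (h1 : PiNum π n) (h2 : PiNum' π n) : n = 1 := by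
  by_contra hne
  obtain ⟨p, hp, hd⟩ := Nat.exists_prime_and_dvd hne
  exact h2 p hp hd (h1 p hp hd)

theorem coprime_of_piNum_piNum' {m n : ℕ} (h1 : PiNum π m) (h2 : PiNum' π n) : Nat.Coprime m n :=
  eq_one_of_piNum_piNum' (h1.of_dvd (Nat.gcd_dvd_left m n)) (h2.of_dvd (Nat.gcd_dvd_right m n))

theorem exists_pi_factor (π : Set ℕ) (n : ℕ) (hn : 0 < n) :
    ∃ a b : ℕ, n = a * b ∧ PiNum π a ∧ PiNum' π b := by
  induction n using Nat.strong_induction_on with
  | _ n ih =>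
    by_cases h1 : n = 1
    · exact ⟨1, 1, by simp [h1], piNum_one, piNum'_one⟩
    · have hp := Nat.minFac_prime h1
      obtain ⟨m, hm⟩ := Nat.minFac_dvd n
      have hmpos : 0 < m := by
        rcases Nat.eq_zero_or_pos m with h | h
        · rw [h, mul_zero] at hm; omega
        · exact h
      have hlt : m < n := by
        have h2 : 1 * m < n.minFac * m := Nat.mul_lt_mul_of_pos_right hp.one_lt hmpos
        rw [one_mul, ← hm] at h2
        exact h2
      obtain ⟨a, b, hab, ha, hb⟩ := ih m hlt hmpos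
      by_cases hpπ : n.minFac ∈ π
      · refine ⟨n.minFac * a, b, ?_, ?_, hb⟩
        · rw [mul_assoc, ← hab]; exact hm
        · have := (piNum_prime_pow hp hpπ 1).mul ha
          rwa [pow_one] at this
      · refine ⟨a, n.minFac * b, ?_, ha, ?_⟩
        · rw [mul_left_comm, ← hab]; exact hm
        · have := (piNum'_prime_pow hp hpπ 1).mul hb
          rwa [pow_one] at this

/-- `x` is a `π`-element. -/
def PiElt (π : Set ℕ) {G : Type*} [Monoid G] (x : G) : Prop := PiNum π (orderOf x)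

/-- `x` is a `π'`-element. -/
def PiElt' (π : Set ℕ) {G : Type*} [Monoid G] (x : G) : Prop := PiNum' π (orderOf x)

theorem piElt_iff {G : Type*} [Monoid G] (x : G) :
    PiElt π x ↔ ∀ p : ℕ, p.Prime → p ∣ orderOf x → p ∈ π := Iff.rfl

theorem piElt'_iff {G : Type*} [Monoid G] (x : G) :
    PiElt' π x ↔ ∀ p : ℕ, p.Prime → p ∣ orderOf x → p ∉ π := Iff.rfl

section Group

variable {G : Type*} [Group G]

theorem piElt_one : PiElt π (1 : G) := by
  unfold PiElt; rw [orderOf_one]; exact piNum_one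

theorem piElt'_one : PiElt' π (1 : G) := by
  unfold PiElt'; rw [orderOf_one]; exact piNum'_one

theorem PiElt.of_mem_zpowers {x y : G} (h : PiElt π x) (hy : y ∈ Subgroup.zpowers x) :
    PiElt π y := PiNum.of_dvd h (orderOf_dvd_of_mem_zpowers hy)

theorem PiElt'.of_mem_zpowers {x y : G} (h : PiElt' π x) (hy : y ∈ Subgroup.zpowers x) :
    PiElt' π y := PiNum'.of_dvd h (orderOf_dvd_of_mem_zpowers hy)

theorem PiElt.map {H : Type*} [Group H] (f : G →* H) {x : G} (h : PiElt π x) : PiElt π (f x) :=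
  PiNum.of_dvd h (orderOf_map_dvd f x)

theorem PiElt'.map {H : Type*} [Group H] (f : G →* H) {x : G} (h : PiElt' π x) :
    PiElt' π (f x) := PiNum'.of_dvd h (orderOf_map_dvd f x)

theorem PiElt.conj {x : G} (h : PiElt π x) (g : G) : PiElt π (g * x * g⁻¹) := by
  have := h.map (MulAut.conj g).toMonoidHom
  simpa using this

theorem eq_one_of_piElt_piElt' {x : G} (h1 : PiElt π x) (h2 : PiElt' π x) : x = 1 :=
  orderOf_eq_one_iff.1 (eq_one_of_piNum_piNum' h1 h2)

theorem piElt_of_pow {x : G} {m : ℕ} (hm : PiNum π m) (h : PiElt π (x ^ m)) : PiElt π x :=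
  (hm.mul h).of_dvd (orderOf_dvd_of_pow_eq_one (by rw [pow_mul, pow_orderOf_eq_one]))

theorem piElt_coe {H : Subgroup G} (x : H) : PiElt π (x : G) ↔ PiElt π x := by
  unfold PiElt; rw [Subgroup.orderOf_coe]

theorem piElt'_coe {H : Subgroup G} (x : H) : PiElt' π (x : G) ↔ PiElt' π x := by
  unfold PiElt'; rw [Subgroup.orderOf_coe]

/-- Decomposition of an element into its `π`-part and `π'`-part. -/
theorem exists_pi_parts [Finite G] (π : Set ℕ) (x : G) :
    ∃ a b : G, a ∈ Subgroup.zpowers x ∧ b ∈ Subgroup.zpowers x ∧ x = a * b ∧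
      PiElt π a ∧ PiElt' π b := by
  obtain ⟨n₁, n₂, hn, h1, h2⟩ := exists_pi_factor π (orderOf x) (orderOf_pos x)
  have hcop : Nat.Coprime n₁ n₂ := coprime_of_piNum_piNum' h1 h2
  obtain ⟨u, v, huv⟩ := Nat.isCoprime_iff_coprime.2 hcop
  refine ⟨x ^ (v * (n₂ : ℤ)), x ^ (u * (n₁ : ℤ)), ⟨_, rfl⟩, ⟨_, rfl⟩, ?_, ?_, ?_⟩
  · rw [← zpow_add, add_comm, huv, zpow_one]
  · apply PiNum.of_dvd h1
    apply orderOf_dvd_of_pow_eq_one
    rw [← zpow_natCast, ← zpow_mul, mul_assoc, ← Nat.cast_mul, mul_comm n₂ n₁, ← hn, mul_comm,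
      zpow_mul, zpow_natCast, pow_orderOf_eq_one, one_zpow]
  · apply PiNum'.of_dvd h2
    apply orderOf_dvd_of_pow_eq_one
    rw [← zpow_natCast, ← zpow_mul, mul_assoc, ← Nat.cast_mul, ← hn, mul_comm,
      zpow_mul, zpow_natCast, pow_orderOf_eq_one, one_zpow]

theorem piNum_card_of_forall [Finite G] (h : ∀ x : G, PiElt π x) : PiNum π (Nat.card G) := by
  intro p hp hd
  have : Fact p.Prime := ⟨hp⟩
  obtain ⟨x, hx⟩ := exists_prime_orderOf_dvd_card' p hd
  exact h x p hp (by rw [hx])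

theorem piNum'_card_of_forall [Finite G] (h : ∀ x : G, PiElt π x → x = 1) :
    PiNum' π (Nat.card G) := by
  intro p hp hd hpπ
  have : Fact p.Prime := ⟨hp⟩
  obtain ⟨x, hx⟩ := exists_prime_orderOf_dvd_card' p hd
  have hx1 : x = 1 := h x (by
    unfold PiElt; rw [hx]
    have := piNum_prime_pow (π := π) hp hpπ 1
    rwa [pow_one] at this)
  rw [hx1, orderOf_one] at hx
  exact hp.ne_one hx.symm

theorem piElt_of_piNum_card [Finite G] (h : PiNum π (Nat.card G)) (x : G) : PiElt π x :=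
  PiNum.of_dvd h (orderOf_dvd_natCard x)

theorem piElt'_of_piNum'_card [Finite G] (h : PiNum' π (Nat.card G)) (x : G) : PiElt' π x :=
  PiNum'.of_dvd h (orderOf_dvd_natCard x)

end Group

end Cfsg.Agent.H71
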