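import Mathlib
import Cfsg.Agent.H71.PiElt
import Cfsg.Agent.H71.ConjMod
import Cfsg.Agent.H71.SylowMisc
import Cfsg.Agent.H1.CoprimeSylow
import Cfsg.Agent.H1.Hall
import Cfsg.Agent.H1.Frattini

set_option autoImplicit false

namespace Cfsg.Agent.H71

variable {π : Set ℕ} {G : Type*} [Group G]

/-- Element form of the homogeneity hypothesis: `π`-elements normalizing a nontrivial
`π'`-subgroup centralize it. -/
def EF (π : Set ℕ) (G : Type*) [Group G] : Prop :=
  ∀ H : Subgroup G, H ≠ ⊥ → PiNum' π (Nat.card H) →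
    ∀ x ∈ Subgroup.normalizer (H : Set G), PiElt π x → x ∈ Subgroup.centralizer (H : Set G)

theorem ef_of_hhom [Finite G]
    (hhom : ∀ H : Subgroup G, H ≠ ⊥ → (∀ p : ℕ, p.Prime → p ∣ Nat.card ↥H → p ∉ π) →
        ∀ p : ℕ, p.Prime → p ∣ (Subgroup.centralizer (H : Set G)).relIndex
          (Subgroup.normalizer (H : Set G)) → p ∉ π) :
    EF π G := by
  intro H hH hcard x hx hpi
  set N := Subgroup.normalizer (H : Set G) with hN
  set C := Subgroup.centralizer (H : Set G) with hC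
  have hnorm : (C.subgroupOf N).Normal := by
    refine ⟨fun c hc n => ?_⟩
    rw [Subgroup.mem_subgroupOf] at hc ⊢
    rw [hC, Subgroup.mem_centralizer_iff] at hc ⊢
    intro h hh
    have hn : (n : G) ∈ Subgroup.normalizer (H : Set G) := n.2
    have h1 : (n : G)⁻¹ * h * (n : G) ∈ H := by
      apply (Subgroup.mem_set_normalizer_iff.1 hn ((n : G)⁻¹ * h * (n : G))).2
      have e : (n : G) * ((n : G)⁻¹ * h * (n : G)) * (n : G)⁻¹ = h := by group
      rw [SetLike.mem_coe, e]; exact hh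
    have h2 := hc _ h1
    push_cast
    calc h * ((n : G) * c * (n : G)⁻¹) = n * ((n : G)⁻¹ * h * n * c) * (n : G)⁻¹ := by group
      _ = n * (c * ((n : G)⁻¹ * h * n)) * (n : G)⁻¹ := by rw [h2]
      _ = (n : G) * c * (n : G)⁻¹ * h := by group
  let x' : N := ⟨x, hx⟩
  have h1 : orderOf (QuotientGroup.mk' (C.subgroupOf N) x') ∣ orderOf x := by
    have := orderOf_map_dvd (QuotientGroup.mk' (C.subgroupOf N)) x'
    rwa [Subgroup.orderOf_mk] at this
  have h2 : orderOf (QuotientGroup.mk' (C.subgroupOf N) x') ∣ C.relIndex N := by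
    have := orderOf_dvd_natCard (QuotientGroup.mk' (C.subgroupOf N) x')
    rwa [← Subgroup.index_eq_card] at this
  have h3 : orderOf (QuotientGroup.mk' (C.subgroupOf N) x') = 1 := by
    apply eq_one_of_piNum_piNum' (π := π)
    · exact PiNum.of_dvd hpi h1
    · intro p hp hd
      exact hhom H hH hcard p hp (hd.trans h2)
  rw [orderOf_eq_one_iff] at h3
  have h4 : x' ∈ C.subgroupOf N := (QuotientGroup.eq_one_iff x').1 h3
  exact Subgroup.mem_subgroupOf.1 h4

theorem EF.subgroup [Finite G] (hEF : EF π G) (M : Subgroup G) : EF π M := by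
  intro H hH hcard x hx hpi
  have hH1 : H.map M.subtype ≠ ⊥ := by
    rw [Ne, Subgroup.map_eq_bot_iff_of_injective _ M.subtype_injective]; exact hH
  have hc1 : PiNum' π (Nat.card (H.map M.subtype)) := by
    rw [Subgroup.card_map_of_injective M.subtype_injective]; exact hcard
  have hx1 : (x : G) ∈ Subgroup.normalizer ((H.map M.subtype : Subgroup G) : Set G) := by
    apply mem_normalizer_of_conj_le
    rintro _ ⟨u, hu, rfl⟩
    exact ⟨x * u * x⁻¹, (Subgroup.mem_set_normalizer_iff.1 hx u).1 hu, rfl⟩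
  have h := hEF _ hH1 hc1 (x : G) hx1 ((piElt_coe x).2 hpi)
  rw [Subgroup.mem_centralizer_iff] at h ⊢
  intro u hu
  apply Subtype.ext
  exact h (u : G) ⟨u, hu, rfl⟩

theorem no_pi_in_map [Finite G] (L K : Subgroup G) [L.Normal]
    (hK : ∀ x ∈ K, PiElt π x → x ∈ L)
    (kb : G ⧸ L) (hkb : kb ∈ K.map (QuotientGroup.mk' L)) (hpi : PiElt π kb) : kb = 1 := by
  obtain ⟨k, hk, rfl⟩ := hkb
  obtain ⟨a, b, ha, hb, hab, hpa, hpb⟩ := exists_pi_parts π k
  have haK : a ∈ K := (Subgroup.zpowers_le.2 hk) ha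
  have haL : a ∈ L := hK a haK hpa
  have h1 : QuotientGroup.mk' L k = QuotientGroup.mk' L b := by
    have h2 : QuotientGroup.mk' L a = 1 := (QuotientGroup.eq_one_iff a).2 haL
    rw [hab, map_mul, h2, one_mul]
  rw [h1] at hpi ⊢
  exact eq_one_of_piElt_piElt' hpi (hpb.map _)

theorem exists_piElt_lift [Finite G] (L : Subgroup G) [L.Normal] (xb : G ⧸ L)
    (hpi : PiElt π xb) : ∃ a : G, PiElt π a ∧ QuotientGroup.mk' L a = xb := by
  obtain ⟨g, rfl⟩ := QuotientGroup.mk'_surjective L xb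
  obtain ⟨a, b, ha, hb, hab, hpa, hpb⟩ := exists_pi_parts π g
  refine ⟨a, hpa, ?_⟩
  have hb1 : QuotientGroup.mk' L b = 1 := by
    apply eq_one_of_piElt_piElt' _ (hpb.map _)
    apply hpi.of_mem_zpowers
    obtain ⟨j, rfl⟩ := hb
    exact ⟨j, by simp⟩
  have h2 : QuotientGroup.mk' L g = QuotientGroup.mk' L a * QuotientGroup.mk' L b := by
    rw [← map_mul, ← hab]
  rw [h2, hb1, mul_one]

/-- The homogeneity hypothesis for `q`-subgroups passes to the quotient by a normal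
`π`-subgroup. -/
theorem ef_quot [Finite G] (hEF : EF π G) (L : Subgroup G) [L.Normal] (hL : ∀ x ∈ L, PiElt π x)
    {q : ℕ} [Fact q.Prime] (hq : q ∉ π) (Qb : Subgroup (G ⧸ L)) (hQb : IsPGroup q Qb)
    (xb : G ⧸ L) (hxb : xb ∈ Subgroup.normalizer (Qb : Set (G ⧸ L))) (hpi : PiElt π xb) :
    ∀ yb ∈ Qb, yb * xb = xb * yb := by
  have hqp : q.Prime := Fact.out
  set φ := QuotientGroup.mk' L with hφ
  have hqL : ¬ q ∣ Nat.card L := by
    intro hd
    have hLpi : PiNum π (Nat.card L) := piNum_card_of_forall (fun x => (piElt_coe x).1 (hL x x.2))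
    exact hq (hLpi q hqp hd)
  set Qt := Qb.comap φ with hQt
  obtain ⟨P₁⟩ : Nonempty (Sylow q Qt) := inferInstance
  set Q₁ := (P₁ : Subgroup Qt).map Qt.subtype with hQ₁
  have hQ₁p : IsPGroup q Q₁ := P₁.isPGroup'.map _
  have hQ₁le : Q₁ ≤ Qt := Subgroup.map_subtype_le _
  obtain ⟨j, hj⟩ := IsPGroup.iff_card.1 hQb
  have hcardQt : Nat.card Qt = q ^ j * Nat.card L := by
    rw [hQt, Cfsg.Agent.H1.card_comap_mk', hj]
  have hcardQ₁ : Nat.card Q₁ = q ^ j := by
    rw [hQ₁, Subgroup.card_map_of_injective Qt.subtype_injective, Sylow.card_eq_multiplicity,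
      hcardQt]
    congr 1
    rw [Nat.factorization_mul (pow_ne_zero _ hqp.ne_zero) Nat.card_pos.ne', Finsupp.add_apply,
      hqp.factorization_pow, Finsupp.single_eq_same, Nat.factorization_eq_zero_of_not_dvd hqL,
      add_zero]
  have hdisj : L ⊓ Q₁ = ⊥ := by
    rw [eq_bot_iff]
    intro y hy
    obtain ⟨hyL, hyQ⟩ := Subgroup.mem_inf.1 hy
    obtain ⟨k, hk⟩ := hQ₁p ⟨y, hyQ⟩
    have hk' : y ^ q ^ k = 1 := by simpa using congrArg Subtype.val hk
    exact Subgroup.mem_bot.2 (eq_one_of_mem_of_pow L hqL hyL hk')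
  have hmap : Q₁.map φ = Qb := by
    apply Subgroup.eq_of_le_of_card_ge
    · rintro _ ⟨y, hy, rfl⟩
      exact hQ₁le hy
    · rw [Cfsg.Agent.H1.card_map_mk'_of_disjoint L Q₁ hdisj, hcardQ₁, hj]
  obtain ⟨x, rfl⟩ := QuotientGroup.mk'_surjective L xb
  set H₂ := Q₁.map (MulAut.conj x).toMonoidHom with hH₂
  have hH₂p : IsPGroup q H₂ := hQ₁p.map _
  have hker : ∀ g : G, φ g = 1 → g ∈ L := fun g hg => by
    rw [← QuotientGroup.ker_mk' L]; exact hg
  have h21 : H₂ ≤ L ⊔ Q₁ := by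
    rintro _ ⟨u, hu, rfl⟩
    have h1 : φ (x * u * x⁻¹) ∈ Qb := by
      have hu' : φ u ∈ Qb := by rw [← hmap]; exact Subgroup.mem_map_of_mem _ hu
      have := (Subgroup.mem_set_normalizer_iff.1 hxb (φ u)).1 hu'
      rw [map_mul, map_mul, map_inv]
      exact this
    rw [← hmap] at h1
    obtain ⟨u', hu', hu'eq⟩ := h1
    have h2 : (x * u * x⁻¹) * u'⁻¹ ∈ L := by
      apply hker
      rw [map_mul (f := φ) (x * u * x⁻¹), map_inv, hu'eq, mul_inv_cancel]
    have e : (MulAut.conj x).toMonoidHom u = ((x * u * x⁻¹) * u'⁻¹) * u' := by simp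
    rw [e]
    exact Subgroup.mul_mem _ (Subgroup.mem_sup_left h2) (Subgroup.mem_sup_right hu')
  have h12 : Q₁ ≤ L ⊔ H₂ := by
    intro u hu
    have hu' : φ u ∈ Qb := by rw [← hmap]; exact Subgroup.mem_map_of_mem _ hu
    have h1 : (φ x)⁻¹ * φ u * φ x ∈ Qb := by
      apply (Subgroup.mem_set_normalizer_iff.1 hxb ((φ x)⁻¹ * φ u * φ x)).2
      have e : φ x * ((φ x)⁻¹ * φ u * φ x) * (φ x)⁻¹ = φ u := by group
      rw [SetLike.mem_coe, e]; exact hu'
    rw [← hmap] at h1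
    obtain ⟨u', hu', hu'eq⟩ := h1
    have h2 : u * (x * u' * x⁻¹)⁻¹ ∈ L := by
      apply hker
      simp only [map_mul, map_inv]
      rw [hu'eq]; group
    have e : u = (u * (x * u' * x⁻¹)⁻¹) * (x * u' * x⁻¹) := by group
    rw [e]
    exact Subgroup.mul_mem _ (Subgroup.mem_sup_left h2)
      (Subgroup.mem_sup_right ⟨u', hu', by simp⟩)
  obtain ⟨l, hl, hlH⟩ := conj_mod_normal L hqL Q₁ H₂ hQ₁p hH₂p h12 h21
  have hn : l⁻¹ * x ∈ Subgroup.normalizer (Q₁ : Set G) := by
    apply mem_normalizer_of_conj_le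
    intro u hu
    have h1 : x * u * x⁻¹ ∈ H₂ := ⟨u, hu, by simp⟩
    have h2 := (hlH _).1 h1
    have e : l⁻¹ * x * u * (l⁻¹ * x)⁻¹ = l⁻¹ * (x * u * x⁻¹) * l := by group
    rw [e]; exact h2
  have hφl : φ l = 1 := (QuotientGroup.eq_one_iff l).2 hl
  have hφn : φ (l⁻¹ * x) = φ x := by
    rw [map_mul, map_inv, hφl, inv_one, one_mul]
  obtain ⟨a, b, ha, hb, hab, hpa, hpb⟩ := exists_pi_parts π (l⁻¹ * x)
  have hφb : φ b = 1 := by
    apply eq_one_of_piElt_piElt' _ (hpb.map _)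
    apply hpi.of_mem_zpowers
    obtain ⟨i, rfl⟩ := hb
    exact ⟨i, by rw [map_zpow, hφn]⟩
  have hφa : φ a = φ x := by
    have h3 : φ (l⁻¹ * x) = φ a * φ b := by rw [← map_mul, ← hab]
    rw [← hφn, h3, hφb, mul_one]
  have haN : a ∈ Subgroup.normalizer (Q₁ : Set G) := (Subgroup.zpowers_le.2 hn) ha
  have hcent : ∀ u ∈ Q₁, u * a = a * u := by
    by_cases hbot : Q₁ = ⊥
    · intro u hu
      rw [hbot, Subgroup.mem_bot] at hu
      rw [hu]; simp
    · have hc := hEF Q₁ hbot (by rw [hcardQ₁]; exact piNum'_prime_pow hqp hq j) a haN hpa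
      exact fun u hu => Subgroup.mem_centralizer_iff.1 hc u hu
  intro yb hyb
  rw [← hmap] at hyb
  obtain ⟨u, hu, rfl⟩ := hyb
  rw [← hφa, ← map_mul, ← map_mul, hcent u hu]

/-- Every `π`-element of `G ⧸ L` centralizes the image of `K`. -/
theorem centralizes_quot [Finite G] (hEF : EF π G) (L K : Subgroup G) [L.Normal] [K.Normal]
    (hL : ∀ x ∈ L, PiElt π x) (hK : ∀ x ∈ K, PiElt π x → x ∈ L)
    (xb : G ⧸ L) (hpi : PiElt π xb) :
    ∀ kb ∈ K.map (QuotientGroup.mk' L), kb * xb = xb * kb := by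
  classical
  set Kb := K.map (QuotientGroup.mk' L) with hKb
  have hKbn : Kb.Normal := Subgroup.Normal.map inferInstance _ (QuotientGroup.mk'_surjective L)
  have hKbcard : PiNum' π (Nat.card Kb) := by
    apply piNum'_card_of_forall
    intro y hy
    apply Subtype.ext
    exact no_pi_in_map L K hK (y : G ⧸ L) y.2 ((piElt_coe y).2 hy)
  set A := Subgroup.zpowers xb with hA
  have hAK : A ≤ Subgroup.normalizer (Kb : Set (G ⧸ L)) := by
    rw [Subgroup.normalizer_eq_top_iff.2 hKbn]; exact le_top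
  have hcop : (Nat.card A).Coprime (Nat.card Kb) := by
    apply coprime_of_piNum_piNum' _ hKbcard
    rw [hA, Nat.card_zpowers]; exact hpi
  have hsolv : Group.IsSolvable A := Cfsg.Agent.H1.isSolvable_zpowers xb
  set T := Subgroup.centralizer ({xb} : Set (G ⧸ L)) ⊓ Kb with hT
  have hTK : T ≤ Kb := inf_le_right
  have hdvd : Nat.card Kb ∣ Nat.card T := by
    rw [← Nat.factorization_prime_le_iff_dvd Nat.card_pos.ne' Nat.card_pos.ne']
    intro q hq
    have : Fact q.Prime := ⟨hq⟩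
    obtain ⟨P, hP⟩ := Cfsg.Agent.H1.coprime_exists_invariant_sylow A Kb hAK hcop (Or.inl hsolv) q
    set Qb := (P : Subgroup Kb).map Kb.subtype with hQb
    have hQbp : IsPGroup q Qb := P.isPGroup'.map _
    have hxN : xb ∈ Subgroup.normalizer (Qb : Set (G ⧸ L)) := hP (Subgroup.mem_zpowers xb)
    have hQT : Qb ≤ T := by
      intro y hy
      refine Subgroup.mem_inf.2 ⟨?_, Subgroup.map_subtype_le _ hy⟩
      rw [Subgroup.mem_centralizer_singleton_iff]
      by_cases hqπ : q ∈ π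
      · have hy1 : y = 1 := by
          apply no_pi_in_map L K hK y (Subgroup.map_subtype_le _ hy)
          obtain ⟨k, hk⟩ := hQbp ⟨y, hy⟩
          have hk' : y ^ q ^ k = 1 := by simpa using congrArg Subtype.val hk
          exact PiNum.of_dvd (piNum_prime_pow hq hqπ k) (orderOf_dvd_of_pow_eq_one hk')
        rw [hy1]; simp
      · exact (ef_quot hEF L hL hqπ Qb hQbp xb hxN hpi y hy)
    have hcardQ : Nat.card Qb = q ^ (Nat.card Kb).factorization q := by
      rw [hQb, Subgroup.card_map_of_injective Kb.subtype_injective, Sylow.card_eq_multiplicity]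
    have h1 : q ^ (Nat.card Kb).factorization q ∣ Nat.card T := by
      rw [← hcardQ]; exact Subgroup.card_dvd_of_le hQT
    exact (hq.pow_dvd_iff_le_factorization Nat.card_pos.ne').1 h1
  have hTeq : T = Kb := Subgroup.eq_of_le_of_card_ge hTK (Nat.le_of_dvd Nat.card_pos hdvd)
  intro kb hkb
  have : kb ∈ T := by rw [hTeq]; exact hkb
  have h2 := (Subgroup.mem_inf.1 this).1
  rw [Subgroup.mem_centralizer_singleton_iff] at h2
  exact h2

/-- A central `π'`-subgroup with `π`-quotient: the `π`-elements form a subgroup. -/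
theorem pi_closed_of_central {E : Type*} [Group E] [Finite E] (Z : Subgroup E)
    (hZc : ∀ z ∈ Z, ∀ e : E, e * z = z * e) (hZ : ∀ z ∈ Z, PiElt π z → z = 1)
    (hEZ : ∀ e : E, ∃ m : ℕ, PiNum π m ∧ e ^ m ∈ Z) :
    ∃ H : Subgroup E, ∀ x : E, x ∈ H ↔ PiElt π x := by
  have hZn : Z.Normal := ⟨fun z hz g => by rw [hZc z hz g, mul_inv_cancel_right]; exact hz⟩
  have hcZ : PiNum' π (Nat.card Z) :=
    piNum'_card_of_forall (fun z hz => Subtype.ext (hZ z z.2 ((piElt_coe z).2 hz)))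
  have hiZ : PiNum π Z.index := by
    rw [Subgroup.index_eq_card]
    apply piNum_card_of_forall
    intro y
    obtain ⟨e, rfl⟩ := QuotientGroup.mk_surjective y
    obtain ⟨m, hm, hem⟩ := hEZ e
    apply PiNum.of_dvd hm
    apply orderOf_dvd_of_pow_eq_one
    rw [← QuotientGroup.mk_pow]; exact (QuotientGroup.eq_one_iff _).2 hem
  have hcop : (Nat.card Z).Coprime Z.index := (coprime_of_piNum_piNum' hiZ hcZ).symm
  obtain ⟨C, hC⟩ := Subgroup.exists_right_complement'_of_coprime hcop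
  refine ⟨C, fun x => ⟨fun hx => ?_, fun hx => ?_⟩⟩
  · have h1 : orderOf x ∣ Nat.card C := by
      have := orderOf_dvd_natCard (⟨x, hx⟩ : C)
      rwa [Subgroup.orderOf_mk] at this
    rw [← hC.symm.index_eq_card] at h1
    exact PiNum.of_dvd hiZ h1
  · obtain ⟨⟨z, c⟩, hzc⟩ := hC.2 x
    have hzc' : (z : E) * (c : E) = x := hzc
    have hcomm : Commute (z : E) (c : E) := (hZc z z.2 c).symm
    have h1 : (z : E) ^ orderOf x * (c : E) ^ orderOf x = 1 := by
      rw [← hcomm.mul_pow, hzc', pow_orderOf_eq_one]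
    have h2 : (z : E) ^ orderOf x ∈ Z ⊓ C := by
      refine Subgroup.mem_inf.2 ⟨Z.pow_mem z.2 _, ?_⟩
      have : (z : E) ^ orderOf x = ((c : E) ^ orderOf x)⁻¹ := eq_inv_of_mul_eq_one_left h1
      rw [this]; exact C.inv_mem (C.pow_mem c.2 _)
    rw [hC.disjoint.eq_bot, Subgroup.mem_bot] at h2
    have hz1 : (z : E) = 1 := by
      apply hZ z z.2
      exact PiNum.of_dvd hx (orderOf_dvd_of_pow_eq_one h2)
    rw [← hzc', hz1, one_mul]; exact c.2

/-- Core theorem: `L ≤ K` normal, `L` a `π`-group containing all `π`-elements of `K`; `M` a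
subgroup containing all `π`-elements, whose elements have `π`-powers in `K`. Under the
homogeneity hypothesis the `π`-elements form a subgroup. -/
theorem pi_closed_core [Finite G] (hEF : EF π G) (L K M : Subgroup G) [L.Normal] [K.Normal]
    (hL : ∀ x ∈ L, PiElt π x) (hK : ∀ x ∈ K, PiElt π x → x ∈ L)
    (hM1 : ∀ x : G, PiElt π x → x ∈ M) (hM2 : ∀ x ∈ M, ∃ m : ℕ, PiNum π m ∧ x ^ m ∈ K) :
    ∃ H : Subgroup G, ∀ x : G, x ∈ H ↔ PiElt π x := by
  set φ := QuotientGroup.mk' L with hφ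
  set Kb := K.map φ with hKb
  set E := Subgroup.centralizer (Kb : Set (G ⧸ L)) ⊓ M.map φ with hE
  have hc1 : ∀ z ∈ Kb.subgroupOf E, ∀ e : E, e * z = z * e := by
    intro z hz e
    rw [Subgroup.mem_subgroupOf] at hz
    have he := (Subgroup.mem_inf.1 e.2).1
    rw [Subgroup.mem_centralizer_iff] at he
    apply Subtype.ext
    exact (he (z : G ⧸ L) hz).symm
  have hc2 : ∀ z ∈ Kb.subgroupOf E, PiElt π z → z = 1 := by
    intro z hz hpi
    rw [Subgroup.mem_subgroupOf] at hz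
    apply Subtype.ext
    exact no_pi_in_map L K hK (z : G ⧸ L) hz ((piElt_coe z).2 hpi)
  have hc3 : ∀ e : E, ∃ m : ℕ, PiNum π m ∧ e ^ m ∈ Kb.subgroupOf E := by
    intro e
    obtain ⟨m, hm, hmeq⟩ := (Subgroup.mem_inf.1 e.2).2
    obtain ⟨j, hj, hjK⟩ := hM2 m hm
    refine ⟨j, hj, ?_⟩
    rw [Subgroup.mem_subgroupOf]
    have : ((e ^ j : E) : G ⧸ L) = φ (m ^ j) := by rw [map_pow, hmeq]; rfl
    rw [this]; exact Subgroup.mem_map_of_mem _ hjK
  obtain ⟨HE, hHE⟩ := pi_closed_of_central (π := π) (E := E) (Kb.subgroupOf E) hc1 hc2 hc3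
  refine ⟨(HE.map E.subtype).comap φ, fun x => ?_⟩
  rw [Subgroup.mem_comap]
  constructor
  · rintro ⟨e, he, hex⟩
    have h1 : PiElt π (φ x) := by rw [← hex]; exact (piElt_coe e).2 ((hHE e).1 he)
    have h2 : x ^ orderOf (φ x) ∈ L := by
      have h3 : φ (x ^ orderOf (φ x)) = 1 := by
        rw [map_pow]; exact pow_orderOf_eq_one (φ x)
      exact (QuotientGroup.eq_one_iff _).1 h3
    exact piElt_of_pow h1 (hL _ h2)
  · intro hx
    have h1 : PiElt π (φ x) := hx.map φ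
    have hxE : φ x ∈ E := by
      refine Subgroup.mem_inf.2 ⟨?_, Subgroup.mem_map_of_mem _ (hM1 x hx)⟩
      rw [Subgroup.mem_centralizer_iff]
      intro kb hkb
      exact centralizes_quot hEF L K hL hK (φ x) h1 kb hkb
    exact ⟨⟨φ x, hxE⟩, (hHE _).2 ((piElt_coe (⟨φ x, hxE⟩ : E)).1 h1), rfl⟩

end Cfsg.Agent.H71
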