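import Mathlib

set_option autoImplicit false

namespace Cfsg.Agent.H71

/-- Ring-theoretic core of the quadratic action lemma: if `a`, `a z`, `a z²` are all
"quadratic unipotent" and `2` is cancellable, then so is `z`. -/
theorem quad_ring_lemma {R : Type*} [Ring R] (h2 : ∀ r : R, r + r = 0 → r = 0)
    (a a' z z' : R) (ha1 : a * a' = 1) (hz1 : z * z' = 1) (hz2 : z' * z = 1)
    (q0 : (a - 1) * (a - 1) = 0) (q1 : (a * z - 1) * (a * z - 1) = 0)
    (q2 : (a * (z * z) - 1) * (a * (z * z) - 1) = 0) : (z - 1) * (z - 1) = 0 := by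
  have e0 : a + a' = 1 + 1 := by
    have : (a - 1) * (a - 1) * a' = 0 := by rw [q0, zero_mul]
    have h : (a - 1) * (a - 1) * a' = a * (a * a') - (a * a') - (a * a') + a' := by noncomm_ring
    rw [h, ha1] at this
    have h' : a + a' = (a * 1 - 1 - 1 + a') + (1 + 1) := by noncomm_ring
    rw [h', this, zero_add]
  have e1 : a * z + z' * a' = 1 + 1 := by
    have : (a * z - 1) * (a * z - 1) * (z' * a') = 0 := by rw [q1, zero_mul]
    have h : (a * z - 1) * (a * z - 1) * (z' * a') =
        a * z * (a * (z * z') * a') - (a * (z * z') * a') - (a * (z * z') * a') + z' * a' := by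
      noncomm_ring
    rw [h, hz1, mul_one, ha1] at this
    have h' : a * z + z' * a' = (a * z * 1 - 1 - 1 + z' * a') + (1 + 1) := by noncomm_ring
    rw [h', this, zero_add]
  have e2 : a * (z * z) + z' * z' * a' = 1 + 1 := by
    have : (a * (z * z) - 1) * (a * (z * z) - 1) * (z' * z' * a') = 0 := by rw [q2, zero_mul]
    have h : (a * (z * z) - 1) * (a * (z * z) - 1) * (z' * z' * a') =
        a * (z * z) * (a * (z * (z * z') * z') * a') - (a * (z * (z * z') * z') * a')
          - (a * (z * (z * z') * z') * a') + z' * z' * a' := by noncomm_ring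
    rw [h, hz1, mul_one, hz1, mul_one, ha1] at this
    have h' : a * (z * z) + z' * z' * a' = (a * (z * z) * 1 - 1 - 1 + z' * z' * a') + (1 + 1) := by
      noncomm_ring
    rw [h', this, zero_add]
  have ha' : a' = 1 + 1 - a := by rw [← e0]; noncomm_ring
  have f1 : z * a * z = a + (z + z) - (1 + 1) := by
    have h : z * (a * z + z' * a') = z * (1 + 1) := by rw [e1]
    have h' : z * (a * z + z' * a') = z * a * z + (z * z') * a' := by noncomm_ring
    rw [h', hz1, one_mul, ha'] at h
    have : z * a * z = (z * a * z + (1 + 1 - a)) - (1 + 1 - a) := by noncomm_ring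
    rw [this, h]; noncomm_ring
  have f2 : z * z * a * (z * z) = a + (z * z + z * z) - (1 + 1) := by
    have h : z * z * (a * (z * z) + z' * z' * a') = z * z * (1 + 1) := by rw [e2]
    have h' : z * z * (a * (z * z) + z' * z' * a') =
        z * z * a * (z * z) + z * (z * z') * z' * a' := by
      noncomm_ring
    rw [h', hz1, mul_one, hz1, one_mul, ha'] at h
    have : z * z * a * (z * z) = (z * z * a * (z * z) + (1 + 1 - a)) - (1 + 1 - a) := by
      noncomm_ring
    rw [this, h]; noncomm_ring
  have f3 : z * z * a * (z * z) = z * (z * a * z) * z := by noncomm_ring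
  rw [f1] at f3
  rw [f2] at f3
  have g : z * ((z - 1) * (z - 1)) + z * ((z - 1) * (z - 1)) = 0 := by
    have : z * ((z - 1) * (z - 1)) + z * ((z - 1) * (z - 1)) =
        z * (a + (z + z) - (1 + 1)) * z - (a + (z * z + z * z) - (1 + 1)) + (a + (z + z) - (1 + 1))
          - z * a * z := by
      noncomm_ring
    rw [this, ← f3, f1]; noncomm_ring
  have g' := h2 _ g
  have : (z - 1) * (z - 1) = z' * (z * ((z - 1) * (z - 1))) := by
    rw [← mul_assoc, hz2, one_mul]
  rw [this, g', mul_zero]

theorem pow_of_sq_zero {R : Type*} [Ring R] (z : R) (h : (z - 1) * (z - 1) = 0) (n : ℕ) :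
    z ^ n = 1 + n • (z - 1) := by
  induction n with
  | zero => simp
  | succ n ih =>
    have h1 : (n • (z - 1)) * (z - 1) = 0 := by rw [smul_mul_assoc, h, smul_zero]
    calc z ^ (n + 1) = z ^ n * z := pow_succ z n
      _ = (1 + n • (z - 1)) * (1 + (z - 1)) := by rw [ih]; congr 1; noncomm_ring
      _ = 1 + (n • (z - 1) + (z - 1)) + (n • (z - 1)) * (z - 1) := by noncomm_ring
      _ = 1 + (n + 1) • (z - 1) := by rw [h1, add_zero, succ_nsmul]

/-- The endomorphism of `Additive V` attached to an automorphism of `V`. -/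
def endOf {V : Type*} [CommGroup V] (σ : MulAut V) : AddMonoid.End (Additive V) :=
  MonoidHom.toAdditive σ.toMonoidHom

theorem endOf_apply {V : Type*} [CommGroup V] (σ : MulAut V) (v : Additive V) :
    endOf σ v = Additive.ofMul (σ (Additive.toMul v)) := rfl

theorem endOf_mul {V : Type*} [CommGroup V] (σ τ : MulAut V) :
    endOf (σ * τ) = endOf σ * endOf τ := rfl

theorem endOf_one {V : Type*} [CommGroup V] : endOf (1 : MulAut V) = 1 := rfl

theorem endOf_injective {V : Type*} [CommGroup V] : Function.Injective (endOf (V := V)) := by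
  intro σ τ h
  ext v
  have := DFunLike.congr_fun h (Additive.ofMul v)
  exact this

/-- Quadratic action lemma, abstract form: if `a` acts quadratically on the abelian group `V`
without `2`-torsion and of exponent `p`, and `a w`, `a w₂` are conjugate to `a` where `w₂` acts
as `w²`, then `w ^ p` acts trivially. -/
theorem quad_abstract {G V : Type*} [Group G] [CommGroup V] (T : G →* MulAut V)
    (hV2 : ∀ v : V, v * v = 1 → v = 1) (p : ℕ) (hVp : ∀ v : V, v ^ p = 1)
    (a w w₂ k k₂ : G)
    (hq : ∀ v : V, T a (T a v) * v = T a v * T a v)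
    (h1 : a * w = k⁻¹ * a * k) (h2 : a * w₂ = k₂⁻¹ * a * k₂) (hw2 : T w₂ = T w * T w) :
    T (w ^ p) = 1 := by
  set A := endOf (T a) with hA
  set Z := endOf (T w) with hZ
  have hR2 : ∀ r : AddMonoid.End (Additive V), r + r = 0 → r = 0 := by
    intro r hr
    ext v
    have h3 := DFunLike.congr_fun hr v
    have h4 : r v + r v = 0 := h3
    have h5 : Additive.toMul (r v) * Additive.toMul (r v) = 1 := by
      have := congrArg Additive.toMul h4
      simpa using this
    have h6 := hV2 _ h5
    show r v = 0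
    exact congrArg Additive.ofMul h6
  have hinv : ∀ g : G, endOf (T g) * endOf (T g⁻¹) = 1 ∧ endOf (T g⁻¹) * endOf (T g) = 1 := by
    intro g
    constructor
    · rw [← endOf_mul, ← map_mul, mul_inv_cancel, map_one, endOf_one]
    · rw [← endOf_mul, ← map_mul, inv_mul_cancel, map_one, endOf_one]
  have q0 : (A - 1) * (A - 1) = 0 := by
    ext v
    have h3 := hq (Additive.toMul v)
    show A (A v - v) - (A v - v) = 0
    rw [map_sub, sub_sub_sub_eq, sub_eq_zero]
    -- A (A v) + v = A v + A v
    exact congrArg Additive.ofMul h3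
  have hconj : ∀ g b : G, a * b = g⁻¹ * a * g →
      (A * endOf (T b) - 1) * (A * endOf (T b) - 1) = 0 := by
    intro g b hb
    have e1 : A * endOf (T b) = endOf (T g⁻¹) * A * endOf (T g) := by
      rw [hA, ← endOf_mul, ← endOf_mul, ← endOf_mul, ← map_mul, ← map_mul, ← map_mul, hb]
    have e2 : endOf (T g⁻¹) * A * endOf (T g) - 1 = endOf (T g⁻¹) * (A - 1) * endOf (T g) := by
      rw [mul_sub, sub_mul, mul_one, (hinv g).2]
    rw [e1, e2]
    calc endOf (T g⁻¹) * (A - 1) * endOf (T g) * (endOf (T g⁻¹) * (A - 1) * endOf (T g))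
        = endOf (T g⁻¹) * (A - 1) * (endOf (T g) * endOf (T g⁻¹)) * (A - 1) * endOf (T g) := by
          noncomm_ring
      _ = endOf (T g⁻¹) * ((A - 1) * (A - 1)) * endOf (T g) := by
          rw [(hinv g).1]; noncomm_ring
      _ = 0 := by rw [q0, mul_zero, zero_mul]
  have q1 : (A * Z - 1) * (A * Z - 1) = 0 := hconj k w h1
  have q2 : (A * (Z * Z) - 1) * (A * (Z * Z) - 1) = 0 := by
    have := hconj k₂ w₂ h2
    rw [hw2, endOf_mul] at this
    exact this
  have hZ2 := quad_ring_lemma hR2 A (endOf (T a⁻¹)) Z (endOf (T w⁻¹)) (hinv a).1 (hinv w).1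
    (hinv w).2 q0 q1 q2
  have hZp : Z ^ p = 1 := by
    rw [pow_of_sq_zero Z hZ2 p]
    have : p • (Z - 1) = 0 := by
      ext v
      show p • ((Z - 1) v) = 0
      have := hVp (Additive.toMul ((Z - 1) v))
      exact congrArg Additive.ofMul this
    rw [this, add_zero]
  apply endOf_injective
  rw [endOf_one, map_pow]
  have hpow : ∀ n : ℕ, endOf ((T w) ^ n) = Z ^ n := by
    intro n
    induction n with
    | zero => rfl
    | succ n ih => rw [pow_succ, endOf_mul, ih, pow_succ]
  rw [hpow, hZp]

end Cfsg.Agent.H71
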