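import Mathlib

/-!
# Piece S0999-ARITH1 (helper71, for helper21): three arithmetic lemmas on the degrees of the
characters in the principal `p`-block (Brauer, Sylow `p`-subgroup of prime order)
-/

set_option autoImplicit false

namespace Cfsg.Agent.H71.BR

theorem plus_degree (p e n f : ℕ) (hp : p.Prime) (he1 : 1 ≤ e) (he : e < p)
    (hD : e * (1 + n * p) < p ^ 2) (hf2 : 2 ≤ f) (hdvd : f ∣ e * (1 + n * p))
    (hmod : (f : ℤ) ≡ 1 [ZMOD p]) : f = 1 + n * p := by
  obtain ⟨g, hg⟩ := hdvd
  have hp2 := hp.two_le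
  have h1 : (p : ℤ) ∣ (f : ℤ) - 1 := Int.modEq_iff_dvd.mp hmod.symm
  have h2 : p ∣ f - 1 := by
    have h3 : ((f - 1 : ℕ) : ℤ) = (f : ℤ) - 1 := by omega
    rw [← h3] at h1
    exact Int.natCast_dvd_natCast.mp h1
  obtain ⟨k, hk⟩ := h2
  have hk1 : 1 ≤ k := by
    rcases Nat.eq_zero_or_pos k with h | h
    · subst h
      rw [mul_zero] at hk
      omega
    · exact h
  have hf : f = 1 + p * k := by omega
  have hfp : p + 1 ≤ f := by
    have h3 := Nat.mul_le_mul_left p hk1
    omega
  have hDpos : 0 < e * (1 + n * p) := by positivity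
  have hg0 : 0 < g := by
    rcases Nat.eq_zero_or_pos g with h | h
    · subst h
      rw [mul_zero] at hg
      omega
    · exact h
  have hgp : g < p := by
    by_contra hcon
    push Not at hcon
    have h3 : (p + 1) * p ≤ f * g := Nat.mul_le_mul hfp hcon
    have h4 : (p + 1) * p = p ^ 2 + p := by ring
    omega
  have h5 : g + p * (k * g) = e + p * (e * n) := by
    have a1 : f * g = g + p * (k * g) := by rw [hf]; ring
    have a2 : e * (1 + n * p) = e + p * (e * n) := by ring
    omega
  have h6 : k * g = e * n := by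
    rcases Nat.lt_trichotomy (k * g) (e * n) with h | h | h
    · have h7 := Nat.mul_le_mul_left p (Nat.succ_le_of_lt h)
      rw [Nat.mul_succ] at h7
      omega
    · exact h
    · have h7 := Nat.mul_le_mul_left p (Nat.succ_le_of_lt h)
      rw [Nat.mul_succ] at h7
      omega
  have h7 : g = e := by
    rw [h6] at h5
    omega
  rw [h7] at hg
  have h8 : e * (1 + n * p) = e * f := by rw [hg, mul_comm]
  exact (Nat.eq_of_mul_eq_mul_left he1 h8).symm

theorem minus_degree (p e n f : ℕ) (hp : p.Prime) (hp2 : p ≠ 2) (he1 : 1 ≤ e)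
    (he : 2 * e ≤ p - 1) (hD : e * (1 + n * p) < p ^ 2) (hdvd : f ∣ e * (1 + n * p))
    (hmod : (f : ℤ) ≡ -1 [ZMOD p]) : f * (p - e) = e * (1 + n * p) := by
  obtain ⟨g, hg⟩ := hdvd
  have hp2' := hp.two_le
  have hp3 : 3 ≤ p := by omega
  have h1 : (p : ℤ) ∣ ((f + 1 : ℕ) : ℤ) := by
    have h0 := Int.modEq_iff_dvd.mp hmod.symm
    have h3 : ((f + 1 : ℕ) : ℤ) = (f : ℤ) - -1 := by push_cast; ring
    rw [h3]
    exact h0
  have h2 : p ∣ f + 1 := Int.natCast_dvd_natCast.mp h1
  obtain ⟨k, hk⟩ := h2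
  have hk1 : 1 ≤ k := by
    rcases Nat.eq_zero_or_pos k with h | h
    · subst h
      rw [mul_zero] at hk
      omega
    · exact h
  have hfp : p ≤ f + 1 := by
    have h3 := Nat.mul_le_mul_left p hk1
    omega
  have hDpos : 0 < e * (1 + n * p) := by positivity
  have hg0 : 0 < g := by
    rcases Nat.eq_zero_or_pos g with h | h
    · subst h
      rw [mul_zero] at hg
      omega
    · exact h
  have hgp : g ≤ p + 1 := by
    by_contra hcon
    push Not at hcon
    have h3 : (p - 1) * (p + 2) ≤ f * g := Nat.mul_le_mul (by omega) hcon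
    have h4 : (p - 1) * (p + 2) + 2 = p ^ 2 + p := by
      obtain ⟨q, rfl⟩ : ∃ q, p = q + 1 := ⟨p - 1, by omega⟩
      simp only [Nat.add_sub_cancel]
      ring
    omega
  have h5 : g + e + p * (e * n) = p * (k * g) := by
    have a1 : (f + 1) * g = p * (k * g) := by rw [hk]; ring
    have a2 : (f + 1) * g = f * g + g := by ring
    have a3 : e * (1 + n * p) = e + p * (e * n) := by ring
    omega
  have h6 : p ∣ g + e := by
    have h7 : p ∣ g + e + p * (e * n) := by
      rw [h5]
      exact dvd_mul_right _ _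
    exact (Nat.dvd_add_left (dvd_mul_right p (e * n))).mp h7
  obtain ⟨m, hm⟩ := h6
  have hm0 : 1 ≤ m := by
    rcases Nat.eq_zero_or_pos m with h | h
    · subst h
      rw [mul_zero] at hm
      omega
    · exact h
  have hm2 : m < 2 := by
    by_contra hcon
    push Not at hcon
    have h7 := Nat.mul_le_mul_left p hcon
    omega
  have hm1 : m = 1 := by omega
  subst hm1
  rw [mul_one] at hm
  have hge : g = p - e := by omega
  rw [hge] at hg
  exact hg.symm

theorem exc_degree_bound (p e t n f0 : ℕ) (ε : ℤ) (hp : p.Prime) (hp2 : p ≠ 2)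
    (het : e * t = p - 1) (he2 : 2 ≤ e) (hn : 1 ≤ n) (hD : e * (1 + n * p) < p ^ 2)
    (hε : ε = 1 ∨ ε = -1) (hdvd : f0 ∣ e * (1 + n * p))
    (hmod : (f0 : ℤ) ≡ ε * (e : ℤ) [ZMOD p])
    (hsq : t * f0 ^ 2 ≤ p * (e * (1 + n * p))) : f0 * (p - 1) ≤ e * (1 + n * p) := by
  obtain ⟨g, hg⟩ := hdvd
  have hp2' := hp.two_le
  have hp3 : 3 ≤ p := by omega
  have ht1 : 1 ≤ t := by
    rcases Nat.eq_zero_or_pos t with h | h
    · subst h
      rw [mul_zero] at het
      omega
    · exact h
  have hep : e < p := by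
    have h0 : e * 1 ≤ e * t := Nat.mul_le_mul_left e ht1
    omega
  have hDpos : 0 < e * (1 + n * p) := by positivity
  have hg0 : 0 < g := by
    rcases Nat.eq_zero_or_pos g with h | h
    · subst h
      rw [mul_zero] at hg
      omega
    · exact h
  have hkey : g = 1 ∨ p - 1 ≤ g := by
    have h1 : ((f0 : ℤ) * g) ≡ ε * e * g [ZMOD p] := hmod.mul_right _
    have h2 : ((f0 : ℤ) * g) = e + p * (e * n) := by
      have h0 : f0 * g = e + p * (e * n) := by rw [← hg]; ring
      exact_mod_cast h0
    have h3 : (p : ℤ) ∣ e * (ε * g - 1) := by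
      have h4 := Int.modEq_iff_dvd.mp h1
      rw [h2] at h4
      have h0 : (e : ℤ) * (ε * g - 1) = (ε * e * g - (e + p * (e * n))) + p * (e * n) := by ring
      rw [h0]
      exact dvd_add h4 (dvd_mul_right _ _)
    have hpi : Prime (p : ℤ) := Nat.prime_iff_prime_int.mp hp
    have h5 : ¬ (p : ℤ) ∣ (e : ℤ) := by
      rw [Int.natCast_dvd_natCast]
      exact Nat.not_dvd_of_pos_of_lt (by omega) hep
    have h6 : (p : ℤ) ∣ ε * g - 1 := (hpi.dvd_or_dvd h3).resolve_left h5
    rcases hε with rfl | rfl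
    · have h7 : p ∣ g - 1 := by
        have h0 : ((g - 1 : ℕ) : ℤ) = 1 * (g : ℤ) - 1 := by omega
        rw [← h0] at h6
        exact Int.natCast_dvd_natCast.mp h6
      obtain ⟨c, hc⟩ := h7
      rcases Nat.eq_zero_or_pos c with h | h
      · left
        subst h
        rw [mul_zero] at hc
        omega
      · right
        have h8 := Nat.mul_le_mul_left p h
        omega
    · right
      have h7 : p ∣ g + 1 := by
        have h0 : (p : ℤ) ∣ ((g + 1 : ℕ) : ℤ) := by
          have h00 : ((g + 1 : ℕ) : ℤ) = -(-1 * (g : ℤ) - 1) := by push_cast; ring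
          rw [h00]
          exact (dvd_neg).mpr h6
        exact Int.natCast_dvd_natCast.mp h0
      obtain ⟨c, hc⟩ := h7
      have hc1 : 1 ≤ c := by
        rcases Nat.eq_zero_or_pos c with h | h
        · subst h
          rw [mul_zero] at hc
          omega
        · exact h
      have h8 := Nat.mul_le_mul_left p hc1
      omega
  rcases hkey with h1 | h1
  · exfalso
    subst h1
    rw [mul_one] at hg
    rw [← hg] at hsq
    generalize hDdef : e * (1 + n * p) = D at hsq hDpos
    have h2 : t * D ≤ p := by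
      have h0 : t * D ^ 2 = (t * D) * D := by ring
      have h00 : p * D = p * D := rfl
      rw [h0] at hsq
      exact Nat.le_of_mul_le_mul_right hsq hDpos
    have h3 : t * D = (p - 1) * (1 + n * p) := by rw [← hDdef, ← het]; ring
    have h4 : (p - 1) * (1 + 1 * p) ≤ (p - 1) * (1 + n * p) :=
      Nat.mul_le_mul_left _ (Nat.add_le_add_left (Nat.mul_le_mul_right p hn) 1)
    have h5 : 2 * (1 + 1 * p) ≤ (p - 1) * (1 + 1 * p) := Nat.mul_le_mul_right _ (by omega)
    omega
  · calc f0 * (p - 1) ≤ f0 * g := Nat.mul_le_mul_left _ h1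
      _ = e * (1 + n * p) := hg.symm

end Cfsg.Agent.H71.BR
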