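import Mathlib

/-!
# Piece S0999-ARITH2 (helper71, for helper21): the main arithmetic of Brauer's theorem on
groups with a self-centralizing Sylow `p`-subgroup of prime order
-/

set_option autoImplicit false

namespace Cfsg.Agent.H71.BR

theorem arith_main {ι : Type*} [DecidableEq ι] (p e t n : ℕ) (hp : p.Prime) (hp2 : p ≠ 2)
    (het : e * t = p - 1) (he2 : 2 ≤ e) (hn2 : 2 ≤ n) (hD : e * (1 + n * p) < p ^ 2)
    (X : Finset ι) (x₀ : ι) (hx₀ : x₀ ∈ X) (hcard : X.card = e)
    (f : ι → ℕ) (δ : ι → ℤ) (f0 : ℕ) (ε : ℤ)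
    (hδ : ∀ χ ∈ X, δ χ = 1 ∨ δ χ = -1) (hε : ε = 1 ∨ ε = -1)
    (hf₀ : f x₀ = 1) (hδ₀ : δ x₀ = 1) (hf0 : 1 ≤ f0)
    (hplus : ∀ χ ∈ X, χ ≠ x₀ → δ χ = 1 → f χ = 1 + n * p)
    (hminus : ∀ χ ∈ X, δ χ = -1 → f χ * (p - e) = e * (1 + n * p))
    (hexc : f0 * (p - 1) ≤ e * (1 + n * p))
    (hrel : ε * (f0 : ℤ) = ∑ χ ∈ X, δ χ * (f χ : ℤ)) :
    n + 1 = t ∧ (∀ χ ∈ X, χ ≠ x₀ → δ χ = 1 → f χ = t * (p - e)) ∧
      (∀ χ ∈ X, δ χ = -1 → f χ = p - 1) ∧
      ((ε = 1 ∧ f0 = e ∧ (X.filter (fun χ => χ ≠ x₀ ∧ δ χ = 1)).card * t = e - 1) ∨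
        (ε = -1 ∧ f0 = p - e ∧ (X.filter (fun χ => χ ≠ x₀ ∧ δ χ = 1)).card * t = e - 2)) := by
  have hp2' := hp.two_le
  have hp3 : 3 ≤ p := by omega
  -- basic inequalities
  have hen : e * n < p := by
    by_contra hcon
    push Not at hcon
    have h1 : p * p ≤ (e * n) * p := Nat.mul_le_mul_right p hcon
    have h2 : e * (1 + n * p) = e + e * n * p := by ring
    have h3 : p ^ 2 = p * p := by ring
    omega
  have h2e : 2 * e < p := by
    have h1 := Nat.mul_le_mul_left e hn2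
    omega
  -- there is a character with `δ = -1`
  have hex : ∃ χ₁ ∈ X, δ χ₁ = -1 := by
    by_contra hall
    push Not at hall
    have hsum : ∑ χ ∈ X, δ χ * (f χ : ℤ) = 1 + ((e : ℤ) - 1) * (1 + n * p) := by
      rw [← Finset.add_sum_erase X _ hx₀, hδ₀, hf₀]
      have h1 : ∑ χ ∈ X.erase x₀, δ χ * (f χ : ℤ) = ∑ χ ∈ X.erase x₀, ((1 : ℤ) + n * p) := by
        apply Finset.sum_congr rfl
        intro χ hχ
        obtain ⟨hne, hmem⟩ := Finset.mem_erase.mp hχ
        have hd : δ χ = 1 := (hδ χ hmem).resolve_right (hall χ hmem)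
        rw [hd, one_mul, hplus χ hmem hne hd]
        push_cast
        ring
      rw [h1, Finset.sum_const, Finset.card_erase_of_mem hx₀, hcard, nsmul_eq_mul]
      push_cast [Nat.cast_sub (by omega : 1 ≤ e)]
      ring
    rw [hsum] at hrel
    have hnn : (0 : ℤ) ≤ ((e : ℤ) - 1) * (1 + n * p) :=
      mul_nonneg (by have : (2 : ℤ) ≤ e := by exact_mod_cast he2
                     linarith) (by positivity)
    rcases hε with rfl | rfl
    · have h1 : f0 = 1 + (e - 1) * (1 + n * p) := by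
        have h2 : ((f0 : ℕ) : ℤ) = ((1 + (e - 1) * (1 + n * p) : ℕ) : ℤ) := by
          push_cast [Nat.cast_sub (by omega : 1 ≤ e)]
          linarith
        exact_mod_cast h2
      have h3 : e * (1 + n * p) ≤ (2 * (e - 1)) * (1 + n * p) :=
        Nat.mul_le_mul_right _ (by omega)
      have h4 : f0 * 2 ≤ f0 * (p - 1) := Nat.mul_le_mul_left _ (by omega)
      have h5 : f0 * 2 = 2 + (2 * (e - 1)) * (1 + n * p) := by rw [h1]; ring
      omega
    · have h1 : (0 : ℤ) ≤ (f0 : ℤ) := by positivity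
      linarith
  obtain ⟨χ₁, hχ₁, hδ₁⟩ := hex
  obtain ⟨d, hd⟩ : ∃ d, p = d + e := ⟨p - e, by omega⟩
  have hpe : p - e = d := by omega
  have hm := hminus χ₁ hχ₁ hδ₁
  rw [hpe] at hm
  generalize f χ₁ = m at hm
  have h1 : m * p = e * (m + 1) + p * (e * n) := by
    have a1 : m * p = m * d + m * e := by rw [hd]; ring
    have a2 : e * (1 + n * p) = e + p * (e * n) := by ring
    have a3 : e * (m + 1) = m * e + e := by ring
    omega
  have h2 : p ∣ e * (m + 1) := by
    have h3 : p ∣ e * (m + 1) + p * (e * n) := by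
      rw [← h1]
      exact dvd_mul_left p m
    exact (Nat.dvd_add_left (dvd_mul_right p (e * n))).mp h3
  have h3 : p ∣ m + 1 :=
    (hp.dvd_mul.mp h2).resolve_left (Nat.not_dvd_of_pos_of_lt (by omega) (by omega))
  obtain ⟨k, hk⟩ := h3
  have h4 : m = e * k + e * n := by
    have h5 : p * m = p * (e * k + e * n) := by
      have a1 : p * m = m * p := by ring
      have a2 : e * (m + 1) = p * (e * k) := by rw [hk]; ring
      have a3 : p * (e * k + e * n) = p * (e * k) + p * (e * n) := by ring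
      omega
    exact Nat.eq_of_mul_eq_mul_left (by omega) h5
  have h5 : e * n + 1 = d * k := by
    have a1 : p * k = d * k + e * k := by rw [hd]; ring
    omega
  have hk1 : k = 1 := by
    have hk0 : 1 ≤ k := by
      rcases Nat.eq_zero_or_pos k with h | h
      · subst h
        rw [mul_zero] at h5
        omega
      · exact h
    have hk2 : k < 2 := by
      by_contra hcon
      push Not at hcon
      have h6 := Nat.mul_le_mul_left d hcon
      omega
    omega
  subst hk1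
  rw [mul_one] at h5 h4
  -- now `d = e * n + 1`, `m = e + e * n`
  have htn : n + 1 = t := by
    have h6 : e * (n + 1) = e * t := by
      have a1 : e * (n + 1) = e * n + e := by ring
      omega
    exact Nat.eq_of_mul_eq_mul_left (by omega) h6
  have hpval : p = e * n + 1 + e := by omega
  have hpe' : p - e = e * n + 1 := by omega
  have hp1 : p - 1 = e * n + e := by omega
  have key1 : 1 + n * p = t * (p - e) := by
    rw [hpe', ← htn, hpval]
    ring
  have key2 : (p - 1) * (p - e) = e * (1 + n * p) := by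
    rw [hpe', hp1, hpval]
    ring
  have hplus' : ∀ χ ∈ X, χ ≠ x₀ → δ χ = 1 → f χ = t * (p - e) := by
    intro χ hχ hne hd1
    rw [hplus χ hχ hne hd1, key1]
  have hminus' : ∀ χ ∈ X, δ χ = -1 → f χ = p - 1 := by
    intro χ hχ hd1
    have h6 := hminus χ hχ hd1
    rw [← key2] at h6
    exact Nat.eq_of_mul_eq_mul_right (by omega) h6
  refine ⟨htn, hplus', hminus', ?_⟩
  -- the counts
  generalize ha : (X.filter (fun χ => χ ≠ x₀ ∧ δ χ = 1)).card = a
  obtain ⟨b, hb⟩ : ∃ b, (X.filter (fun χ => δ χ = -1)).card = b := ⟨_, rfl⟩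
  have hpt : ∀ χ ∈ X, δ χ * (f χ : ℤ) = (if χ = x₀ then (1 : ℤ) else 0) +
      (if (χ ≠ x₀ ∧ δ χ = 1) then ((1 : ℤ) + n * p) else 0) +
      (if δ χ = -1 then -((p : ℤ) - 1) else 0) := by
    intro χ hχ
    by_cases h0 : χ = x₀
    · subst h0
      rw [hδ₀, hf₀]
      simp
    · rcases hδ χ hχ with hd1 | hd1
      · rw [hd1, hplus χ hχ h0 hd1]
        simp [h0]
      · rw [hd1, hminus' χ hχ hd1]
        simp [h0]
        push_cast [Nat.cast_sub (by omega : 1 ≤ p)]
        ring
  have hpt1 : ∀ χ ∈ X, (1 : ℤ) = (if χ = x₀ then (1 : ℤ) else 0) +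
      (if (χ ≠ x₀ ∧ δ χ = 1) then (1 : ℤ) else 0) +
      (if δ χ = -1 then (1 : ℤ) else 0) := by
    intro χ hχ
    by_cases h0 : χ = x₀
    · subst h0
      rw [hδ₀]
      simp
    · rcases hδ χ hχ with hd1 | hd1
      · rw [hd1]
        simp [h0]
      · rw [hd1]
        simp [h0]
  have hsum : ∑ χ ∈ X, δ χ * (f χ : ℤ) =
      1 + (a : ℤ) * (1 + n * p) - (b : ℤ) * ((p : ℤ) - 1) := by
    rw [Finset.sum_congr rfl hpt, Finset.sum_add_distrib, Finset.sum_add_distrib,
      Finset.sum_ite_eq' X x₀, if_pos hx₀, ← Finset.sum_filter, ← Finset.sum_filter,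
      Finset.sum_const, Finset.sum_const, ha, hb, nsmul_eq_mul, nsmul_eq_mul]
    ring
  have hcount : (e : ℤ) = 1 + (a : ℤ) + (b : ℤ) := by
    have h6 : ∑ χ ∈ X, (1 : ℤ) = (e : ℤ) := by
      rw [Finset.sum_const, hcard, nsmul_eq_mul, mul_one]
    rw [← h6, Finset.sum_congr rfl hpt1, Finset.sum_add_distrib, Finset.sum_add_distrib,
      Finset.sum_ite_eq' X x₀, if_pos hx₀, ← Finset.sum_filter, ← Finset.sum_filter,
      Finset.sum_const, Finset.sum_const, ha, hb, nsmul_eq_mul, nsmul_eq_mul]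
    ring
  -- `f0 ≤ p - e`
  have hf0le : f0 ≤ p - e := by
    rw [← key2] at hexc
    have h6 : (p - 1) * (p - e) = (p - e) * (p - 1) := by ring
    rw [h6] at hexc
    exact Nat.le_of_mul_le_mul_right hexc (by omega)
  -- integer computation
  have hT : (t : ℤ) = (n : ℤ) + 1 := by
    rw [← htn]
    push_cast
    ring
  have hP : (p : ℤ) = (e : ℤ) * n + 1 + e := by exact_mod_cast hpval
  have hF1 : (1 : ℤ) ≤ (f0 : ℤ) := by exact_mod_cast hf0
  have hFle : (f0 : ℤ) ≤ (p : ℤ) - e := by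
    have h6 : f0 + e ≤ p := by omega
    have h7 : ((f0 + e : ℕ) : ℤ) ≤ (p : ℤ) := by exact_mod_cast h6
    push_cast at h7
    linarith
  have hE2 : (2 : ℤ) * e < p := by exact_mod_cast h2e
  have hE0 : (2 : ℤ) ≤ e := by exact_mod_cast he2
  have hK : ε * (f0 : ℤ) = (e : ℤ) + (p : ℤ) * ((a : ℤ) * t - e + 1) := by
    rw [hrel, hsum]
    have hB : (b : ℤ) = (e : ℤ) - 1 - a := by linarith
    rw [hB, hT]
    ring
  have hPpos : (0 : ℤ) < (p : ℤ) := by linarith
  rcases hε with rfl | rfl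
  · left
    have hK0 : (a : ℤ) * t - e + 1 = 0 := by
      rcases lt_trichotomy ((a : ℤ) * t - e + 1) 0 with h | h | h
      · exfalso
        have h6 : (p : ℤ) * ((a : ℤ) * t - e + 1) ≤ (p : ℤ) * (-1) :=
          mul_le_mul_of_nonneg_left (by linarith) hPpos.le
        linarith
      · exact h
      · exfalso
        have h6 : (p : ℤ) * 1 ≤ (p : ℤ) * ((a : ℤ) * t - e + 1) :=
          mul_le_mul_of_nonneg_left (by linarith) hPpos.le
        linarith
    rw [hK0, mul_zero, add_zero, one_mul] at hK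
    refine ⟨rfl, by exact_mod_cast hK, ?_⟩
    have h6 : ((a * t + 1 : ℕ) : ℤ) = (e : ℤ) := by
      push_cast
      linarith
    have h7 : a * t + 1 = e := by exact_mod_cast h6
    omega
  · right
    have hK0 : (a : ℤ) * t - e + 1 = -1 := by
      rcases lt_trichotomy ((a : ℤ) * t - e + 1) (-1) with h | h | h
      · exfalso
        have h6 : (p : ℤ) * ((a : ℤ) * t - e + 1) ≤ (p : ℤ) * (-2) :=
          mul_le_mul_of_nonneg_left (by linarith) hPpos.le
        linarith
      · exact h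
      · exfalso
        have h6 : (p : ℤ) * 0 ≤ (p : ℤ) * ((a : ℤ) * t - e + 1) :=
          mul_le_mul_of_nonneg_left (by linarith) hPpos.le
        linarith
    rw [hK0] at hK
    have h8 : (f0 : ℤ) = (p : ℤ) - e := by linarith
    refine ⟨rfl, ?_, ?_⟩
    · have h9 : ((f0 + e : ℕ) : ℤ) = (p : ℤ) := by
        push_cast
        linarith
      have h10 : f0 + e = p := by exact_mod_cast h9
      omega
    · have h6 : ((a * t + 2 : ℕ) : ℤ) = (e : ℤ) := by
        push_cast
        linarith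
      have h7 : a * t + 2 = e := by exact_mod_cast h6
      omega

end Cfsg.Agent.H71.BR
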