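import Mathlib
import Cfsg.Agent.H2.CensusStmts

/-!
# S0983-TB1 (helper2's census of simple group orders): no simple group of order `4620`

From the Brauer data (`StmtBD`) at the primes `11` and `3`.  The file also holds the general
lemmas used for the twin order `5460` (`CensusTB2`).
-/

set_option autoImplicit false

namespace Cfsg.Agent.H71.Census

open Cfsg Cfsg.Agent.H2.Census

universe u

/-- A single square is bounded by the weighted sum of squares. -/
theorem sq_le_sum (N : ℕ) (c : ℕ → ℕ) (D : ℕ) (hD : D ∈ Finset.range (N + 1)) (hc : c D ≠ 0) :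
    D * D ≤ ∑ D ∈ Finset.range (N + 1), c D * (D * D) := by
  have h1 : c D * (D * D) ≤ ∑ D ∈ Finset.range (N + 1), c D * (D * D) :=
    Finset.single_le_sum (f := fun D => c D * (D * D)) (fun i _ => Nat.zero_le _) hD
  have h2 : D * D ≤ c D * (D * D) := Nat.le_mul_of_pos_left _ (Nat.pos_of_ne_zero hc)
  exact h2.trans h1

/-- A family of natural numbers with sum `1` has exactly one nonzero member, equal to `1`. -/
theorem exists_unique_of_sum_one (s : Finset ℕ) (c : ℕ → ℕ) (h : ∑ D ∈ s, c D = 1) :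
    ∃ D₁ ∈ s, c D₁ = 1 ∧ ∀ D ∈ s, D ≠ D₁ → c D = 0 := by
  have hex : ∃ D₁ ∈ s, c D₁ ≠ 0 := by
    by_contra hno
    have h0 : ∀ D ∈ s, c D = 0 := by
      intro D hD
      by_contra hc
      exact hno ⟨D, hD, hc⟩
    rw [Finset.sum_eq_zero h0] at h
    omega
  obtain ⟨D₁, hD₁, hc⟩ := hex
  have h1 := Finset.add_sum_erase s c hD₁
  rw [h] at h1
  have h2 : c D₁ = 1 := by omega
  have h3 : ∑ D ∈ s.erase D₁, c D = 0 := by omega
  refine ⟨D₁, hD₁, h2, fun D hD hne => ?_⟩
  exact (Finset.sum_eq_zero_iff.mp h3) D (Finset.mem_erase.mpr ⟨hne, hD⟩)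

/-- A sum over `range (N + 1)` supported on two points. -/
theorem sum_two {M : Type*} [AddCommMonoid M] (N : ℕ) (c : ℕ → ℕ) (f : ℕ → M) (a b : ℕ)
    (hab : a ≠ b) (ha : a ≤ N) (hb : b ≤ N)
    (hsupp : ∀ D, c D ≠ 0 → D = a ∨ D = b) (hf : ∀ D, c D = 0 → f D = 0) :
    ∑ D ∈ Finset.range (N + 1), f D = f a + f b := by
  have hT : ({a, b} : Finset ℕ) ⊆ Finset.range (N + 1) := by
    intro x hx
    simp only [Finset.mem_insert, Finset.mem_singleton] at hx
    rw [Finset.mem_range]
    rcases hx with rfl | rfl <;> omega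
  rw [← Finset.sum_subset hT]
  · rw [Finset.sum_insert (by simp [hab]), Finset.sum_singleton]
  · intro x _ hx
    apply hf
    by_contra hc
    rcases hsupp x hc with rfl | rfl <;> simp at hx

/-- A sum over `range (N + 1)` supported on three points. -/
theorem sum_three {M : Type*} [AddCommMonoid M] (N : ℕ) (c : ℕ → ℕ) (f : ℕ → M) (a b d : ℕ)
    (hab : a ≠ b) (had : a ≠ d) (hbd : b ≠ d) (ha : a ≤ N) (hb : b ≤ N) (hd : d ≤ N)
    (hsupp : ∀ D, c D ≠ 0 → D = a ∨ D = b ∨ D = d) (hf : ∀ D, c D = 0 → f D = 0) :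
    ∑ D ∈ Finset.range (N + 1), f D = f a + f b + f d := by
  have hT : ({a, b, d} : Finset ℕ) ⊆ Finset.range (N + 1) := by
    intro x hx
    simp only [Finset.mem_insert, Finset.mem_singleton] at hx
    rw [Finset.mem_range]
    rcases hx with rfl | rfl | rfl <;> omega
  rw [← Finset.sum_subset hT]
  · rw [Finset.sum_insert (by simp [hab, had]), Finset.sum_insert (by simp [hbd]),
      Finset.sum_singleton, add_assoc]
  · intro x _ hx
    apply hf
    by_contra hc
    rcases hsupp x hc with rfl | rfl | rfl <;> simp at hx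

/-- The Brauer data at the prime `3`: two consecutive degrees `x`, `x + 1` with `x ≡ 1 (mod 3)`. -/
theorem bd3_pair (N : ℕ) (IsDeg : ℕ → Prop) (h : BrauerData N 3 IsDeg) :
    ∃ x y, y = x + 1 ∧ x % 3 = 1 ∧ 3 ≤ x ∧ x ∣ N ∧ y ∣ N ∧ IsDeg x ∧ IsDeg y ∧
      x * x + y * y + 1 ≤ N := by
  obtain ⟨n, k, e, d₀, ε, c, h1, h2, h3, h4, h5, h6, h7, h8, h9, h10, h11, h12, h13, h14, h15,
    h16⟩ := h
  have he : e = 2 := by
    have : e ≤ 3 - 1 := Nat.le_of_dvd (by norm_num) h4
    omega
  subst he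
  have h13' : ∑ D ∈ Finset.range (N + 1), c D = 1 := h13
  obtain ⟨D₁, hD₁, hc1, hc0⟩ := exists_unique_of_sum_one _ c h13'
  obtain ⟨hD3, hDN, hDres, -, hDdeg⟩ := h12 D₁ (by rw [hc1]; norm_num)
  have hs1 : ∑ D ∈ Finset.range (N + 1), sgn 3 D * ((c D : ℤ) * (D : ℤ)) =
      sgn 3 D₁ * (D₁ : ℤ) := by
    rw [Finset.sum_eq_single_of_mem D₁ hD₁ (fun b hb hne => by rw [hc0 b hb hne]; simp), hc1]
    simp
  have hs2 : ∑ D ∈ Finset.range (N + 1), c D * (D * D) = D₁ * D₁ := by
    rw [Finset.sum_eq_single_of_mem D₁ hD₁ (fun b hb hne => by rw [hc0 b hb hne]; simp), hc1,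
      one_mul]
  rw [hs1] at h14
  rw [hs2] at h15
  have h15' : 1 + D₁ * D₁ + d₀ * d₀ ≤ N := by
    have : (3 - 1) / 2 = 1 := by norm_num
    rw [this, one_mul] at h15
    exact h15
  rcases hDres with hr | hr
  · have hsg : sgn 3 D₁ = 1 := by
      unfold sgn
      rw [if_pos hr]
    rw [hsg, one_mul] at h14
    rcases h6 with rfl | rfl
    · have hd : d₀ = D₁ + 1 := by omega
      exact ⟨D₁, d₀, hd, hr, hD3, hDN, h8, hDdeg, h11, by omega⟩
    · exfalso
      omega
  · have hsg : sgn 3 D₁ = -1 := by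
      unfold sgn
      rw [if_neg (by omega)]
    rw [hsg] at h14
    rcases h6 with rfl | rfl
    · exfalso
      omega
    · have hd : D₁ = d₀ + 1 := by omega
      exact ⟨d₀, D₁, hd, by omega, h7, h8, hDN, h11, hDdeg, by omega⟩

/-- A non-cyclic simple group: its order is not a prime. -/
theorem not_isCyclic_of_card {G : Type u} [Group G] [Finite G] [IsSimpleGroup G]
    (h : ¬ (Nat.card G).Prime) : ¬ IsCyclic G := by
  intro hc
  let _ : CommGroup G := IsCyclic.commGroup
  exact h (IsSimpleGroup.prime_card (α := G))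

/-- Order `4620`, prime `11`: the degrees prime to `11` are `1`, `20`, `21`. -/
theorem deg_4620 (IsDeg : ℕ → Prop) (h : BrauerData 4620 11 IsDeg) :
    ∀ D, IsDeg D → ¬ 11 ∣ D → D = 1 ∨ D = 20 ∨ D = 21 := by
  obtain ⟨n, k, e, d₀, ε, c, h1, h2, h3, h4, h5, h6, h7, h8, h9, h10, h11, h12, h13, h14, h15,
    h16⟩ := h
  have hn1 : n ≠ 1 := by
    rintro rfl
    exact absurd h3 (by decide)
  have he10 : e ≤ 11 - 1 := Nat.le_of_dvd (by norm_num) h4
  have hnk : n * k * e = 420 := by
    have : n * (11 * (k * e)) = 11 * (n * k * e) := by ring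
    omega
  have hcases : (n = 12 ∧ k = 7 ∧ e = 5) ∨ (n = 210 ∧ k = 1 ∧ e = 2) := by
    interval_cases e
    all_goals try omega
    · have hnk' : n * k = 210 := by omega
      have hn : n ≤ 210 := Nat.le_of_dvd (by norm_num) (Dvd.intro k hnk')
      interval_cases n <;> omega
    · have hnk' : n * k = 84 := by omega
      have hn : n ≤ 84 := Nat.le_of_dvd (by norm_num) (Dvd.intro k hnk')
      interval_cases n <;> omega
    · have hnk' : n * k = 42 := by omega
      have hn : n ≤ 42 := Nat.le_of_dvd (by norm_num) (Dvd.intro k hnk')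
      interval_cases n <;> omega
  have hmem : ∀ D, D ∣ 4620 → D ∈ Finset.range (4620 + 1) := fun D hD =>
    Finset.mem_range.mpr (Nat.lt_succ_of_le (Nat.le_of_dvd (by norm_num) hD))
  rcases hcases with ⟨rfl, rfl, rfl⟩ | ⟨rfl, rfl, rfl⟩
  · -- `n = 12`, `k = 7`, `e = 5`: impossible
    exfalso
    have hd22 : 2 * 11 ≤ d₀ := h10 (by norm_num)
    have hq : (11 - 1) / 5 = 2 := by norm_num
    rw [hq] at h15
    have hd48 : d₀ ≤ 48 := by
      have h' : d₀ * d₀ < 49 * 49 := by omega
      have := Nat.mul_self_lt_mul_self_iff.mp h'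
      omega
    have hε : d₀ = 28 ∧ ε = -1 := by
      rcases h6 with rfl | rfl <;> interval_cases d₀ <;> omega
    obtain ⟨rfl, rfl⟩ := hε
    have hc0 : ∀ D, c D = 0 := by
      intro D
      by_contra hc
      obtain ⟨hD3, hDN, hDres, hDk, -⟩ := h12 D hc
      have hD22 : 2 * 11 ≤ D := hDk (by norm_num)
      have hsq := sq_le_sum 4620 c D (hmem D hDN) hc
      have hD55 : D ≤ 55 := by
        have h' : D * D < 56 * 56 := by omega
        have := Nat.mul_self_lt_mul_self_iff.mp h'
        omega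
      interval_cases D <;> omega
    have hs : ∑ D ∈ Finset.range (4620 + 1), c D = 0 := Finset.sum_eq_zero (fun D _ => hc0 D)
    omega
  · -- `n = 210`, `k = 1`, `e = 2`
    have hq : (11 - 1) / 2 = 5 := by norm_num
    rw [hq] at h15
    have hd30 : d₀ ≤ 30 := by
      have h' : d₀ * d₀ < 31 * 31 := by omega
      have := Nat.mul_self_lt_mul_self_iff.mp h'
      omega
    have hε : d₀ = 20 ∧ ε = -1 := by
      rcases h6 with rfl | rfl <;> interval_cases d₀ <;> omega
    obtain ⟨rfl, rfl⟩ := hε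
    have hsupp : ∀ D, c D ≠ 0 → D = 10 ∨ D = 12 ∨ D = 21 := by
      intro D hc
      obtain ⟨hD3, hDN, hDres, -, -⟩ := h12 D hc
      have hsq := sq_le_sum 4620 c D (hmem D hDN) hc
      have hD51 : D ≤ 51 := by
        have h' : D * D < 52 * 52 := by omega
        have := Nat.mul_self_lt_mul_self_iff.mp h'
        omega
      interval_cases D <;> omega
    have e1 := sum_three 4620 c c 10 12 21 (by norm_num) (by norm_num) (by norm_num)
      (by norm_num) (by norm_num) (by norm_num) hsupp (fun D hD => hD)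
    have e2 := sum_three 4620 c (fun D => sgn 11 D * ((c D : ℤ) * (D : ℤ))) 10 12 21
      (by norm_num) (by norm_num) (by norm_num) (by norm_num) (by norm_num) (by norm_num) hsupp
      (fun D hD => by simp [hD])
    have s10 : sgn 11 10 = -1 := by decide
    have s12 : sgn 11 12 = 1 := by decide
    have s21 : sgn 11 21 = -1 := by decide
    rw [e1] at h13
    rw [e2] at h14
    simp only [s10, s12, s21] at h14
    push_cast at h14
    have hc10 : c 10 = 0 := by omega
    have hc12 : c 12 = 0 := by omega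
    intro D hDeg hD11
    rcases h16 rfl D hDeg hD11 with hD | hD | hD
    · exact Or.inl hD
    · exact Or.inr (Or.inl hD)
    · rcases hsupp D hD with rfl | rfl | rfl
      · exact absurd hc10 hD
      · exact absurd hc12 hD
      · exact Or.inr (Or.inr rfl)

/-- **S0983-TB1**: there is no simple group of order `4620`. -/
theorem no_simple_4620 {G : Type u} [Group G] [Finite G] [IsSimpleGroup G] (hBD : StmtBD.{u})
    (h : Nat.card G = 4620) : False := by
  have hnc : ¬ IsCyclic G := not_isCyclic_of_card (by rw [h]; norm_num)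
  have h11 : Fact (Nat.Prime 11) := ⟨by norm_num⟩
  have h3 : Fact (Nat.Prime 3) := ⟨by norm_num⟩
  have hA := hBD G hnc 11 (by norm_num) (by rw [h]; norm_num) (by rw [h]; norm_num)
  have hB := hBD G hnc 3 (by norm_num) (by rw [h]; norm_num) (by rw [h]; norm_num)
  rw [h] at hA hB
  have hdeg := deg_4620 _ hA
  obtain ⟨x, y, hy, hx3, hx, hxN, hyN, hdx, hdy, hsq⟩ := bd3_pair 4620 _ hB
  have hx67 : x ≤ 67 := by
    have h' : x * x < 68 * 68 := by omega
    have := Nat.mul_self_lt_mul_self_iff.mp h'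
    omega
  have hx' : x = 4 ∨ x = 10 := by
    subst hy
    interval_cases x <;> omega
  rcases hx' with rfl | rfl
  · have := hdeg 4 hdx (by norm_num)
    omega
  · have := hdeg 10 hdx (by norm_num)
    omega

end Cfsg.Agent.H71.Census
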