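import Mathlib
import Cfsg.Agent.H71.Parts
import Cfsg.Agent.H71.SylowConj
import Cfsg.Agent.H71.Inv

set_option autoImplicit false

namespace Cfsg.Agent.H71

/-- If `x` centralizes a Sylow 2-subgroup and is conjugate to its inverse, then `x = x⁻¹`. -/
theorem eq_inv_of_mem_centralizer_sylow {G : Type*} [Group G] [Finite G] (S : Sylow 2 G) {x g : G}
    (hx : x ∈ Subgroup.centralizer ((S : Subgroup G) : Set G)) (hg : g * x * g⁻¹ = x⁻¹) :
    x = x⁻¹ := by
  have : Fact (Nat.Prime 2) := ⟨Nat.prime_two⟩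
  rw [Subgroup.mem_centralizer_iff] at hx
  have hg' : g⁻¹ * x * g = x⁻¹ := inv3 hg
  have hS : (S : Subgroup G) ≤ Subgroup.centralizer {x} := by
    intro s hs
    rw [Subgroup.mem_centralizer_singleton_iff]
    exact (hx s hs)
  have hS' : ((g • S : Sylow 2 G) : Subgroup G) ≤ Subgroup.centralizer {x} := by
    intro y hy
    have hy' : g⁻¹ * y * g ∈ S := (mem_smul_sylow_iff g S y).1 hy
    rw [Subgroup.mem_centralizer_singleton_iff]
    have h2 : Commute (g⁻¹ * y * g) x := hx _ hy'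
    have h3 : g⁻¹ * y * g * x⁻¹ = x⁻¹ * (g⁻¹ * y * g) := (h2.inv_right).eq
    calc y * x = g * (g⁻¹ * y * g * (g⁻¹ * x * g)) * g⁻¹ := by group
      _ = g * (g⁻¹ * y * g * x⁻¹) * g⁻¹ := by rw [hg']
      _ = g * (x⁻¹ * (g⁻¹ * y * g)) * g⁻¹ := by rw [h3]
      _ = (g * x⁻¹ * g⁻¹) * y := by group
      _ = x * y := by rw [inv2 hg]
  obtain ⟨c, hc, hcy⟩ := sylow_conj_in_subgroup (Subgroup.centralizer {x}) S (g • S) hS hS'
  rw [Subgroup.mem_centralizer_singleton_iff] at hc
  have hnorm : c⁻¹ * g ∈ Subgroup.normalizer ((S : Subgroup G) : Set G) := by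
    rw [Subgroup.mem_set_normalizer_iff]
    intro n
    have e1 : c⁻¹ * g * n * (c⁻¹ * g)⁻¹ = c⁻¹ * (g * n * g⁻¹) * c := by group
    have e2 : g⁻¹ * (g * n * g⁻¹) * g = n := by group
    constructor
    · intro hn
      have : g * n * g⁻¹ ∈ g • S := by
        rw [mem_smul_sylow_iff, e2]; exact hn
      rw [e1]
      exact (hcy _).1 this
    · intro hn
      rw [e1] at hn
      have : g * n * g⁻¹ ∈ g • S := (hcy _).2 hn
      rw [mem_smul_sylow_iff, e2] at this
      exact this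
  have hinv : (c⁻¹ * g) * x * (c⁻¹ * g)⁻¹ = x⁻¹ := by
    have : (c⁻¹ * g) * x * (c⁻¹ * g)⁻¹ = c⁻¹ * (g * x * g⁻¹) * c := by group
    rw [this, hg]
    have hc' : Commute c x⁻¹ := (Commute.inv_right (show Commute c x from hc))
    rw [mul_assoc, ← hc'.eq, ← mul_assoc, inv_mul_cancel, one_mul]
  obtain ⟨a, ha, hak, hax⟩ := inv_two_part hinv
  have haN : a ∈ Subgroup.normalizer ((S : Subgroup G) : Set G) := by
    have : Subgroup.zpowers (c⁻¹ * g) ≤ Subgroup.normalizer ((S : Subgroup G) : Set G) := by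
      rw [Subgroup.zpowers_le]; exact hnorm
    exact this ha
  have haS : a ∈ S := mem_sylow_of_mem_normalizer S hak haN
  have hcomm := hx a haS
  rw [← hax, hcomm, mul_inv_cancel_right]

end Cfsg.Agent.H71
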