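import Mathlib
import Cfsg.Agent.H81.ExDefs
import Cfsg.Agent.H51.Local

/-! S2948 / S2949 team project EX (helper81), piece EX-K: the subgroup generated by the elements
of odd order of `N`. -/

set_option autoImplicit false
open Cfsg

namespace Cfsg.Agent.H71.Ex

open Cfsg.Agent.H81.Ex
open scoped commutatorElement

universe u

/-- Bezout: `g ^ m ∈ H`, `g ^ n ∈ H`, `m`, `n` coprime: `g ∈ H` -/
theorem mem_of_pow_mem_coprime {X : Type u} [Group X] (H : Subgroup X) {g : X} {m n : ℕ}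
    (hcop : Nat.Coprime m n) (hm : g ^ m ∈ H) (hn : g ^ n ∈ H) : g ∈ H := by
  have hgcd : (m : ℤ) * Nat.gcdA m n + (n : ℤ) * Nat.gcdB m n = 1 := by
    have := Nat.gcd_eq_gcd_ab m n
    rw [hcop] at this
    exact_mod_cast this.symm
  have hx : g = (g ^ m) ^ (Nat.gcdA m n) * (g ^ n) ^ (Nat.gcdB m n) := by
    rw [← zpow_natCast g m, ← zpow_natCast g n, ← zpow_mul, ← zpow_mul, ← zpow_add, hgcd,
      zpow_one]
  rw [hx]
  exact H.mul_mem (H.zpow_mem hm _) (H.zpow_mem hn _)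

/-- a subgroup between `Q` and `N`, not inside `Q`, is `N` when the index is prime -/
theorem le_of_prime_relIndex {X : Type u} [Group X] (Q H N : Subgroup X) (hQH : Q ≤ H)
    (hHN : H ≤ N) (hp : (Q.relIndex N).Prime) (hne : ¬ H ≤ Q) : N ≤ H := by
  have h1 := Subgroup.relIndex_mul_relIndex Q H N hQH hHN
  have h2 : Q.relIndex H ≠ 1 := fun h => hne (Subgroup.relIndex_eq_one.mp h)
  have h3 : Q.relIndex H ∣ Q.relIndex N := Dvd.intro _ h1
  rcases (Nat.Prime.eq_one_or_self_of_dvd hp _ h3) with h | h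
  · exact absurd h h2
  · rw [h] at h1
    have h4 : H.relIndex N = 1 := by
      have hpos : 0 < Q.relIndex N := hp.pos
      exact Nat.eq_of_mul_eq_mul_left hpos (by rw [h1, mul_one])
    exact Subgroup.relIndex_eq_one.mp h4

/-- conjugation by `g` preserves the closure when it maps generators into the closure -/
theorem conj_mem_closure_of_gen {X : Type u} [Group X] (S : Set X) (g : X)
    (hS : ∀ s ∈ S, g * s * g⁻¹ ∈ Subgroup.closure S) :
    ∀ n ∈ Subgroup.closure S, g * n * g⁻¹ ∈ Subgroup.closure S := by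
  intro n hn
  induction hn using Subgroup.closure_induction with
  | mem s hs => exact hS s hs
  | one => simp
  | mul a b _ _ ha hb =>
    have e : g * (a * b) * g⁻¹ = (g * a * g⁻¹) * (g * b * g⁻¹) := by group
    rw [e]; exact Subgroup.mul_mem _ ha hb
  | inv a _ ha =>
    have e : g * a⁻¹ * g⁻¹ = (g * a * g⁻¹)⁻¹ := by group
    rw [e]; exact Subgroup.inv_mem _ ha

/-- a subgroup `A` all of whose elements conjugate `R` into `R` normalizes `R` -/
theorem le_normalizer_of_conj {X : Type u} [Group X] (A R : Subgroup X)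
    (h : ∀ a ∈ A, ∀ r ∈ R, a * r * a⁻¹ ∈ R) : A ≤ Subgroup.normalizer (R : Set X) := by
  intro a ha
  rw [Subgroup.mem_normalizer_iff]
  intro y
  constructor
  · exact h a ha y
  · intro hy
    have := h a⁻¹ (A.inv_mem ha) _ hy
    have e : a⁻¹ * (a * y * a⁻¹) * a⁻¹⁻¹ = y := by group
    rwa [e] at this

/-- `(r q)^m ∈ R q^m` when `q` normalizes `R` -/
theorem mul_pow_mem_of_normalizer {X : Type u} [Group X] (R : Subgroup X) {r q : X} (hr : r ∈ R)
    (hq : q ∈ Subgroup.normalizer (R : Set X)) (m : ℕ) : (r * q) ^ m * (q ^ m)⁻¹ ∈ R := by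
  induction m with
  | zero => simp
  | succ m ih =>
    have hqm : q ^ m ∈ Subgroup.normalizer (R : Set X) := Subgroup.pow_mem _ hq m
    have h1 : q ^ m * r * (q ^ m)⁻¹ ∈ R := (Subgroup.mem_normalizer_iff.mp hqm r).mp hr
    have e : (r * q) ^ (m + 1) * (q ^ (m + 1))⁻¹ =
        ((r * q) ^ m * (q ^ m)⁻¹) * (q ^ m * r * (q ^ m)⁻¹) := by
      rw [pow_succ, pow_succ]
      generalize (r * q) ^ m = A
      generalize q ^ m = B
      group
    rw [e]
    exact R.mul_mem ih h1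

theorem k : StK.{u} := by
  intro X _ _ Q N J hQn hQ2 hQN hidx hJN hw
  haveI := hQn
  obtain ⟨S, hS⟩ : ∃ S : Set X, S = {g : X | g ∈ N ∧ Odd (orderOf g)} := ⟨_, rfl⟩
  have hSN : ∀ s ∈ S, s ∈ N ∧ Odd (orderOf s) := by intro s hs; rw [hS] at hs; exact hs
  obtain ⟨K, hK⟩ : ∃ K : Subgroup X, K = Subgroup.closure S := ⟨_, rfl⟩
  have hSK : ∀ s ∈ S, s ∈ K := by intro s hs; rw [hK]; exact Subgroup.subset_closure hs
  have hKN : K ≤ N := by
    rw [hK, Subgroup.closure_le]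
    intro s hs
    exact (hSN s hs).1
  have hprime : (Q.relIndex N).Prime := by rw [hidx]; exact Nat.prime_three
  -- odd-order generation
  have hgen : Subgroup.closure {g : X | g ∈ K ∧ Odd (orderOf g)} = K := by
    apply le_antisymm
    · rw [Subgroup.closure_le]
      intro g hg
      exact hg.1
    · conv_lhs => rw [hK]
      apply Subgroup.closure_mono
      intro s hs
      exact ⟨hSK s hs, (hSN s hs).2⟩
  -- `N_X(N)` normalizes `K`
  have hNK : Subgroup.normalizer (N : Set X) ≤ Subgroup.normalizer (K : Set X) := by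
    apply le_normalizer_of_conj
    intro g hg n hn
    rw [hK] at hn ⊢
    apply conj_mem_closure_of_gen S g _ n hn
    intro s hs
    apply Subgroup.subset_closure
    rw [hS]
    refine ⟨(Subgroup.mem_normalizer_iff.mp hg s).mp (hSN s hs).1, ?_⟩
    have : orderOf (g * s * g⁻¹) = orderOf s := by
      rw [← MulAut.conj_apply]
      exact MulEquiv.orderOf_eq _ _
    rw [this]
    exact (hSN s hs).2
  have hJK : J ≤ Subgroup.normalizer (K : Set X) := hJN.trans hNK
  have hQK : Q ≤ Subgroup.normalizer (K : Set X) := (hQN.trans Subgroup.le_normalizer).trans hNK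
  -- an element of order 3
  have h3 : 3 ∣ Nat.card ↥N := by
    have := Subgroup.relIndex_dvd_card Q N
    rwa [hidx] at this
  haveI : Fact (Nat.Prime 3) := ⟨Nat.prime_three⟩
  obtain ⟨y', hy'⟩ := exists_prime_orderOf_dvd_card' 3 h3
  have hy3 : orderOf (y' : X) = 3 := by rw [Subgroup.orderOf_coe]; exact hy'
  have hyS : (y' : X) ∈ S := by
    rw [hS]
    exact ⟨y'.2, by rw [hy3]; decide⟩
  have hpow2 : ∀ q ∈ Q, ∃ a : ℕ, q ^ 2 ^ a = 1 := by
    intro q hq
    obtain ⟨a, ha⟩ := hQ2 ⟨q, hq⟩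
    refine ⟨a, ?_⟩
    have := congrArg (fun z : ↥Q => (z : X)) ha
    simpa using this
  have hyQ : (y' : X) ∉ Q := by
    intro hyq
    obtain ⟨a, ha⟩ := hpow2 _ hyq
    have hd : orderOf (y' : X) ∣ 2 ^ a := orderOf_dvd_of_pow_eq_one ha
    rw [hy3] at hd
    have := (Nat.Prime.dvd_of_dvd_pow Nat.prime_three hd)
    omega
  -- `K ⊔ Q = N`
  have hKQN : K ⊔ Q = N := by
    apply le_antisymm (sup_le hKN hQN)
    apply le_of_prime_relIndex Q (K ⊔ Q) N le_sup_right (sup_le hKN hQN) hprime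
    intro hle
    exact hyQ (hle (Subgroup.mem_sup_left (hSK _ hyS)))
  have hQKidx : Q.relIndex K = 3 := by
    have := Subgroup.relIndex_sup_right K Q
    rw [hKQN, hidx] at this
    exact this.symm
  -- `O₂(K) = K ⊓ Q`
  have hPK : pCoreOf 2 K ≤ K := Cfsg.Agent.H51.pCoreOf_le 2 K
  have hP2 : IsPGroup 2 ↥(pCoreOf 2 K) := Cfsg.Agent.H51.pCoreOf_isPGroup 2 K
  have hPQ : pCoreOf 2 K ≤ Q := by
    intro p hp
    have h1 : p ^ 3 ∈ Q := by
      have := Subgroup.pow_relIndex_mem Q (hPK hp)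
      rwa [hQKidx] at this
    obtain ⟨a, ha⟩ := hP2 ⟨p, hp⟩
    have h2 : p ^ 2 ^ a = 1 := by
      have := congrArg (fun z : ↥(pCoreOf 2 K) => (z : X)) ha
      simpa using this
    have hcop : Nat.Coprime 3 (2 ^ a) := Nat.Coprime.pow_right a (by norm_num)
    exact mem_of_pow_mem_coprime Q hcop h1 (by rw [h2]; exact Q.one_mem)
  have hKQP : K ⊓ Q ≤ pCoreOf 2 K := by
    apply Cfsg.Agent.H51.le_pCoreOf 2 inf_le_left _ (hQ2.to_le inf_le_right)
    apply le_normalizer_of_conj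
    intro k hk r hr
    exact ⟨K.mul_mem (K.mul_mem hk hr.1) (K.inv_mem hk), hQn.conj_mem r hr.2 k⟩
  have hPeq : pCoreOf 2 K = K ⊓ Q := le_antisymm (le_inf hPK hPQ) hKQP
  have hPidx : (pCoreOf 2 K).relIndex K = 3 := by
    rw [hPeq, Subgroup.inf_relIndex_left]
    exact hQKidx
  -- `[K, J] = K`
  have hRK : ⁅K, J⁆ ≤ K := by
    rw [Subgroup.commutator_le]
    intro k hk j hj
    have h1 : j * k⁻¹ * j⁻¹ ∈ K :=
      (Subgroup.mem_normalizer_iff.mp (hJK hj) k⁻¹).mp (K.inv_mem hk)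
    have e : ⁅k, j⁆ = k * (j * k⁻¹ * j⁻¹) := by
      rw [commutatorElement_def]; group
    rw [e]
    exact K.mul_mem hk h1
  have hKR : K ≤ Subgroup.normalizer ((⁅K, J⁆ : Subgroup X) : Set X) := by
    apply le_normalizer_of_conj
    intro k hk r hr
    rw [Subgroup.commutator_def] at hr ⊢
    apply conj_mem_closure_of_gen _ k _ r hr
    rintro _ ⟨k', hk', j, hj, rfl⟩
    have e : k * ⁅k', j⁆ * k⁻¹ = ⁅k * k', j⁆ * ⁅k, j⁆⁻¹ := by
      simp only [commutatorElement_def]; group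
    rw [e, ← Subgroup.commutator_def]
    exact Subgroup.mul_mem _ (Subgroup.commutator_mem_commutator (K.mul_mem hk hk') hj)
      (Subgroup.inv_mem _ (Subgroup.commutator_mem_commutator hk hj))
  obtain ⟨x, hxN, j, hjJ, hxj⟩ := hw
  have hxKQ : x ∈ K ⊔ Q := by rw [hKQN]; exact hxN
  obtain ⟨k0, hk0, q0, hq0, rfl⟩ := Subgroup.mem_sup_of_normal_right.mp hxKQ
  have hk0j : ⁅k0, j⁆ ∉ Q := by
    intro hc
    apply hxj
    have h1 : q0 * (j * q0⁻¹ * j⁻¹) ∈ Q := Q.mul_mem hq0 (hQn.conj_mem _ (Q.inv_mem hq0) j)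
    have h2 : k0 * (q0 * (j * q0⁻¹ * j⁻¹)) * k0⁻¹ ∈ Q := hQn.conj_mem _ h1 k0
    have e : k0 * q0 * j * (k0 * q0)⁻¹ * j⁻¹ =
        (k0 * (q0 * (j * q0⁻¹ * j⁻¹)) * k0⁻¹) * ⁅k0, j⁆ := by
      rw [commutatorElement_def]; group
    rw [e]
    exact Q.mul_mem h2 hc
  have hRQN : N ≤ ⁅K, J⁆ ⊔ Q := by
    apply le_of_prime_relIndex Q (⁅K, J⁆ ⊔ Q) N le_sup_right (sup_le (hRK.trans hKN) hQN) hprime
    intro hle
    exact hk0j (hle (Subgroup.mem_sup_left (Subgroup.commutator_mem_commutator hk0 hjJ)))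
  have hKR' : K ≤ ⁅K, J⁆ := by
    conv_lhs => rw [hK]
    rw [Subgroup.closure_le]
    intro s hs
    have hsRQ : s ∈ ⁅K, J⁆ ⊔ Q := hRQN (hSN s hs).1
    obtain ⟨r, hr, q, hq, rfl⟩ := Subgroup.mem_sup_of_normal_right.mp hsRQ
    have hqK : q ∈ K := by
      have e : q = r⁻¹ * (r * q) := by group
      rw [e]
      exact K.mul_mem (K.inv_mem (hRK hr)) (hSK _ hs)
    have h1 := mul_pow_mem_of_normalizer (⁅K, J⁆) hr (hKR hqK) (orderOf (r * q))
    rw [pow_orderOf_eq_one, one_mul] at h1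
    have h2 : q ^ orderOf (r * q) ∈ ⁅K, J⁆ := by
      have := Subgroup.inv_mem _ h1
      rwa [inv_inv] at this
    obtain ⟨a, ha⟩ := hpow2 q hq
    have hcop : Nat.Coprime (orderOf (r * q)) (2 ^ a) :=
      Nat.Coprime.pow_right a (Nat.Coprime.symm (Nat.coprime_two_left.mpr (hSN _ hs).2))
    have hqR : q ∈ ⁅K, J⁆ :=
      mem_of_pow_mem_coprime _ hcop h2 (by rw [ha]; exact Subgroup.one_mem _)
    exact Subgroup.mul_mem _ hr hqR
  exact ⟨K, hKN, hgen, le_antisymm hRK hKR', hPQ, hPidx, hQK, hKQN⟩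

example : Cfsg.Agent.H81.Ex.StK.{u} := k

end Cfsg.Agent.H71.Ex
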