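import Mathlib
import Cfsg.Agent.H81.ExDefs

/-! S2948 / S2949 team project EX (helper81), piece EX-P3: the prime is 3. -/

set_option autoImplicit false
open Cfsg

namespace Cfsg.Agent.H71.Ex

open Cfsg.Agent.H81.Ex

universe u

theorem p3 : StP3.{u} := by
  intro X _ _ Q C U N J hQn hQC hQN hNU hodd hprime h6 hCJ hw
  obtain ⟨x, hxN, j, hjJ, hxj⟩ := hw
  have hxC : x ∉ C := fun hx => hxj (hCJ x hx j hjJ)
  refine ⟨?_, fun hNC => hxC (hNC hxN)⟩
  by_contra hne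
  set p := Q.relIndex N with hp
  have hp2 : p ≠ 2 := by
    intro h2
    have hdvd : p ∣ Q.relIndex U := by
      rw [← Subgroup.relIndex_mul_relIndex Q N U hQN hNU]
      exact Dvd.intro _ rfl
    rw [h2] at hdvd
    exact (Nat.not_even_iff_odd.mpr hodd) (even_iff_two_dvd.mpr hdvd)
  have hcop : Nat.Coprime p 6 := by
    rw [Nat.Prime.coprime_iff_not_dvd hprime]
    intro hd
    have h6' : (6 : ℕ) = 2 * 3 := by norm_num
    rw [h6'] at hd
    rcases (Nat.Prime.dvd_mul hprime).mp hd with h | h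
    · exact hp2 ((Nat.prime_dvd_prime_iff_eq hprime Nat.prime_two).mp h)
    · exact hne ((Nat.prime_dvd_prime_iff_eq hprime Nat.prime_three).mp h)
  have hxp : x ^ p ∈ C := hQC (Subgroup.pow_relIndex_mem Q hxN)
  have hx6 : x ^ 6 ∈ C := h6 x (hNU hxN)
  have hgcd : (p : ℤ) * Nat.gcdA p 6 + (6 : ℤ) * Nat.gcdB p 6 = 1 := by
    have := Nat.gcd_eq_gcd_ab p 6
    rw [hcop] at this
    exact_mod_cast this.symm
  have hx : x = (x ^ p) ^ (Nat.gcdA p 6) * (x ^ 6) ^ (Nat.gcdB p 6) := by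
    rw [← zpow_natCast x p, ← zpow_natCast x 6, ← zpow_mul, ← zpow_mul, ← zpow_add]
    have h6c : ((6 : ℕ) : ℤ) = 6 := by norm_num
    rw [h6c, hgcd, zpow_one]
  apply hxC
  rw [hx]
  exact C.mul_mem (C.zpow_mem hxp _) (C.zpow_mem hx6 _)

example : Cfsg.Agent.H81.Ex.StP3.{u} := p3

end Cfsg.Agent.H71.Ex
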