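import Mathlib
import Cfsg.Agent.H81.ExDefs

/-! S2948 / S2949 team project EX (helper81), piece EX-PREPU: `U = Q ⟨odd elements of M⟩`. -/

set_option autoImplicit false
open Cfsg

namespace Cfsg.Agent.H71.Ex

open Cfsg.Agent.H81.Ex

universe u

/-- commutator in a normal subgroup: the images commute -/
theorem mk_comm_of_mem {X : Type u} [Group X] (N : Subgroup X) [N.Normal] {x y : X}
    (h : x * y * x⁻¹ * y⁻¹ ∈ N) :
    QuotientGroup.mk' N x * QuotientGroup.mk' N y =
      QuotientGroup.mk' N y * QuotientGroup.mk' N x := by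
  have h1 : QuotientGroup.mk' N (x * y * x⁻¹ * y⁻¹) = 1 := (QuotientGroup.eq_one_iff _).mpr h
  rw [map_mul, map_mul, map_mul, map_inv, map_inv] at h1
  exact commutatorElement_eq_one_iff_mul_comm.mp h1

/-- the images commute: commutator in the normal subgroup -/
theorem mem_of_mk_comm {X : Type u} [Group X] (N : Subgroup X) [N.Normal] {x y : X}
    (h : QuotientGroup.mk' N x * QuotientGroup.mk' N y =
      QuotientGroup.mk' N y * QuotientGroup.mk' N x) :
    x * y * x⁻¹ * y⁻¹ ∈ N := by
  have h1 : QuotientGroup.mk' N (x * y * x⁻¹ * y⁻¹) = 1 := by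
    rw [map_mul, map_mul, map_mul, map_inv, map_inv]
    exact commutatorElement_eq_one_iff_mul_comm.mpr h
  exact (QuotientGroup.eq_one_iff _).mp h1

/-- the closure of a pairwise commuting set is commutative -/
theorem closure_comm_of_comm {Y : Type u} [Group Y] (S : Set Y)
    (hS : ∀ s ∈ S, ∀ t ∈ S, s * t = t * s) :
    ∀ a ∈ Subgroup.closure S, ∀ b ∈ Subgroup.closure S, a * b = b * a := by
  have step1 : ∀ a ∈ Subgroup.closure S, ∀ t ∈ S, t * a = a * t := by
    intro a ha
    have hle : Subgroup.closure S ≤ Subgroup.centralizer S := by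
      rw [Subgroup.closure_le]
      intro s hs
      rw [SetLike.mem_coe, Subgroup.mem_centralizer_iff]
      intro t ht
      exact hS t ht s hs
    exact Subgroup.mem_centralizer_iff.mp (hle ha)
  intro a ha b hb
  have hle : Subgroup.closure S ≤ Subgroup.centralizer ({a} : Set Y) := by
    rw [Subgroup.closure_le]
    intro t ht
    rw [SetLike.mem_coe, Subgroup.mem_centralizer_iff]
    intro a' ha'
    rw [Set.mem_singleton_iff] at ha'
    subst ha'
    exact (step1 a' ha t ht).symm
  exact Subgroup.mem_centralizer_iff.mp (hle hb) a (Set.mem_singleton a)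

/-- the closure of a conjugation-invariant set is normal -/
theorem closure_normal_of_conj {X : Type u} [Group X] (S : Set X)
    (hS : ∀ s ∈ S, ∀ g : X, g * s * g⁻¹ ∈ S) : (Subgroup.closure S).Normal := by
  constructor
  intro n hn g
  induction hn using Subgroup.closure_induction with
  | mem s hs => exact Subgroup.subset_closure (hS s hs g)
  | one => simp
  | mul a b _ _ ha hb =>
    have e : g * (a * b) * g⁻¹ = (g * a * g⁻¹) * (g * b * g⁻¹) := by group
    rw [e]; exact Subgroup.mul_mem _ ha hb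
  | inv a _ ha =>
    have e : g * a⁻¹ * g⁻¹ = (g * a * g⁻¹)⁻¹ := by group
    rw [e]; exact Subgroup.inv_mem _ ha

theorem orderOf_conj_eq {X : Type u} [Group X] (g s : X) :
    orderOf (g * s * g⁻¹) = orderOf s := by
  rw [← MulAut.conj_apply]
  exact MulEquiv.orderOf_eq _ _

theorem prepU : StPrepU.{u} := by
  intro X _ _ Q C M hQn hCn hMn hQC h1 h2
  obtain ⟨S, hS⟩ : ∃ S : Set X, S = {g : X | g ∈ M ∧ Odd (orderOf g)} := ⟨_, rfl⟩
  have hU : oddHull Q M = Q ⊔ Subgroup.closure S := by rw [hS]; rfl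
  have hSM : ∀ s ∈ S, s ∈ M ∧ Odd (orderOf s) := by intro s hs; rw [hS] at hs; exact hs
  have hSn : (Subgroup.closure S).Normal := by
    apply closure_normal_of_conj
    intro s hs g
    rw [hS]
    exact ⟨hMn.conj_mem s (hSM s hs).1 g, by rw [orderOf_conj_eq]; exact (hSM s hs).2⟩
  have hUn : (oddHull Q M).Normal := by
    rw [hU]
    haveI := hQn
    haveI := hSn
    infer_instance
  haveI := hQn
  haveI := hCn
  have hπS : ∀ s ∈ QuotientGroup.mk' Q '' S, ∀ t ∈ QuotientGroup.mk' Q '' S, s * t = t * s := by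
    rintro _ ⟨s, hs, rfl⟩ _ ⟨t, ht, rfl⟩
    exact mk_comm_of_mem Q (h1 s (hSM s hs).1 t (hSM t ht).1 (hSM s hs).2 (hSM t ht).2)
  have hBc := closure_comm_of_comm _ hπS
  have hUB : ∀ x ∈ oddHull Q M, QuotientGroup.mk' Q x ∈
      Subgroup.closure (QuotientGroup.mk' Q '' S) := by
    intro x hx
    have hle : oddHull Q M ≤ (Subgroup.closure (QuotientGroup.mk' Q '' S)).comap
        (QuotientGroup.mk' Q) := by
      rw [hU]
      refine sup_le ?_ ?_
      · intro q hq
        rw [Subgroup.mem_comap]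
        have : QuotientGroup.mk' Q q = 1 := (QuotientGroup.eq_one_iff q).mpr hq
        rw [this]; exact Subgroup.one_mem _
      · rw [Subgroup.closure_le]
        intro s hs
        exact Subgroup.subset_closure ⟨s, hs, rfl⟩
    exact hle hx
  have hcomm : ∀ x ∈ oddHull Q M, ∀ y ∈ oddHull Q M, x * y * x⁻¹ * y⁻¹ ∈ Q :=
    fun x hx y hy => mem_of_mk_comm Q (hBc _ (hUB x hx) _ (hUB y hy))
  have hBodd : ∀ b ∈ Subgroup.closure (QuotientGroup.mk' Q '' S), Odd (orderOf b) := by
    intro b hb
    induction hb using Subgroup.closure_induction with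
    | mem t ht =>
      obtain ⟨s, hs, rfl⟩ := ht
      exact Odd.of_dvd_nat (hSM s hs).2 (orderOf_map_dvd _ s)
    | one => simp
    | mul a b ha hb iha ihb =>
      have hc : Commute a b := hBc a ha b hb
      exact Odd.of_dvd_nat (iha.mul ihb)
        (dvd_trans hc.orderOf_mul_dvd_lcm (Nat.lcm_dvd_mul _ _))
    | inv a _ iha => rwa [orderOf_inv]
  have hidx : Q.relIndex (oddHull Q M) =
      Nat.card ↥((oddHull Q M).map (QuotientGroup.mk' Q)) := by
    have h := Subgroup.relIndex_comap (⊥ : Subgroup (X ⧸ Q)) (QuotientGroup.mk' Q) (oddHull Q M)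
    rw [Subgroup.relIndex_bot_left, MonoidHom.comap_bot, QuotientGroup.ker_mk'] at h
    exact h
  have hodd : Odd (Q.relIndex (oddHull Q M)) := by
    rw [hidx]
    by_contra hne
    rw [Nat.not_odd_iff_even] at hne
    haveI : Fact (Nat.Prime 2) := ⟨Nat.prime_two⟩
    obtain ⟨z, hz⟩ := exists_prime_orderOf_dvd_card' 2 (even_iff_two_dvd.mp hne)
    have hzB : (z : X ⧸ Q) ∈ Subgroup.closure (QuotientGroup.mk' Q '' S) := by
      obtain ⟨x, hx, hxz⟩ := z.2
      rw [← hxz]; exact hUB x hx
    have h3 := hBodd _ hzB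
    rw [Subgroup.orderOf_coe, hz] at h3
    exact absurd h3 (by decide)
  let D : Subgroup X :=
    { carrier := {x | x ∈ oddHull Q M ∧ x ^ 6 ∈ C}
      mul_mem' := by
        rintro x y ⟨hx, hx6⟩ ⟨hy, hy6⟩
        refine ⟨Subgroup.mul_mem _ hx hy, ?_⟩
        have hc : Commute (QuotientGroup.mk' C x) (QuotientGroup.mk' C y) :=
          mk_comm_of_mem C (hQC (hcomm x hx y hy))
        have e1 : QuotientGroup.mk' C (x ^ 6) = 1 := (QuotientGroup.eq_one_iff _).mpr hx6
        have e2 : QuotientGroup.mk' C (y ^ 6) = 1 := (QuotientGroup.eq_one_iff _).mpr hy6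
        have e3 : QuotientGroup.mk' C ((x * y) ^ 6) = 1 := by
          rw [map_pow, map_mul, hc.mul_pow, ← map_pow, ← map_pow, e1, e2, one_mul]
        exact (QuotientGroup.eq_one_iff _).mp e3
      one_mem' := ⟨Subgroup.one_mem _, by simp⟩
      inv_mem' := by
        rintro x ⟨hx, hx6⟩
        exact ⟨Subgroup.inv_mem _ hx, by rw [inv_pow]; exact C.inv_mem hx6⟩ }
  have hUD : oddHull Q M ≤ D := by
    rw [hU]
    refine sup_le ?_ ?_
    · intro q hq
      exact ⟨by rw [hU]; exact Subgroup.mem_sup_left hq, hQC (Q.pow_mem hq 6)⟩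
    · rw [Subgroup.closure_le]
      intro s hs
      exact ⟨by rw [hU]; exact Subgroup.mem_sup_right (Subgroup.subset_closure hs),
        (h2 s (hSM s hs).1 s (hSM s hs).1).2⟩
  exact ⟨hUn, hcomm, hodd, fun x hx => (hUD hx).2⟩

example : Cfsg.Agent.H81.Ex.StPrepU.{u} := prepU

end Cfsg.Agent.H71.Ex
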