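import Mathlib
import Cfsg.Agent.H81.ExDefs
import Cfsg.Agent.H39.SxLift
import Cfsg.Agent.H51.JcNORM
import Cfsg.Agent.H51.Local

/-! S2948 / S2949 team project EX (helper81), piece EX-UP: from `↥L` to `G`. -/

set_option autoImplicit false
open Cfsg

namespace Cfsg.Agent.H71.Ex

open Cfsg.Agent.H81.Ex

universe u

/-- `O_p` of a subgroup commutes with an injective homomorphism -/
theorem pCoreOf_map_of_injective {X Y : Type u} [Group X] [Group Y] (p : ℕ) (H : Subgroup X)
    (f : X →* Y) (hf : Function.Injective f) :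
    pCoreOf p (H.map f) = (pCoreOf p H).map f := by
  apply le_antisymm
  · intro z hz
    have hzH : z ∈ H.map f := Cfsg.Agent.H51.pCoreOf_le p (H.map f) hz
    obtain ⟨x, hx, rfl⟩ := hzH
    have hle : (pCoreOf p (H.map f)).comap f ⊓ H ≤ pCoreOf p H := by
      apply Cfsg.Agent.H51.le_pCoreOf p inf_le_right
      · intro h hh
        rw [Subgroup.mem_normalizer_iff]
        have hn := Cfsg.Agent.H51.le_normalizer_pCoreOf p (H.map f) (Subgroup.mem_map_of_mem f hh)
        rw [Subgroup.mem_normalizer_iff] at hn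
        intro y
        rw [Subgroup.mem_inf, Subgroup.mem_inf, Subgroup.mem_comap, Subgroup.mem_comap, map_mul,
          map_mul, map_inv]
        constructor
        · rintro ⟨hy1, hy2⟩
          exact ⟨(hn (f y)).mp hy1, H.mul_mem (H.mul_mem hh hy2) (H.inv_mem hh)⟩
        · rintro ⟨hy1, hy2⟩
          refine ⟨(hn (f y)).mpr hy1, ?_⟩
          have e : y = h⁻¹ * (h * y * h⁻¹) * h := by group
          rw [e]
          exact H.mul_mem (H.mul_mem (H.inv_mem hh) hy2) hh
      · exact ((Cfsg.Agent.H51.pCoreOf_isPGroup p (H.map f)).comap_of_injective f hf).to_le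
          inf_le_left
    exact ⟨x, hle (Subgroup.mem_inf.mpr ⟨Subgroup.mem_comap.mpr hz, hx⟩), rfl⟩
  · apply Cfsg.Agent.H51.le_pCoreOf p (Subgroup.map_mono (Cfsg.Agent.H51.pCoreOf_le p H))
    · rintro _ ⟨h, hh, rfl⟩
      have hn := Cfsg.Agent.H51.le_normalizer_pCoreOf p H hh
      rw [Subgroup.mem_normalizer_iff] at hn
      rw [Subgroup.mem_normalizer_iff]
      intro z
      constructor
      · rintro ⟨y, hy, rfl⟩
        exact ⟨h * y * h⁻¹, (hn y).mp hy, by rw [map_mul, map_mul, map_inv]⟩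
      · rintro ⟨y, hy, hyz⟩
        refine ⟨h⁻¹ * y * h, ?_, ?_⟩
        · have e : h * (h⁻¹ * y * h) * h⁻¹ = y := by group
          exact (hn _).mpr (by rw [e]; exact hy)
        · rw [map_mul, map_mul, map_inv, hyz]; group
    · exact (Cfsg.Agent.H51.pCoreOf_isPGroup p H).map f

theorem up : StUp.{u} := by
  intro G _ _ L J K' hJL hgen hcomm hPQ hidx hW
  have hinj : Function.Injective L.subtype := Subgroup.subtype_injective L
  have hpc := pCoreOf_map_of_injective 2 K' L.subtype hinj
  have hc : ⁅K'.map L.subtype, J⁆ = K'.map L.subtype := by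
    have e : (J.subgroupOf L).map L.subtype = J := Subgroup.map_subgroupOf_eq_of_le hJL
    conv_rhs => rw [← hcomm]
    rw [Subgroup.map_commutator, e]
  refine ⟨?_, hc, ?_, ?_, ?_, ?_⟩
  · conv_rhs => rw [← hgen]
    rw [MonoidHom.map_closure]
    congr 1
    ext g
    constructor
    · rintro ⟨⟨x, hx, rfl⟩, hodd⟩
      exact ⟨x, ⟨hx, by simpa [Subgroup.orderOf_coe] using hodd⟩, rfl⟩
    · rintro ⟨x, ⟨hx, hodd⟩, rfl⟩
      exact ⟨Subgroup.mem_map_of_mem _ hx, by simpa [Subgroup.orderOf_coe] using hodd⟩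
  · rw [hpc]
    exact Subgroup.map_mono hPQ
  · rw [hpc, Subgroup.relIndex_map_map_of_injective _ _ hinj]
    exact hidx
  · unfold wOf
    rw [hpc, Cfsg.Agent.H39.Sx.omegaCenterOf_map_subtype, ← Subgroup.map_commutator]
    intro h
    apply hW
    unfold wOf
    exact (Subgroup.map_eq_bot_iff_of_injective _ hinj).mp h
  · exact Cfsg.Agent.H51.Jc.le_normalizer_of_comm hc

example : Cfsg.Agent.H81.Ex.StUp.{u} := up

end Cfsg.Agent.H71.Ex
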