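import Mathlib

set_option autoImplicit false

namespace Cfsg.Agent.H71

/-- In a finite `p`-group, `p`-th powers lie in the Frattini subgroup. -/
theorem pow_p_mem_frattini {P : Type*} [Group P] [Finite P] {p : ℕ} [Fact p.Prime]
    (hP : IsPGroup p P) (g : P) : g ^ p ∈ frattini P := by
  have hprime : p.Prime := Fact.out
  have hnil : Group.IsNilpotent P := hP.isNilpotent
  rw [frattini, Order.radical]
  simp only [Subgroup.mem_iInf]
  intro M hM
  have hMn : M.Normal :=
    Subgroup.NormalizerCondition.normal_of_coatom M Group.normalizerCondition_of_isNilpotent hM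
  by_contra hg
  have hlt : M < M ⊔ Subgroup.zpowers (g ^ p) := by
    refine lt_of_le_of_ne le_sup_left (fun h => hg ?_)
    rw [h]; exact Subgroup.mem_sup_right (Subgroup.mem_zpowers _)
  have htop : M ⊔ Subgroup.zpowers (g ^ p) = ⊤ := hM.2 _ hlt
  have hgmem : g ∈ M ⊔ Subgroup.zpowers (g ^ p) := by rw [htop]; trivial
  rw [← SetLike.mem_coe, Subgroup.normal_mul, Set.mem_mul] at hgmem
  obtain ⟨m, hm, z, hz, hmz⟩ := hgmem
  obtain ⟨j, hj⟩ := Subgroup.mem_zpowers_iff.1 hz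
  obtain ⟨k, hk⟩ := hP g
  have h1 : g ^ (1 - (p : ℤ) * j) = m := by
    rw [zpow_sub, zpow_one, zpow_mul, zpow_natCast, hj, mul_inv_eq_iff_eq_mul]
    exact hmz.symm
  have hcop : IsCoprime (1 - (p : ℤ) * j) ((p : ℤ) ^ k) := by
    apply IsCoprime.pow_right
    exact ⟨1, j, by ring⟩
  obtain ⟨a, b, hab⟩ := hcop
  have h2 : g = m ^ a := by
    have h3 : g ^ ((p : ℤ) ^ k) = 1 := by
      rw [← Nat.cast_pow, zpow_natCast]; exact hk
    calc g = g ^ (a * (1 - (p : ℤ) * j) + b * (p : ℤ) ^ k) := by rw [hab, zpow_one]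
      _ = (g ^ (1 - (p : ℤ) * j)) ^ a * (g ^ ((p : ℤ) ^ k)) ^ b := by
          rw [zpow_add, mul_comm a, mul_comm b, zpow_mul, zpow_mul]
      _ = m ^ a := by rw [h1, h3, one_zpow, mul_one]
  apply hg
  rw [h2]
  exact M.pow_mem (M.zpow_mem hm a) p

end Cfsg.Agent.H71
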