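import Mathlib
import Cfsg.Agent.H10.HO.Defs2

/-! S2075 team project HO (helper10), piece HO-HG: an automorphism fixing `x, z, t` is trivial. -/

set_option autoImplicit false

namespace Cfsg.Agent.H71.Ho

open Cfsg.Agent.H10.HO

universe u

/-- an automorphism fixing `x, z, t` fixes every word in them -/
theorem evS_fixed {G : Type u} [Group G] (x z t : G) (β : MulAut G) (hx : β x = x)
    (hz : β z = z) (ht : β t = t) : ∀ w : List ℕ, β (evS x z t w) = evS x z t w := by
  intro w
  induction w with
  | nil => simp [evS]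
  | cons a w ih =>
    match a with
    | 0 =>
      have e : evS x z t (0 :: w) = x * evS x z t w := rfl
      rw [e, map_mul, hx, ih]
    | 1 =>
      have e : evS x z t (1 :: w) = x⁻¹ * evS x z t w := rfl
      rw [e, map_mul, map_inv, hx, ih]
    | 2 =>
      have e : evS x z t (2 :: w) = z * evS x z t w := rfl
      rw [e, map_mul, hz, ih]
    | 3 =>
      have e : evS x z t (3 :: w) = z⁻¹ * evS x z t w := rfl
      rw [e, map_mul, map_inv, hz, ih]
    | (m + 4) =>
      have e : evS x z t ((m + 4) :: w) = t * evS x z t w := rfl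
      rw [e, map_mul, ht, ih]

theorem hg : StHG.{u} := by
  intro G _ x z t n k D hCz hnz hD hz1 hz2 hgen β hx hz ht
  have hfix := evS_fixed x z t β hx hz ht
  have hzk : β (z ^ k) = z ^ k := by rw [map_pow, hz]
  have h1 : β n * z * (β n)⁻¹ = n * z * n⁻¹ := by
    have h := congrArg β hnz
    rw [map_mul, map_mul, map_inv, hz, hzk] at h
    rw [h, hnz]
  have hw0z : (n⁻¹ * β n) * z = z * (n⁻¹ * β n) := by
    calc (n⁻¹ * β n) * z = n⁻¹ * (β n * z * (β n)⁻¹) * β n := by group
      _ = n⁻¹ * (n * z * n⁻¹) * β n := by rw [h1]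
      _ = z * (n⁻¹ * β n) := by group
  have hw0D : ∀ p ∈ D, (n⁻¹ * β n) * evS x z t p.1 = evS x z t p.1 * (n⁻¹ * β n) := by
    intro p hp
    have h2 : β n * evS x z t p.1 * (β n)⁻¹ = n * evS x z t p.1 * n⁻¹ := by
      have h := congrArg β (hD p hp)
      rw [map_mul, map_mul, map_inv, hfix, hfix] at h
      rw [h, hD p hp]
    calc (n⁻¹ * β n) * evS x z t p.1
        = n⁻¹ * (β n * evS x z t p.1 * (β n)⁻¹) * β n := by group
      _ = n⁻¹ * (n * evS x z t p.1 * n⁻¹) * β n := by rw [h2]
      _ = evS x z t p.1 * (n⁻¹ * β n) := by group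
  obtain ⟨a, ha, h | h⟩ := hCz (n⁻¹ * β n) hw0z
  · have ha0 : a = 0 := by
      by_contra hne
      obtain ⟨p, hp, hne'⟩ := hz1 a (Nat.pos_of_ne_zero hne) ha
      apply hne'
      rw [← h]
      exact hw0D p hp
    have hβn : β n = n := by
      rw [ha0, pow_zero] at h
      exact (inv_mul_eq_one.mp h).symm
    ext g
    rw [MulAut.one_apply]
    have hg' : g ∈ Subgroup.closure ({x, z, t, n} : Set G) := by rw [hgen]; trivial
    induction hg' using Subgroup.closure_induction with
    | mem y hy =>
      simp only [Set.mem_insert_iff, Set.mem_singleton_iff] at hy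
      rcases hy with rfl | rfl | rfl | rfl
      exacts [hx, hz, ht, hβn]
    | one => simp
    | mul a b _ _ ha hb => rw [map_mul, ha, hb]
    | inv a _ ha => rw [map_inv, ha]
  · exfalso
    obtain ⟨p, hp, hne'⟩ := hz2 a ha
    apply hne'
    rw [← h]
    exact hw0D p hp

example : Cfsg.Agent.H10.HO.StHG.{u} := hg

end Cfsg.Agent.H71.Ho
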