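import Mathlib
import Cfsg.Agent.H28.JkDefs

/-!
# JK-TI (helper28's JZ-KILL route, S2951 / S2952)

`kti : Cfsg.Agent.H28.Jk.StKTI`: if every element of `V = Ω₁Z(O₂(L))` is `L`-conjugate into
`C(J)` and every 2-local over `J` is inside the self-normalizing 2-local `L`, then
`C_G(u) ≤ L` for `u ∈ V#` and `V` is TI modulo `L`.
-/

set_option autoImplicit false
open Cfsg

namespace Cfsg.Agent.H71.Jk

universe u

/-- Elements of `Ω₁(Z(X))` lie in `X`, centralize `X` and are of exponent 2. -/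
theorem kti_mem_omega {G : Type u} [Group G] (X : Subgroup G) {x : G}
    (hx : x ∈ omegaCenterOf X) :
    x ∈ X ∧ x ∈ Subgroup.centralizer (X : Set G) ∧ x ^ 2 = 1 := by
  unfold omegaCenterOf omegaOne at hx
  induction hx using Subgroup.closure_induction with
  | mem y hy => exact ⟨(Subgroup.mem_inf.mp hy.1).1, (Subgroup.mem_inf.mp hy.1).2, hy.2⟩
  | one => exact ⟨one_mem _, one_mem _, one_pow _⟩
  | mul a b _ _ ha hb =>
    refine ⟨mul_mem ha.1 hb.1, mul_mem ha.2.1 hb.2.1, ?_⟩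
    have hc : b * a = a * b := (Subgroup.mem_centralizer_iff.mp ha.2.1) b hb.1
    have hc' : Commute a b := hc.symm
    rw [hc'.mul_pow, ha.2.2, hb.2.2, one_mul]
  | inv a _ ha =>
    refine ⟨inv_mem ha.1, inv_mem ha.2.1, ?_⟩
    rw [inv_pow, ha.2.2, inv_one]

/-- A conjugate of a 2-local subgroup is a 2-local subgroup. -/
theorem kti_twoLocal_conj {G : Type u} [Group G] {L : Subgroup G} (h : IsTwoLocal L) (g : G) :
    IsTwoLocal (L.map (MulAut.conj g).toMonoidHom) := by
  obtain ⟨P, hP, hP1, rfl⟩ := h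
  refine ⟨P.map (MulAut.conj g).toMonoidHom, hP.map _, ?_, ?_⟩
  · intro hb
    apply hP1
    exact (Subgroup.map_eq_bot_iff_of_injective P (MulAut.conj g).injective).mp hb
  · exact Subgroup.map_equiv_normalizer_eq P (MulAut.conj g)

/-- In a finite group, `x L x⁻¹ ≤ L` forces `x ∈ N_G(L)`. -/
theorem kti_mem_normalizer {G : Type u} [Group G] [Finite G] (L : Subgroup G) (x : G)
    (h : L.map (MulAut.conj x).toMonoidHom ≤ L) : x ∈ Subgroup.normalizer (L : Set G) := by
  have hcard : Nat.card ↥(L.map (MulAut.conj x).toMonoidHom) = Nat.card ↥L :=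
    Subgroup.card_map_of_injective (MulAut.conj x).injective
  have heq : L.map (MulAut.conj x).toMonoidHom = L :=
    Subgroup.eq_of_le_of_card_ge h hcard.ge
  rw [Subgroup.mem_normalizer_iff]
  intro y
  constructor
  · intro hy
    exact h ⟨y, hy, rfl⟩
  · intro hy
    rw [← heq] at hy
    obtain ⟨y', hy', e⟩ := hy
    have e' : (MulAut.conj x) y' = (MulAut.conj x) y := e
    have e'' : y' = y := (MulAut.conj x).injective e'
    rw [← e'']
    exact hy'

/-- The centralizer of `u` normalizes `⟨u⟩`. -/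
theorem kti_centralizer_le {G : Type u} [Group G] (u : G) :
    Subgroup.centralizer ({u} : Set G) ≤
      Subgroup.normalizer ((Subgroup.zpowers u : Subgroup G) : Set G) := by
  have key : ∀ c ∈ Subgroup.centralizer ({u} : Set G), ∀ r ∈ Subgroup.zpowers u,
      c * r * c⁻¹ = r := by
    intro c hc r hr
    obtain ⟨n, rfl⟩ := Subgroup.mem_zpowers_iff.mp hr
    have h0 : u * c = c * u := (Subgroup.mem_centralizer_iff.mp hc) u (Set.mem_singleton u)
    have h1 : Commute c u := h0.symm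
    rw [(h1.zpow_right n).eq, mul_inv_cancel_right]
  intro c hc
  rw [Subgroup.mem_normalizer_iff]
  intro y
  constructor
  · intro hy
    rw [key c hc y hy]
    exact hy
  · intro hy
    have h2 := key c⁻¹ (inv_mem hc) _ hy
    have e : c⁻¹ * (c * y * c⁻¹) * c⁻¹⁻¹ = y := by group
    rw [e] at h2
    rw [h2]
    exact hy

/-- **JK-TI.** -/
theorem kti : Cfsg.Agent.H28.Jk.StKTI.{u} := by
  intro G _ _ J L hL2 hJL hNL hconj
  have h1 : ∀ u ∈ Cfsg.Agent.H28.Jk.VV L, u ≠ 1 → Subgroup.centralizer ({u} : Set G) ≤ L := by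
    intro u hu hu1
    obtain ⟨l, hl, hlu⟩ := hconj u hu
    have hu2 : u ^ 2 = 1 := (kti_mem_omega _ hu).2.2
    obtain ⟨u', hu'⟩ : ∃ u', u' = l * u * l⁻¹ := ⟨_, rfl⟩
    rw [← hu'] at hlu
    have hu'2 : u' ^ 2 = 1 := by
      rw [hu', conj_pow, hu2]
      group
    have hu'1 : u' ≠ 1 := by
      intro h
      apply hu1
      rw [hu'] at h
      have e : u = l⁻¹ * (l * u * l⁻¹) * l := by group
      rw [e, h]
      group
    have hP2 : IsPGroup 2 ↥(Subgroup.zpowers u') := by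
      rintro ⟨y, hy⟩
      refine ⟨1, ?_⟩
      obtain ⟨n, rfl⟩ := Subgroup.mem_zpowers_iff.mp hy
      apply Subtype.ext
      have e : (u' ^ n) ^ 2 = 1 := by
        rw [← zpow_natCast, ← zpow_mul, mul_comm, zpow_mul, zpow_natCast, hu'2, one_zpow]
      simpa using e
    have hP1 : Subgroup.zpowers u' ≠ ⊥ := by
      intro h
      exact hu'1 (Subgroup.zpowers_eq_bot.mp h)
    have hN2 : IsTwoLocal (Subgroup.normalizer ((Subgroup.zpowers u' : Subgroup G) : Set G)) :=
      ⟨_, hP2, hP1, rfl⟩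
    have hCN := kti_centralizer_le u'
    have hJN : J ≤ Subgroup.normalizer ((Subgroup.zpowers u' : Subgroup G) : Set G) := by
      intro j hj
      apply hCN
      rw [Subgroup.mem_centralizer_iff]
      intro y hy
      rw [Set.mem_singleton_iff] at hy
      rw [hy]
      exact ((Subgroup.mem_centralizer_iff.mp hlu) j hj).symm
    have hNL' := hJL _ hN2 hJN
    intro c hc
    have hc' : l * c * l⁻¹ ∈ Subgroup.centralizer ({u'} : Set G) := by
      rw [Subgroup.mem_centralizer_iff]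
      intro y hy
      rw [Set.mem_singleton_iff] at hy
      rw [hy, hu']
      have hcu : u * c = c * u := (Subgroup.mem_centralizer_iff.mp hc) u (Set.mem_singleton u)
      calc l * u * l⁻¹ * (l * c * l⁻¹) = l * (u * c) * l⁻¹ := by group
        _ = l * (c * u) * l⁻¹ := by rw [hcu]
        _ = l * c * l⁻¹ * (l * u * l⁻¹) := by group
    have hin : l * c * l⁻¹ ∈ L := hNL' (hCN hc')
    have e : c = l⁻¹ * (l * c * l⁻¹) * l := by group
    rw [e]
    exact L.mul_mem (L.mul_mem (L.inv_mem hl) hin) hl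
  refine ⟨h1, ?_⟩
  intro g hg
  obtain ⟨u, huV, hu1⟩ : ∃ u ∈ Cfsg.Agent.H28.Jk.VV L ⊓
      (Cfsg.Agent.H28.Jk.VV L).map (MulAut.conj g).toMonoidHom, u ≠ 1 := by
    by_contra hcon
    push Not at hcon
    apply hg
    rw [Subgroup.eq_bot_iff_forall]
    exact hcon
  obtain ⟨huV1, huV2⟩ := Subgroup.mem_inf.mp huV
  obtain ⟨v, hv, hvu⟩ := huV2
  have hvu' : g * v * g⁻¹ = u := hvu
  have hv1 : v ≠ 1 := by
    intro h
    apply hu1
    rw [← hvu', h]
    group
  have hCv := h1 v hv hv1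
  obtain ⟨l, hl, hlu⟩ := hconj u huV1
  have hXJ : J ≤ L.map (MulAut.conj (l * g)).toMonoidHom := by
    intro j hj
    refine ⟨(l * g)⁻¹ * j * (l * g), ?_, ?_⟩
    · apply hCv
      rw [Subgroup.mem_centralizer_iff]
      intro y hy
      rw [Set.mem_singleton_iff] at hy
      rw [hy]
      have hj' : j * (l * u * l⁻¹) = l * u * l⁻¹ * j :=
        (Subgroup.mem_centralizer_iff.mp hlu) j hj
      rw [← hvu'] at hj'
      calc v * ((l * g)⁻¹ * j * (l * g))
          = (l * g)⁻¹ * (l * (g * v * g⁻¹) * l⁻¹ * j) * (l * g) := by group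
        _ = (l * g)⁻¹ * (j * (l * (g * v * g⁻¹) * l⁻¹)) * (l * g) := by rw [hj']
        _ = (l * g)⁻¹ * j * (l * g) * v := by group
    · show (l * g) * ((l * g)⁻¹ * j * (l * g)) * (l * g)⁻¹ = j
      group
  have hX2 := kti_twoLocal_conj hL2 (l * g)
  have hXL := hJL _ hX2 hXJ
  have hmem := hNL (kti_mem_normalizer L (l * g) hXL)
  have e : g = l⁻¹ * (l * g) := by group
  rw [e]
  exact L.mul_mem (L.inv_mem hl) hmem


/-- verbatim check of the piece statement -/
example : (∀ {G : Type u} [Group G] [Finite G] (J L : Subgroup G),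
  IsTwoLocal L → (∀ X : Subgroup G, IsTwoLocal X → J ≤ X → X ≤ L) →
  Subgroup.normalizer (L : Set G) ≤ L →
  (∀ u ∈ Cfsg.Agent.H28.Jk.VV L, ∃ l ∈ L, l * u * l⁻¹ ∈ Subgroup.centralizer (J : Set G)) →
  (∀ u ∈ Cfsg.Agent.H28.Jk.VV L, u ≠ 1 → Subgroup.centralizer ({u} : Set G) ≤ L) ∧
  (∀ g : G, Cfsg.Agent.H28.Jk.VV L ⊓ (Cfsg.Agent.H28.Jk.VV L).map (MulAut.conj g).toMonoidHom ≠ ⊥ → g ∈ L)) :=
  Cfsg.Agent.H71.Jk.kti.{u}

end Cfsg.Agent.H71.Jk
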