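import Mathlib
import Cfsg.Agent.H82.JxDefs
import Cfsg.Agent.H51.JcNORM
import Cfsg.Agent.H51.Local

/-! S2948 / S2949 team project (helper82), piece JX-ACT: the action facts on `W_K`. -/

set_option autoImplicit false
open Cfsg

namespace Cfsg.Agent.H71.Jx

open Cfsg.Agent.H82.Jx
open scoped commutatorElement

universe u

/-- the norm of `u` under conjugation by `x` (with `x³` acting trivially) -/
def nrm {G : Type u} [Group G] (x u : G) : G := u * (x * u * x⁻¹) * (x * (x * u * x⁻¹) * x⁻¹)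

theorem act : StAct.{u} := by
  intro G _ _ Q A K a x hQ2 hKQ hQK hPQ haK hxK hx3 hax hKgen
  obtain ⟨hPK, hKP, hP2⟩ := Cfsg.Agent.H51.Jc.pCoreOf_facts K
  have hUle := Cfsg.Agent.H51.Jc.omegaCenterOf_le_inf (pCoreOf 2 K)
  have hWU := Cfsg.Agent.H51.Jc.wOf_le_omegaCenterOf K
  have hWP := Cfsg.Agent.H51.Jc.wOf_le K
  have hPW := Cfsg.Agent.H51.Jc.pCoreOf_comm_wOf K
  have hNW : ∀ g ∈ Subgroup.normalizer (K : Set G), ∀ w ∈ wOf K, g * w * g⁻¹ ∈ wOf K :=
    fun g hg => Cfsg.Agent.H51.Jc.wOf_norm (J := Subgroup.normalizer (K : Set G)) le_rfl g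
      (Subgroup.mem_sup_right hg)
  have hNU : ∀ g ∈ Subgroup.normalizer (K : Set G), ∀ u ∈ omegaCenterOf (pCoreOf 2 K),
      g * u * g⁻¹ ∈ omegaCenterOf (pCoreOf 2 K) :=
    fun g hg u hu => Cfsg.Agent.H51.Jc.conj_mem_omegaCenterOf hg hu
  -- `K ⊓ Q ≤ O₂(K)`
  have hKQP : K ⊓ Q ≤ pCoreOf 2 K := by
    apply Cfsg.Agent.H51.le_pCoreOf 2 inf_le_left _ (hQ2.to_le inf_le_right)
    intro k hk
    rw [Subgroup.mem_normalizer_iff]
    intro y
    have hkQ := hKQ hk
    rw [Subgroup.mem_normalizer_iff] at hkQ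
    constructor
    · rintro ⟨hy1, hy2⟩
      exact ⟨K.mul_mem (K.mul_mem hk hy1) (K.inv_mem hk), (hkQ y).mp hy2⟩
    · rintro ⟨hy1, hy2⟩
      refine ⟨?_, (hkQ y).mpr hy2⟩
      have e : y = k⁻¹ * (k * y * k⁻¹) * k := by group
      rw [e]
      exact K.mul_mem (K.mul_mem (K.inv_mem hk) hy1) hk
  -- `U` is abelian of exponent 2
  have hUc : ∀ u ∈ omegaCenterOf (pCoreOf 2 K), ∀ v ∈ omegaCenterOf (pCoreOf 2 K),
      u * v = v * u := by
    intro u hu v hv
    have h1 : u ∈ Subgroup.centralizer (pCoreOf 2 K : Set G) := (Subgroup.mem_inf.mp (hUle hu)).2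
    rw [Subgroup.mem_centralizer_iff] at h1
    exact (h1 v (hUle hv).1).symm
  have hU2 : ∀ u ∈ omegaCenterOf (pCoreOf 2 K), u * u = 1 := by
    intro u hu
    have hu' := hu
    unfold omegaCenterOf omegaOne at hu'
    induction hu' using Subgroup.closure_induction with
    | mem z hz => rw [← pow_two]; exact hz.2
    | one => simp
    | mul y z hy hz ihy ihz =>
      have hy' : y ∈ omegaCenterOf (pCoreOf 2 K) := hy
      have hz' : z ∈ omegaCenterOf (pCoreOf 2 K) := hz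
      have hc := hUc y hy' z hz'
      calc y * z * (y * z) = y * (z * y) * z := by group
        _ = y * (y * z) * z := by rw [hc]
        _ = (y * y) * (z * z) := by group
        _ = 1 := by rw [ihy hy', ihz hz', one_mul]
    | inv y hy ihy =>
      have hy' : y ∈ omegaCenterOf (pCoreOf 2 K) := hy
      rw [← mul_inv_rev, ihy hy', inv_one]
  have hx3' : x * x * x = 1 := by
    have := pow_orderOf_eq_one x
    rw [hx3] at this
    rw [← this, pow_succ, pow_succ, pow_one]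
  have hxN : x ∈ Subgroup.normalizer (K : Set G) := Subgroup.le_normalizer hxK
  have hxinvN : x⁻¹ ∈ Subgroup.normalizer (K : Set G) := Subgroup.inv_mem _ hxN
  -- the norm is multiplicative on `U`
  have hnU : ∀ u ∈ omegaCenterOf (pCoreOf 2 K), nrm x u ∈ omegaCenterOf (pCoreOf 2 K) := by
    intro u hu
    exact Subgroup.mul_mem _ (Subgroup.mul_mem _ hu (hNU x hxN u hu))
      (hNU x hxN _ (hNU x hxN u hu))
  have hnmul : ∀ y ∈ omegaCenterOf (pCoreOf 2 K), ∀ z ∈ omegaCenterOf (pCoreOf 2 K),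
      nrm x (y * z) = nrm x y * nrm x z := by
    intro y hy z hz
    have hy1 := hNU x hxN y hy
    have hz1 := hNU x hxN z hz
    have hy2 := hNU x hxN _ hy1
    have hz2 := hNU x hxN _ hz1
    have c1 : Commute z (x * y * x⁻¹) := hUc z hz _ hy1
    have c2 : Commute (z * (x * z * x⁻¹)) (x * (x * y * x⁻¹) * x⁻¹) :=
      hUc _ (Subgroup.mul_mem _ hz hz1) _ hy2
    unfold nrm
    have e1 : x * (y * z) * x⁻¹ = (x * y * x⁻¹) * (x * z * x⁻¹) := by group
    have e2 : x * ((x * y * x⁻¹) * (x * z * x⁻¹)) * x⁻¹ =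
        (x * (x * y * x⁻¹) * x⁻¹) * (x * (x * z * x⁻¹) * x⁻¹) := by group
    rw [e1, e2, c1.mul_mul_mul_comm, c2.mul_mul_mul_comm]
  -- the subgroup of `K` preserving the norm
  let D : Subgroup G :=
    { carrier := {k | k ∈ K ∧ ∀ u ∈ omegaCenterOf (pCoreOf 2 K), nrm x (k * u * k⁻¹) = nrm x u}
      mul_mem' := by
        rintro k1 k2 ⟨h1, h1'⟩ ⟨h2, h2'⟩
        refine ⟨K.mul_mem h1 h2, fun u hu => ?_⟩
        have e : k1 * k2 * u * (k1 * k2)⁻¹ = k1 * (k2 * u * k2⁻¹) * k1⁻¹ := by group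
        rw [e, h1' _ (hNU k2 (Subgroup.le_normalizer h2) u hu), h2' u hu]
      one_mem' := ⟨K.one_mem, fun u _ => by simp⟩
      inv_mem' := by
        rintro k ⟨h1, h1'⟩
        refine ⟨K.inv_mem h1, fun u hu => ?_⟩
        have hu' := hNU k⁻¹ (Subgroup.le_normalizer (K.inv_mem h1)) u hu
        have e : k * (k⁻¹ * u * k⁻¹⁻¹) * k⁻¹ = u := by group
        have := h1' _ hu'
        rw [e] at this
        exact this.symm }
  have hPD : pCoreOf 2 K ≤ D := by
    intro p hp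
    refine ⟨hPK hp, fun u hu => ?_⟩
    have h1 : u ∈ Subgroup.centralizer (pCoreOf 2 K : Set G) := (Subgroup.mem_inf.mp (hUle hu)).2
    rw [Subgroup.mem_centralizer_iff] at h1
    have e : p * u * p⁻¹ = u := by rw [h1 p hp]; group
    rw [e]
  have hxD : x ∈ D := by
    refine ⟨hxK, fun u hu => ?_⟩
    have hu1 := hNU x hxN u hu
    have hu2 := hNU x hxN _ hu1
    unfold nrm
    have e : x * (x * (x * u * x⁻¹) * x⁻¹) * x⁻¹ = u := by
      have : x * (x * (x * u * x⁻¹) * x⁻¹) * x⁻¹ = (x * x * x) * u * (x * x * x)⁻¹ := by group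
      rw [this, hx3']; group
    rw [e, hUc _ (Subgroup.mul_mem _ hu1 hu2) u hu]
    exact (mul_assoc _ _ _).symm
  have hKD : K ≤ D := by
    rw [hKgen]
    exact sup_le hPD (Subgroup.zpowers_le.mpr hxD)
  -- the norm kills `W`
  have hnW : ∀ w ∈ wOf K, nrm x w = 1 := by
    intro w hw
    have hw' := hw
    unfold wOf at hw'
    rw [Subgroup.commutator_def] at hw'
    induction hw' using Subgroup.closure_induction with
    | mem z hz =>
      obtain ⟨u, hu, k, hk, rfl⟩ := hz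
      have huinv : u⁻¹ = u := inv_eq_of_mul_eq_one_left (hU2 u hu)
      have e : ⁅u, k⁆ = u * (k * u * k⁻¹) := by
        rw [commutatorElement_def]
        nth_rewrite 2 [← huinv]
        group
      rw [e, hnmul u hu _ (hNU k (Subgroup.le_normalizer hk) u hu), (hKD hk).2 u hu]
      exact hU2 _ (hnU u hu)
    | one => simp [nrm]
    | mul y z hy hz ihy ihz =>
      have hy' : y ∈ wOf K := by unfold wOf; rw [Subgroup.commutator_def]; exact hy
      have hz' : z ∈ wOf K := by unfold wOf; rw [Subgroup.commutator_def]; exact hz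
      rw [hnmul y (hWU hy') z (hWU hz'), ihy hy', ihz hz', one_mul]
    | inv y hy ihy =>
      have hy' : y ∈ wOf K := by unfold wOf; rw [Subgroup.commutator_def]; exact hy
      have hyinv : y⁻¹ = y := inv_eq_of_mul_eq_one_left (hU2 y (hWU hy'))
      rw [hyinv]
      exact ihy hy'
  refine
    { hWQ := hWP.trans hPQ
      hWc := fun u hu v hv => hUc u (hWU hu) v (hWU hv)
      hW2 := fun u hu => hU2 u (hWU hu)
      hxW := fun w hw => hNW x hxN w hw
      haW := fun w hw => hNW a haK w hw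
      hbW := fun b hb w hw => hNW b (hQK hb.2) w hw
      hx3 := ?_
      hxf := ?_
      hax := ?_
      hbx := ?_ }
  · intro w _
    have : x * (x * (x * w * x⁻¹) * x⁻¹) * x⁻¹ = (x * x * x) * w * (x * x * x)⁻¹ := by group
    rw [this, hx3']; group
  · intro w hw hfix
    have h1 := hnW w hw
    unfold nrm at h1
    rw [hfix, hfix, hU2 w (hWU hw), one_mul] at h1
    exact h1
  · intro w hw
    have hq : a * x * a⁻¹ * x ∈ pCoreOf 2 K := by
      apply hKQP
      refine ⟨K.mul_mem ((Subgroup.mem_normalizer_iff.mp haK x).mp hxK) hxK, hax⟩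
    have hw' : x⁻¹ * (a * w * a⁻¹) * x ∈ wOf K := by
      have := hNW x⁻¹ hxinvN _ (hNW a haK w hw)
      rwa [inv_inv] at this
    have hc := hPW _ hq _ hw'
    have e : a * (x * w * x⁻¹) * a⁻¹ =
        (a * x * a⁻¹ * x) * (x⁻¹ * (a * w * a⁻¹) * x) * (a * x * a⁻¹ * x)⁻¹ := by group
    rw [e, hc]; group
  · intro b hb w hw
    have hbN : b ∈ Subgroup.normalizer (K : Set G) := hQK hb.2
    have hq : b * x * b⁻¹ * x⁻¹ ∈ pCoreOf 2 K := by
      apply hKQP
      refine ⟨K.mul_mem ((Subgroup.mem_normalizer_iff.mp hbN x).mp hxK) (K.inv_mem hxK), ?_⟩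
      have hxQ := hKQ hxK
      have h1 : x * b⁻¹ * x⁻¹ ∈ Q := (Subgroup.mem_normalizer_iff.mp hxQ b⁻¹).mp (Q.inv_mem hb.2)
      have e : b * x * b⁻¹ * x⁻¹ = b * (x * b⁻¹ * x⁻¹) := by group
      rw [e]
      exact Q.mul_mem hb.2 h1
    have hw' : x * (b * w * b⁻¹) * x⁻¹ ∈ wOf K := hNW x hxN _ (hNW b hbN w hw)
    have hc := hPW _ hq _ hw'
    have e : b * (x * w * x⁻¹) * b⁻¹ =
        (b * x * b⁻¹ * x⁻¹) * (x * (b * w * b⁻¹) * x⁻¹) * (b * x * b⁻¹ * x⁻¹)⁻¹ := by group
    rw [e, hc]; group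

example : Cfsg.Agent.H82.Jx.StAct.{u} := act

end Cfsg.Agent.H71.Jx
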