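import Mathlib
import Cfsg.Agent.H51.Local

/-!
# Abstract lemmas for JX-KBNORM (S2953 kill, case `V ⊄ Q₁`)

Mathlib-level facts on a subgroup `P` with a normal subgroup `Q` of index 6 and non-abelian
quotient: involutions outside `Q` invert the elements of order 3 modulo `Q`.
-/

set_option autoImplicit false
open Cfsg

namespace Cfsg.Agent.H71.Jx

universe u

/-- In a non-abelian group of order 6 an involution inverts every element of order dividing 3. -/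
theorem s3_inv {H : Type u} [Group H] (hcard : Nat.card H = 6)
    (hna : ∃ a b : H, a * b ≠ b * a) (v k : H) (hv : v ≠ 1) (hv2 : v * v = 1)
    (hk3 : k ^ 3 = 1) : v * k * v⁻¹ * k = 1 := by
  have : Finite H := Nat.finite_of_card_ne_zero (by rw [hcard]; norm_num)
  have : Fact (Nat.Prime 2) := ⟨Nat.prime_two⟩
  by_cases hk1 : k = 1
  · rw [hk1]; group
  have hok : orderOf k = 3 := by
    have h1 : orderOf k ∣ 3 := orderOf_dvd_of_pow_eq_one hk3
    rcases (Nat.dvd_prime Nat.prime_three).mp h1 with h | h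
    · exact absurd (orderOf_eq_one_iff.mp h) hk1
    · exact h
  have hov : orderOf v = 2 := by
    apply orderOf_eq_prime
    · rw [pow_two]; exact hv2
    · exact hv
  have hcz : Nat.card (Subgroup.zpowers k) = 3 := by rw [Nat.card_zpowers, hok]
  have hidx : (Subgroup.zpowers k).index = 2 := by
    have h := Subgroup.card_mul_index (Subgroup.zpowers k)
    rw [hcz, hcard] at h
    omega
  have hnorm : (Subgroup.zpowers k).Normal := Subgroup.normal_of_index_eq_two hidx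
  have hmem : v * k * v⁻¹ ∈ Subgroup.zpowers k :=
    hnorm.conj_mem k (Subgroup.mem_zpowers k) v
  obtain ⟨n, hn⟩ := Subgroup.mem_zpowers_iff.mp hmem
  have hn' : k ^ (n % 3) = v * k * v⁻¹ := by
    rw [← hn]
    have h := zpow_mod_orderOf k n
    rw [hok] at h
    exact_mod_cast h
  have h03 : 0 ≤ n % 3 := Int.emod_nonneg _ (by norm_num)
  have h33 : n % 3 < 3 := Int.emod_lt_of_pos _ (by norm_num)
  obtain ⟨m, hm⟩ : ∃ m : ℕ, n % 3 = (m : ℤ) := ⟨(n % 3).toNat, (Int.toNat_of_nonneg h03).symm⟩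
  rw [hm, zpow_natCast] at hn'
  have hm3 : m < 3 := by omega
  interval_cases m
  · exfalso
    apply hk1
    rw [pow_zero] at hn'
    have e : k = v⁻¹ * (v * k * v⁻¹) * v := by group
    rw [e, ← hn']
    group
  · exfalso
    rw [pow_one] at hn'
    have hc : Commute v k := by
      have e : v * k = k * v := by
        calc v * k = (v * k * v⁻¹) * v := by group
          _ = k * v := by rw [← hn']
      exact e
    have ho : orderOf (v * k) = 6 := by
      rw [hc.orderOf_mul_eq_mul_orderOf_of_coprime (by rw [hov, hok]; decide), hov, hok]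
    have hcyc : IsCyclic H := isCyclic_of_orderOf_eq_card (v * k) (by rw [ho, hcard])
    obtain ⟨g, hg⟩ := hcyc.exists_generator
    obtain ⟨a, b, hab⟩ := hna
    obtain ⟨i, rfl⟩ := Subgroup.mem_zpowers_iff.mp (hg a)
    obtain ⟨j, rfl⟩ := Subgroup.mem_zpowers_iff.mp (hg b)
    exact hab ((Commute.refl g).zpow_zpow i j).eq
  · calc v * k * v⁻¹ * k = k ^ 2 * k := by rw [hn']
      _ = k ^ 3 := by rw [← pow_succ]
      _ = 1 := hk3

/-- Subgroup form: `Q ⊴ P` of index 6 with `P/Q` non-abelian; an involution `v ∈ P ∖ Q` and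
`k ∈ P` with `k³ = 1` satisfy `v k v⁻¹ k ∈ Q`. -/
theorem inv_mod_core {G : Type u} [Group G] (P Q : Subgroup G) (hQP : Q ≤ P)
    (hPQ : P ≤ Subgroup.normalizer (Q : Set G)) (h6 : Q.relIndex P = 6)
    (hna : ¬ ⁅P, P⁆ ≤ Q) (v k : G) (hvP : v ∈ P) (hvQ : v ∉ Q) (hv2 : v * v = 1)
    (hkP : k ∈ P) (hk3 : k ^ 3 = 1) : v * k * v⁻¹ * k ∈ Q := by
  have hn : (Q.subgroupOf P).Normal :=
    (Subgroup.normal_subgroupOf_iff_le_normalizer hQP).mpr hPQ
  have hcard : Nat.card (↥P ⧸ Q.subgroupOf P) = 6 := by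
    rw [← Subgroup.index_eq_card]; exact h6
  have hna' : ∃ a b : ↥P ⧸ Q.subgroupOf P, a * b ≠ b * a := by
    by_contra hcon
    push Not at hcon
    apply hna
    rw [Subgroup.commutator_le]
    intro a ha b hb
    have h1 := hcon (QuotientGroup.mk ⟨a, ha⟩) (QuotientGroup.mk ⟨b, hb⟩)
    rw [commutatorElement_def]
    have h2 : ((⟨a, ha⟩ * ⟨b, hb⟩ * ⟨a, ha⟩⁻¹ * ⟨b, hb⟩⁻¹ : ↥P) : ↥P ⧸ Q.subgroupOf P) = 1 := by
      simp only [QuotientGroup.mk_mul, QuotientGroup.mk_inv]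
      rw [h1]
      group
    rw [QuotientGroup.eq_one_iff] at h2
    exact h2
  have hv1 : (QuotientGroup.mk ⟨v, hvP⟩ : ↥P ⧸ Q.subgroupOf P) ≠ 1 := by
    intro h
    rw [QuotientGroup.eq_one_iff] at h
    exact hvQ h
  have hvv : (QuotientGroup.mk ⟨v, hvP⟩ : ↥P ⧸ Q.subgroupOf P) * QuotientGroup.mk ⟨v, hvP⟩ = 1 := by
    rw [← QuotientGroup.mk_mul, show (⟨v, hvP⟩ * ⟨v, hvP⟩ : ↥P) = 1 from Subtype.ext hv2,
      QuotientGroup.mk_one]
  have hkk : (QuotientGroup.mk ⟨k, hkP⟩ : ↥P ⧸ Q.subgroupOf P) ^ 3 = 1 := by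
    rw [← QuotientGroup.mk_pow, show (⟨k, hkP⟩ : ↥P) ^ 3 = 1 from Subtype.ext (by simp [hk3]),
      QuotientGroup.mk_one]
  have key := s3_inv hcard hna' _ _ hv1 hvv hkk
  have h3 : ((⟨v, hvP⟩ * ⟨k, hkP⟩ * ⟨v, hvP⟩⁻¹ * ⟨k, hkP⟩ : ↥P) : ↥P ⧸ Q.subgroupOf P) = 1 := by
    simpa only [QuotientGroup.mk_mul, QuotientGroup.mk_inv] using key
  rw [QuotientGroup.eq_one_iff] at h3
  exact h3

/-- If `Q ≤ T ≤ P`, `|P : Q| = 6`, `T` a 2-group of odd index in `P`, then `|T : Q| = 2`. -/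
theorem relIndex_two_of_six {G : Type u} [Group G] [Finite G] (Q T P : Subgroup G)
    (hQT : Q ≤ T) (hTP : T ≤ P) (h6 : Q.relIndex P = 6) (hT2 : IsPGroup 2 ↥T)
    (hodd : Odd (T.relIndex P)) : Q.relIndex T = 2 := by
  have : Fact (Nat.Prime 2) := ⟨Nat.prime_two⟩
  have hmul := Subgroup.relIndex_mul_relIndex Q T P hQT hTP
  rw [h6] at hmul
  obtain ⟨n, hn⟩ := hT2.exists_card_eq
  have hdvd : Q.relIndex T ∣ 2 ^ n := by rw [← hn]; exact Subgroup.relIndex_dvd_card Q T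
  obtain ⟨m, -, hm⟩ := (Nat.dvd_prime_pow Nat.prime_two).mp hdvd
  rw [hm] at hmul ⊢
  rcases m with _ | _ | m
  · exfalso
    simp at hmul
    rw [hmul] at hodd
    exact absurd hodd (by decide)
  · rfl
  · exfalso
    have h4 : 4 ∣ 2 ^ (m + 1 + 1) := ⟨2 ^ m, by ring⟩
    have h46 : 4 ∣ 6 := hmul ▸ (h4.mul_right _)
    omega

/-- For `Q` of index 2 in `T` and `v ∈ T ∖ Q`: every `t ∈ T` has `t ∈ Q` or `t v ∈ Q`. -/
theorem mem_or_mul_mem_of_relIndex_two {G : Type u} [Group G] (Q T : Subgroup G)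
    (h2 : Q.relIndex T = 2) (v : G) (hvT : v ∈ T) (hvQ : v ∉ Q) :
    ∀ t ∈ T, t ∈ Q ∨ t * v ∈ Q := by
  intro t ht
  by_cases htQ : t ∈ Q
  · exact Or.inl htQ
  · right
    have h := Subgroup.mul_mem_iff_of_index_two (H := Q.subgroupOf T) h2
      (a := ⟨t, ht⟩) (b := ⟨v, hvT⟩)
    have h' : (⟨t, ht⟩ * ⟨v, hvT⟩ : ↥T) ∈ Q.subgroupOf T :=
      h.mpr ⟨fun h1 => absurd h1 htQ, fun h1 => absurd h1 hvQ⟩
    exact h'

/-- In a finite group, `x Q x⁻¹ ⊆ Q` forces `x ∈ N_G(Q)`. -/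
theorem mem_normalizer_of_conj_mem {G : Type u} [Group G] [Finite G] (Q : Subgroup G) (x : G)
    (h : ∀ q ∈ Q, x * q * x⁻¹ ∈ Q) : x ∈ Subgroup.normalizer (Q : Set G) := by
  have hle : Q.map (MulAut.conj x).toMonoidHom ≤ Q := by
    rintro _ ⟨q, hq, rfl⟩
    exact h q hq
  have hcard : Nat.card ↥(Q.map (MulAut.conj x).toMonoidHom) = Nat.card ↥Q :=
    Subgroup.card_map_of_injective (MulAut.conj x).injective
  have heq : Q.map (MulAut.conj x).toMonoidHom = Q :=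
    Subgroup.eq_of_le_of_card_ge hle hcard.ge
  rw [Subgroup.mem_normalizer_iff]
  intro y
  constructor
  · intro hy
    exact h y hy
  · intro hy
    rw [← heq] at hy
    obtain ⟨y', hy', e⟩ := hy
    have e' : (MulAut.conj x) y' = (MulAut.conj x) y := e
    have e'' : y' = y := (MulAut.conj x).injective e'
    rw [← e'']
    exact hy'

/-- A subgroup `K` generated by its odd-order elements, with `|K : O₂(K)| = 3` and `K ⊄ L`,
has an element `k ∉ L` with `k³ = 1`. -/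
theorem exists_order_three {G : Type u} [Group G] [Finite G] (K L : Subgroup G)
    (hgen : Subgroup.closure {g : G | g ∈ K ∧ Odd (orderOf g)} = K)
    (hO3 : (pCoreOf 2 K).relIndex K = 3) (hKL : ¬ K ≤ L) :
    ∃ k ∈ K, k ∉ L ∧ k ^ 3 = 1 := by
  have : Fact (Nat.Prime 2) := ⟨Nat.prime_two⟩
  obtain ⟨k, ⟨hkK, hkodd⟩, hkL⟩ : ∃ k ∈ {g : G | g ∈ K ∧ Odd (orderOf g)}, k ∉ L := by
    by_contra hcon
    push Not at hcon
    apply hKL
    rw [← hgen, Subgroup.closure_le]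
    intro g hg
    exact hcon g hg
  refine ⟨k, hkK, hkL, ?_⟩
  have hOK : pCoreOf 2 K ≤ K := Cfsg.Agent.H51.pCoreOf_le 2 K
  have hn : ((pCoreOf 2 K).subgroupOf K).Normal :=
    (Subgroup.normal_subgroupOf_iff_le_normalizer hOK).mpr
      (Cfsg.Agent.H51.le_normalizer_pCoreOf 2 K)
  have h1 := Subgroup.pow_index_mem ((pCoreOf 2 K).subgroupOf K) (⟨k, hkK⟩ : ↥K)
  have hidx : ((pCoreOf 2 K).subgroupOf K).index = 3 := hO3
  rw [hidx] at h1
  have h2 : k ^ 3 ∈ pCoreOf 2 K := by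
    have h1' : (((⟨k, hkK⟩ : ↥K) ^ 3 : ↥K) : G) ∈ pCoreOf 2 K := h1
    simpa using h1'
  obtain ⟨n, hn⟩ := (Cfsg.Agent.H51.pCoreOf_isPGroup 2 K) ⟨k ^ 3, h2⟩
  have hn' : (k ^ 3) ^ 2 ^ n = 1 := by
    have := congrArg Subtype.val hn
    simpa using this
  have hd1 : orderOf (k ^ 3) ∣ 2 ^ n := orderOf_dvd_of_pow_eq_one hn'
  have hd2 : orderOf (k ^ 3) ∣ orderOf k := orderOf_pow_dvd 3
  obtain ⟨m, -, hm⟩ := (Nat.dvd_prime_pow Nat.prime_two).mp hd1
  have hodd : Odd (orderOf (k ^ 3)) := hkodd.of_dvd_nat hd2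
  rw [hm] at hodd
  rcases m with _ | m
  · rw [pow_zero] at hm
    exact orderOf_eq_one_iff.mp hm
  · exfalso
    rw [pow_succ] at hodd
    exact (Nat.not_even_iff_odd.mpr hodd) (even_two.mul_left _)

end Cfsg.Agent.H71.Jx
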