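import Mathlib
import Cfsg.Agent.H52.JxDefs
import Cfsg.Agent.H29.R1Out
import Cfsg.Agent.H48.JyV
import Cfsg.Agent.H11.JyGood
import Cfsg.Agent.H7.JyNotin
import Cfsg.Agent.Helper55.JzIndex
import Cfsg.Agent.H71.JxKbAux

/-!
# JX-KBNORM (S2953 kill, case `V ⊄ Q₁`), hypothesis-free

`kbNorm : Cfsg.Agent.H52.Jx.StKBNorm`: in the residual configuration `RCtx2 S M K L T' K' L'`
with `V = Ω₁Z(O₂(L)) ⊄ Q₁ = O₂(K' ⊔ T')`, every `x ∈ N_S(T')` normalizes `Q₁`.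
Wiring of the abstract core `Cfsg.Agent.H29.R1.r1_out_core` with the `V`-facts (`H48.Jy.vfacts`)
and the `P'`-facts (`H11.Jy.good_explicit`).
-/

set_option autoImplicit false
open Cfsg

namespace Cfsg.Agent.H71.Jx

universe u

/-- Elements of `Ω₁(Z(X))` lie in `X`, centralize `X` and are of exponent 2. -/
theorem kb_mem_omega {G : Type u} [Group G] (X : Subgroup G) {x : G}
    (hx : x ∈ omegaCenterOf X) :
    x ∈ X ∧ x ∈ Subgroup.centralizer (X : Set G) ∧ x ^ 2 = 1 := by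
  unfold omegaCenterOf omegaOne at hx
  induction hx using Subgroup.closure_induction with
  | mem y hy => exact ⟨(Subgroup.mem_inf.mp hy.1).1, (Subgroup.mem_inf.mp hy.1).2, hy.2⟩
  | one => exact ⟨one_mem _, one_mem _, one_pow _⟩
  | mul a b _ _ ha hb =>
    refine ⟨mul_mem ha.1 hb.1, mul_mem ha.2.1 hb.2.1, ?_⟩
    have hc : b * a = a * b := (Subgroup.mem_centralizer_iff.mp ha.2.1) b hb.1
    have hc' : Commute a b := hc.symm
    rw [hc'.mul_pow, ha.2.2, hb.2.2, one_mul]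
  | inv a _ ha =>
    refine ⟨inv_mem ha.1, inv_mem ha.2.1, ?_⟩
    rw [inv_pow, ha.2.2, inv_one]

/-- **JX-KBNORM.** -/
theorem kbNorm : Cfsg.Agent.H52.Jx.StKBNorm.{u} := by
  intro G _ _ S M K L T' K' L' hR hVQ x hxS hxT
  obtain ⟨hB, hNS, hB', hT'⟩ := hR
  have hF2 : Fact (Nat.Prime 2) := ⟨Nat.prime_two⟩
  obtain ⟨hV4, hV2, hNV, ⟨z, hzV, hz1, hzS, hzL', hZS, -⟩, hCu, -⟩ :=
    Cfsg.Agent.H48.Jy.vfacts S M K L T' K' L' hB hNS hB' hT'
  obtain ⟨-, hsylP, hidx6, hnab, -, hL'max, hPL', hsylL', -⟩ :=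
    Cfsg.Agent.H11.Jy.good_explicit S L T' K' L' hB'
  have hsylSL : IsSylowTwoIn (S : Subgroup G) L :=
    Cfsg.Agent.H7.JyNotin.sylIn_of_base S M _ K L hB
  have hSL : (S : Subgroup G) ≤ L := hsylSL.1
  have hT'S : T' ≤ (S : Subgroup G) := hB'.2.2.2.2.2.1
  have hK'L : ¬ K' ≤ L := hB'.2.2.2.2.2.2.1.2.1
  obtain ⟨hgen, -, hO3, -, -, -⟩ := hB'.2.2.2.2.2.2.1.1.1
  have hT'2 : IsPGroup 2 ↥T' := hsylP.2.1
  have hTP : T' ≤ K' ⊔ T' := le_sup_right
  have hKP : K' ≤ K' ⊔ T' := le_sup_left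
  -- facts on `Q₁ = O₂(K' ⊔ T')`
  have hQT : pCoreOf 2 (K' ⊔ T') ≤ T' := Cfsg.Agent.Helper55.J48.pCoreOf_le_of_sylowIn hsylP
  have hQP : pCoreOf 2 (K' ⊔ T') ≤ K' ⊔ T' := Cfsg.Agent.H51.pCoreOf_le 2 _
  have hPQ : K' ⊔ T' ≤ Subgroup.normalizer (pCoreOf 2 (K' ⊔ T') : Set G) :=
    Cfsg.Agent.H51.le_normalizer_pCoreOf 2 _
  have hidx2 : (pCoreOf 2 (K' ⊔ T')).relIndex T' = 2 :=
    relIndex_two_of_six _ T' (K' ⊔ T') hQT hTP hidx6 hT'2 hsylP.2.2
  -- facts on `z`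
  obtain ⟨hzSm, hzC, -⟩ := kb_mem_omega _ hzS
  have hzc : ∀ s ∈ (S : Subgroup G), s * z = z * s := fun s hs =>
    (Subgroup.mem_centralizer_iff.mp hzC) s hs
  have hzz : z * z = 1 := hV2 z hzV
  have hQL'T : pCoreOf 2 L' ≤ T' := Cfsg.Agent.Helper55.J48.pCoreOf_le_of_sylowIn hsylL'
  have hQL'Q : pCoreOf 2 L' ≤ pCoreOf 2 (K' ⊔ T') := by
    apply Cfsg.Agent.H51.le_pCoreOf 2 (hQL'T.trans hTP)
    · exact hPL'.trans (Cfsg.Agent.H51.le_normalizer_pCoreOf 2 L')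
    · exact Cfsg.Agent.H51.pCoreOf_isPGroup 2 L'
  have hzQ : z ∈ pCoreOf 2 (K' ⊔ T') := hQL'Q hzL'
  -- `V ≤ S` and `S` normalizes `V`
  have hVS : ∀ u ∈ omegaCenterOf (pCoreOf 2 L), u ∈ (S : Subgroup G) := fun u hu =>
    Cfsg.Agent.Helper55.J48.pCoreOf_le_of_sylowIn hsylSL (kb_mem_omega _ hu).1
  have hSV : ∀ s ∈ (S : Subgroup G), ∀ u ∈ omegaCenterOf (pCoreOf 2 L),
      s * u * s⁻¹ ∈ omegaCenterOf (pCoreOf 2 L) := by
    intro s hs u hu
    have hsN : s ∈ Subgroup.normalizer (omegaCenterOf (pCoreOf 2 L) : Set G) := by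
      rw [hNV]
      exact hSL hs
    exact (Subgroup.mem_normalizer_iff.mp hsN u).mp hu
  -- `S` moves an element of `V` at most by `z`
  have key : ∀ s ∈ (S : Subgroup G), ∀ u ∈ omegaCenterOf (pCoreOf 2 L),
      s * u * s⁻¹ = u ∨ s * u * s⁻¹ = u * z := by
    intro s hs u hu
    by_cases hu1 : u = 1
    · left
      rw [hu1]
      group
    by_cases huz : u = z
    · left
      rw [huz]
      have h0 := hzc s hs
      calc s * z * s⁻¹ = z * s * s⁻¹ := by rw [h0]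
        _ = z := by group
    have hfour := Cfsg.Agent.Helper55.JzIndex.mem_four (omegaCenterOf (pCoreOf 2 L)) z u hV4
      hzV hu hz1 hu1 (fun h => huz h.symm) (hV2 u hu)
    have hmem := hSV s hs u hu
    rcases hfour _ hmem with h | h | h | h
    · exfalso
      apply hu1
      have e : u = s⁻¹ * (s * u * s⁻¹) * s := by group
      rw [e, h]
      group
    · exfalso
      apply huz
      have e : u = s⁻¹ * (s * u * s⁻¹) * s := by group
      rw [e, h]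
      have h0 := hzc s⁻¹ (inv_mem hs)
      calc s⁻¹ * z * s = z * s⁻¹ * s := by rw [h0]
        _ = z := by group
    · left
      exact h
    · right
      rw [h]
      exact (hzc u (hVS u hu)).symm
  -- the element `v ∈ V ∖ Q₁`
  obtain ⟨v, hvV, hvQ⟩ := SetLike.not_le_iff_exists.mp hVQ
  have hvS : v ∈ (S : Subgroup G) := hVS v hvV
  have hvv : v * v = 1 := hV2 v hvV
  have hvz : v * z = z * v := hzc v hvS
  have hconj : ∀ q ∈ (S : Subgroup G), v * q * v⁻¹ = q ∨ v * q * v⁻¹ = q * z := by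
    intro q hq
    rcases key q⁻¹ (inv_mem hq) v hvV with h | h
    · left
      rw [inv_inv] at h
      calc v * q * v⁻¹ = q * (q⁻¹ * v * q) * v⁻¹ := by group
        _ = q := by rw [h]; group
    · right
      rw [inv_inv] at h
      calc v * q * v⁻¹ = q * (q⁻¹ * v * q) * v⁻¹ := by group
        _ = q * (v * z) * v⁻¹ := by rw [h]
        _ = q * (z * v) * v⁻¹ := by rw [hvz]
        _ = q * z := by group
  -- `v ∈ T'`
  have hvT : v ∈ T' := by
    have hne : pCoreOf 2 L' ≠ ⊥ := by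
      intro h
      rw [h] at hzL'
      exact hz1 (Subgroup.mem_bot.mp hzL')
    have hN2 : IsTwoLocal (Subgroup.normalizer (pCoreOf 2 L' : Set G)) :=
      ⟨pCoreOf 2 L', Cfsg.Agent.H51.pCoreOf_isPGroup 2 L', hne, rfl⟩
    have hEq := hL'max.2 _ hN2 (Cfsg.Agent.H51.le_normalizer_pCoreOf 2 L')
    have hvN : v ∈ Subgroup.normalizer (pCoreOf 2 L' : Set G) := by
      apply mem_normalizer_of_conj_mem
      intro q hq
      rcases hconj q (hT'S (hQL'T hq)) with h | h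
      · rw [h]
        exact hq
      · rw [h]
        exact mul_mem hq hzL'
    rw [hEq] at hvN
    have hvSL : v ∈ (S : Subgroup G) ⊓ L' := Subgroup.mem_inf.mpr ⟨hvS, hvN⟩
    rw [Cfsg.Agent.H7.JyNotin.inf_eq S L T' K' L' hB'] at hvSL
    exact hvSL
  -- the element `k` of order 3 of `K'` outside `L`
  obtain ⟨k, hkK, hkL, hk3⟩ := exists_order_three K' L hgen hO3 hK'L
  have hkz : k * z * k⁻¹ ≠ z := by
    intro h
    apply hkL
    apply hCu z hzV hz1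
    rw [Subgroup.mem_centralizer_iff]
    intro y hy
    rw [Set.mem_singleton_iff] at hy
    rw [hy]
    calc z * k = (k * z * k⁻¹) * k := by rw [h]
      _ = k * z := by group
  have hkQ : ∀ q ∈ pCoreOf 2 (K' ⊔ T'), k * q * k⁻¹ ∈ pCoreOf 2 (K' ⊔ T') := fun q hq =>
    (Subgroup.mem_normalizer_iff.mp (hPQ (hKP hkK)) q).mp hq
  have hvk' : v * k * v⁻¹ * k ∈ pCoreOf 2 (K' ⊔ T') :=
    inv_mod_core (K' ⊔ T') _ hQP hPQ hidx6 hnab v k (hTP hvT) hvQ hvv (hKP hkK) hk3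
  -- the abstract core
  have hcore := Cfsg.Agent.H29.R1.r1_out_core T' (pCoreOf 2 (K' ⊔ T')) z v k x hQT hvT
    (mem_or_mul_mem_of_relIndex_two _ T' hidx2 v hvT hvQ) hvv hzz hzQ
    (fun t ht => hzc t (hT'S ht))
    (fun q hq => hconj q (hT'S (hQT hq))) hk3 hkz hkQ hvk'
    (fun t ht => (Subgroup.mem_normalizer_iff.mp hxT t).mp ht)
    (key x hxS v hvV)
  exact mem_normalizer_of_conj_mem _ x hcore

/-- verbatim check of the piece statement -/
example : (∀ {G : Type u} [Group G] [Finite G] (S : Sylow 2 G)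
    (M K L T' K' L' : Subgroup G), Cfsg.Agent.H64.Jy.RCtx2 S M K L T' K' L' →
  ¬ Cfsg.Agent.H52.Jx.Vof L ≤ pCoreOf 2 (K' ⊔ T') →
  ∀ x ∈ (S : Subgroup G), x ∈ Subgroup.normalizer (T' : Set G) →
    x ∈ Subgroup.normalizer (pCoreOf 2 (K' ⊔ T') : Set G)) :=
  Cfsg.Agent.H71.Jx.kbNorm.{u}

end Cfsg.Agent.H71.Jx
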