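import Mathlib
import Cfsg.Agent.H64.JyDefs
import Cfsg.Agent.H4.JkA
import Cfsg.Agent.H51.Local

/-!
# JY-GOODA (helper64's S2953 project)

For a configuration `Base S M T K L` and `P = K ⊔ T`: `C_G(O₂(P)) ≤ O₂(P)`, `T` is a Sylow
2-subgroup of `P`, and `L` is the unique maximal 2-local subgroup over `P`, with `T` Sylow in it.
(`L ∈ ℒ(T)` by JK-A; `O₂(L) ≤ T ≤ P ≤ L`, so `O₂(L) ≤ O₂(P)`; uniqueness by S2950.)
-/

set_option autoImplicit false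
open Cfsg

namespace Cfsg.Agent.H71.Jy

universe u

/-- **JY-GOODA.** -/
theorem goodA : Cfsg.Agent.H64.Jy.StGoodA.{u} := by
  intro G _ _ S M T K L hB
  obtain ⟨hov, -, -⟩ := Cfsg.Agent.H4.Jk.ka S M T K L hB
  obtain ⟨⟨hL, hN, hZ⟩, hO, hM, hMJ, hT, hTS, hK, hLmax, hKL⟩ := hB
  obtain ⟨L₀, hL₀max, hKL₀, huniq, hsn, hsyl⟩ :=
    Cfsg.Agent.S2950.result hL hN hZ hO S M hM hMJ T hT K hK
  have hLL : L = L₀ := huniq L hLmax hKL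
  obtain ⟨hsylL, -, hCL⟩ := hov
  obtain ⟨hTL, hT2, hodd⟩ := hsylL
  have hKLe : K ≤ L := le_sup_left.trans hKL
  have hPL : K ⊔ T ≤ L := sup_le hKLe hTL
  have hTP : T ≤ K ⊔ T := le_sup_right
  have hsylP : IsSylowTwoIn T (K ⊔ T) := by
    refine ⟨hTP, hT2, ?_⟩
    have h := Subgroup.relIndex_mul_relIndex T (K ⊔ T) L hTP hPL
    have hodd' := hodd
    rw [← h] at hodd'
    exact (Nat.odd_mul.mp hodd').1
  have hQT : pCoreOf 2 L ≤ T :=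
    Cfsg.Agent.Helper55.J48.pCoreOf_le_of_sylowIn ⟨hTL, hT2, hodd⟩
  have hQP : pCoreOf 2 L ≤ pCoreOf 2 (K ⊔ T) := by
    apply Cfsg.Agent.H51.le_pCoreOf 2 (hQT.trans hTP)
    · exact hPL.trans (Cfsg.Agent.H51.le_normalizer_pCoreOf 2 L)
    · exact Cfsg.Agent.H51.pCoreOf_isPGroup 2 L
  refine ⟨?_, hsylP, L, hLmax, hPL, ⟨hTL, hT2, hodd⟩, ?_⟩
  · exact (Subgroup.centralizer_le hQP).trans (hCL.trans hQP)
  · intro L' hL'max hPL'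
    have h1 : L' = L₀ := huniq L' hL'max
      (sup_le (le_sup_left.trans hPL')
        ((Cfsg.Agent.Helper55.ThJ.J_le T).trans (hTP.trans hPL')))
    exact h1.trans hLL.symm

/-- verbatim check of the piece statement -/
example : (∀ {G : Type u} [Group G] [Finite G] (S : Sylow 2 G) (M T K L : Subgroup G),
  Cfsg.Agent.H64.Jz.Base S M T K L →
  Subgroup.centralizer (Cfsg.pCoreOf 2 (K ⊔ T) : Set G) ≤ Cfsg.pCoreOf 2 (K ⊔ T) ∧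
  Cfsg.IsSylowTwoIn T (K ⊔ T) ∧
  ∃ L₀ : Subgroup G, Cfsg.IsMaximalTwoLocal L₀ ∧ K ⊔ T ≤ L₀ ∧ Cfsg.IsSylowTwoIn T L₀ ∧
    ∀ L' : Subgroup G, Cfsg.IsMaximalTwoLocal L' → K ⊔ T ≤ L' → L' = L₀) :=
  Cfsg.Agent.H71.Jy.goodA.{u}

end Cfsg.Agent.H71.Jy
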