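import Mathlib
import Cfsg.Agent.H64.JyDefs
import Cfsg.Agent.Helper55.ThJ

/-!
# JY-NS (helper64's S2953 project): `N_G(S) ≤ M` for a configuration `Base S M T K L`
(`J(S)` is characteristic in `S` and `N_G(J(S)) ≤ M`).
-/

set_option autoImplicit false
open Cfsg

namespace Cfsg.Agent.H71.Jy

universe u

/-- **JY-NS.** -/
theorem ns : Cfsg.Agent.H64.Jy.StNS.{u} := by
  intro G _ _ S M T K L hB
  exact (Cfsg.Agent.Helper55.ThJ.normalizer_le (S : Subgroup G)).trans hB.2.2.2.1

/-- verbatim check of the piece statement -/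
example : (∀ {G : Type u} [Group G] [Finite G] (S : Sylow 2 G) (M T K L : Subgroup G),
  Cfsg.Agent.H64.Jz.Base S M T K L → Subgroup.normalizer ((S : Subgroup G) : Set G) ≤ M) :=
  Cfsg.Agent.H71.Jy.ns.{u}

end Cfsg.Agent.H71.Jy
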