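import Mathlib
import Cfsg.Agent.H71.Parts
import Cfsg.Agent.H71.SylowConj
import Cfsg.Agent.H71.ConjMod

set_option autoImplicit false

namespace Cfsg.Agent.H71

/-- If `g` normalizes `⟨y⟩` and `a ∈ ⟨y⟩`, then `g` maps `⟨a⟩` into itself. -/
theorem conj_mem_zpowers_of_normalizer {G : Type*} [Group G] {g y a : G}
    (hg : g ∈ Subgroup.normalizer ((Subgroup.zpowers y : Subgroup G) : Set G))
    (ha : a ∈ Subgroup.zpowers y) {h : G} (hh : h ∈ Subgroup.zpowers a) :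
    g * h * g⁻¹ ∈ Subgroup.zpowers a := by
  have h1 : g * y * g⁻¹ ∈ Subgroup.zpowers y :=
    (Subgroup.mem_set_normalizer_iff.1 hg y).1 (Subgroup.mem_zpowers y)
  obtain ⟨m, hm⟩ := Subgroup.mem_zpowers_iff.1 h1
  obtain ⟨i, rfl⟩ := Subgroup.mem_zpowers_iff.1 ha
  obtain ⟨j, rfl⟩ := Subgroup.mem_zpowers_iff.1 hh
  rw [Subgroup.mem_zpowers_iff]
  refine ⟨m * j, ?_⟩
  rw [← conj_zpow, ← conj_zpow, ← hm, ← zpow_mul, ← zpow_mul, ← zpow_mul]
  congr 1; ring

/-- If `g` normalizes `⟨y⟩` and `a ∈ ⟨y⟩`, then `g` normalizes `⟨a⟩`. -/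
theorem normalizer_zpowers_of_mem {G : Type*} [Group G] {g y a : G}
    (hg : g ∈ Subgroup.normalizer ((Subgroup.zpowers y : Subgroup G) : Set G))
    (ha : a ∈ Subgroup.zpowers y) :
    g ∈ Subgroup.normalizer ((Subgroup.zpowers a : Subgroup G) : Set G) := by
  rw [Subgroup.mem_set_normalizer_iff]
  intro h
  constructor
  · intro hh
    exact conj_mem_zpowers_of_normalizer hg ha hh
  · intro hh
    have hg' : g⁻¹ ∈ Subgroup.normalizer ((Subgroup.zpowers y : Subgroup G) : Set G) :=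
      Subgroup.inv_mem _ hg
    have := conj_mem_zpowers_of_normalizer hg' ha hh
    have e : g⁻¹ * (g * h * g⁻¹) * g⁻¹⁻¹ = h := by group
    rw [e] at this
    exact this

/-- An element inverting (or more generally mapping `x` into `⟨x⟩`, with the inverse doing the
same) normalizes `⟨x⟩`. -/
theorem mem_normalizer_zpowers {G : Type*} [Group G] {g x : G}
    (h1 : g * x * g⁻¹ ∈ Subgroup.zpowers x) (h2 : g⁻¹ * x * g ∈ Subgroup.zpowers x) :
    g ∈ Subgroup.normalizer ((Subgroup.zpowers x : Subgroup G) : Set G) := by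
  rw [Subgroup.mem_set_normalizer_iff]
  intro h
  constructor
  · intro hh
    obtain ⟨j, rfl⟩ := Subgroup.mem_zpowers_iff.1 hh
    rw [← conj_zpow]
    exact Subgroup.zpow_mem _ h1 j
  · intro hh
    obtain ⟨m, hm⟩ := Subgroup.mem_zpowers_iff.1 hh
    have : h = (g⁻¹ * x * g) ^ m := by
      have e : g⁻¹ * x * g = g⁻¹ * x * g⁻¹⁻¹ := by rw [inv_inv]
      rw [e, conj_zpow, hm]; group
    rw [this]
    exact Subgroup.zpow_mem _ h2 m

/-- Lifting normalizers through a quotient by a normal `p'`-subgroup: if `g N` normalizes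
`⟨x N⟩` for a `p`-element `x`, then `n⁻¹ g` normalizes `⟨x⟩` for some `n ∈ N`. -/
theorem lift_normalizer {G : Type*} [Group G] [Finite G] {p : ℕ} [Fact p.Prime]
    (N : Subgroup G) [N.Normal] (hN : ¬ p ∣ Nat.card N) (x g : G)
    (hx : ∃ k : ℕ, orderOf x = p ^ k)
    (hg : (g : G ⧸ N) ∈ Subgroup.normalizer
      ((Subgroup.zpowers (x : G ⧸ N) : Subgroup (G ⧸ N)) : Set (G ⧸ N))) :
    ∃ n ∈ N, n⁻¹ * g ∈ Subgroup.normalizer ((Subgroup.zpowers x : Subgroup G) : Set G) := by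
  have hx' : ∃ k : ℕ, orderOf (g * x * g⁻¹) = p ^ k := by
    obtain ⟨k, hk⟩ := hx
    refine ⟨k, ?_⟩
    rw [← hk]
    have : SemiconjBy g x (g * x * g⁻¹) := by
      show g * x = g * x * g⁻¹ * g
      group
    exact (this.orderOf_eq).symm
  have h21 : Subgroup.zpowers (g * x * g⁻¹) ≤ N ⊔ Subgroup.zpowers x := by
    rw [Subgroup.zpowers_le]
    have h1 : (g : G ⧸ N) * (x : G ⧸ N) * (g : G ⧸ N)⁻¹ ∈ Subgroup.zpowers (x : G ⧸ N) :=
      (Subgroup.mem_set_normalizer_iff.1 hg _).1 (Subgroup.mem_zpowers _)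
    obtain ⟨m, hm⟩ := Subgroup.mem_zpowers_iff.1 h1
    have h2 : ((x ^ m : G) : G ⧸ N) = ((g * x * g⁻¹ : G) : G ⧸ N) := by
      rw [QuotientGroup.mk_zpow, hm]; rfl
    rw [QuotientGroup.eq] at h2
    have : g * x * g⁻¹ = x ^ m * ((x ^ m)⁻¹ * (g * x * g⁻¹)) := by group
    rw [this]
    exact Subgroup.mul_mem _ (Subgroup.mem_sup_right (Subgroup.zpow_mem _ (Subgroup.mem_zpowers x) m))
      (Subgroup.mem_sup_left h2)
  have h12 : Subgroup.zpowers x ≤ N ⊔ Subgroup.zpowers (g * x * g⁻¹) := by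
    rw [Subgroup.zpowers_le]
    have h1 : (g : G ⧸ N)⁻¹ * (x : G ⧸ N) * (g : G ⧸ N) ∈ Subgroup.zpowers (x : G ⧸ N) :=
      (Subgroup.mem_set_normalizer_iff''.1 hg _).1 (Subgroup.mem_zpowers _)
    obtain ⟨m, hm⟩ := Subgroup.mem_zpowers_iff.1 h1
    have h2 : (((g * x * g⁻¹) ^ m : G) : G ⧸ N) = (x : G ⧸ N) := by
      rw [QuotientGroup.mk_zpow]
      show ((g : G ⧸ N) * (x : G ⧸ N) * (g : G ⧸ N)⁻¹) ^ m = _
      rw [conj_zpow, hm]; group
    rw [QuotientGroup.eq] at h2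
    have hmem : (g * x * g⁻¹) ^ m * (((g * x * g⁻¹) ^ m)⁻¹ * x) ∈
        N ⊔ Subgroup.zpowers (g * x * g⁻¹) :=
      Subgroup.mul_mem _
        (Subgroup.mem_sup_right (Subgroup.zpow_mem _ (Subgroup.mem_zpowers _) m))
        (Subgroup.mem_sup_left h2)
    have e : (g * x * g⁻¹) ^ m * (((g * x * g⁻¹) ^ m)⁻¹ * x) = x := by group
    rw [e] at hmem
    exact hmem
  obtain ⟨n, hn, hny⟩ := conj_mod_normal N hN (Subgroup.zpowers x) (Subgroup.zpowers (g * x * g⁻¹))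
    (isPGroup_zpowers hx) (isPGroup_zpowers hx') h12 h21
  refine ⟨n, hn, ?_⟩
  apply mem_normalizer_zpowers
  · have e : n⁻¹ * g * x * (n⁻¹ * g)⁻¹ = n⁻¹ * (g * x * g⁻¹) * n := by group
    rw [e]
    exact (hny _).1 (Subgroup.mem_zpowers _)
  · -- x ∈ ⟨(n⁻¹ g) x (n⁻¹ g)⁻¹⟩ would be more natural; use finiteness via the iff
    have h3 : ∀ h : G, h ∈ Subgroup.zpowers x → n⁻¹ * g * h * (n⁻¹ * g)⁻¹ ∈ Subgroup.zpowers x := by
      intro h hh
      obtain ⟨j, rfl⟩ := Subgroup.mem_zpowers_iff.1 hh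
      have e : n⁻¹ * g * x ^ j * (n⁻¹ * g)⁻¹ = n⁻¹ * (g * x * g⁻¹) ^ j * n := by
        rw [conj_zpow]; group
      rw [e]
      exact (hny _).1 (Subgroup.zpow_mem _ (Subgroup.mem_zpowers _) j)
    -- the conjugation map is injective on the finite set ⟨x⟩, hence surjective
    have hinj : Function.Injective (fun h : Subgroup.zpowers x =>
        (⟨n⁻¹ * g * h * (n⁻¹ * g)⁻¹, h3 h h.2⟩ : Subgroup.zpowers x)) := by
      intro a b hab
      have := congrArg Subtype.val hab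
      simp only at this
      apply Subtype.ext
      have e := mul_right_cancel this
      exact mul_left_cancel e
    have hsurj := Finite.surjective_of_injective hinj
    obtain ⟨w, hw⟩ := hsurj ⟨x, Subgroup.mem_zpowers x⟩
    have hw' : n⁻¹ * g * (w : G) * (n⁻¹ * g)⁻¹ = x := congrArg Subtype.val hw
    have : (n⁻¹ * g)⁻¹ * x * (n⁻¹ * g) = (w : G) := by
      calc (n⁻¹ * g)⁻¹ * x * (n⁻¹ * g)
          = (n⁻¹ * g)⁻¹ * (n⁻¹ * g * (w : G) * (n⁻¹ * g)⁻¹) * (n⁻¹ * g) := by rw [hw']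
        _ = (w : G) := by group
    rw [this]
    exact w.2

end Cfsg.Agent.H71
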