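import Mathlib
import Cfsg.Agent.H69.M11Word

/-!
# S0420-FIB (helper93's team project on `M11`)

`card_fiber_le_five`: for an involution `h` normalizing but not inverting the Sylow `3`-subgroup
`P` and inverting `x ∈ P` of order `3`, at most `5` of the involutions `g` commuting with `h`
satisfy `(g x)³ = 1`.
-/

set_option autoImplicit false

namespace Cfsg.Agent.H71.M11

open Subgroup

/-- **S0420-FIB**. -/
theorem card_fiber_le_five {G : Type*} [Group G] [Finite G] (P : Sylow 3 G)
    (hP9 : Nat.card (P : Subgroup G) = 9)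
    (hC : Nat.card (centralizer ((P : Subgroup G) : Set G)) = 9)
    (t : G) (ht : orderOf t = 2) (htP : ∀ p ∈ (P : Subgroup G), t * p * t⁻¹ = p⁻¹)
    (x h : G) (hx : orderOf x = 3) (hxP : x ∈ (P : Subgroup G)) (hh : orderOf h = 2)
    (hhx : h * x * h⁻¹ = x⁻¹) (hnorm : h ∈ normalizer ((P : Subgroup G) : Set G))
    (hnot : ¬ ∀ p ∈ (P : Subgroup G), h * p * h⁻¹ = p⁻¹)
    (hcomm12 : Nat.card {g : G // orderOf g = 2 ∧ g ≠ h ∧ g * h = h * g} = 12) :
    Nat.card {g : G // orderOf g = 2 ∧ orderOf (g * x) = 3 ∧ g * h = h * g} ≤ 5 := by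
  classical
  have hh2 : h * h = 1 := by rw [← pow_two, ← hh]; exact pow_orderOf_eq_one h
  have hhinv : h⁻¹ = h := inv_eq_of_mul_eq_one_left hh2
  have ht2 : t * t = 1 := by rw [← pow_two, ← ht]; exact pow_orderOf_eq_one t
  have htinv : t⁻¹ = t := inv_eq_of_mul_eq_one_left ht2
  have hh2' : ∀ a : G, h * (h * a) = a := fun a => by rw [← mul_assoc, hh2, one_mul]
  have ht2' : ∀ a : G, t * (t * a) = a := fun a => by rw [← mul_assoc, ht2, one_mul]
  have hx3 : x ^ 3 = 1 := by rw [← hx]; exact pow_orderOf_eq_one x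
  have hx1 : x ≠ 1 := by
    intro h1
    rw [h1, orderOf_one] at hx
    omega
  have hh1 : h ≠ 1 := by
    intro h1
    rw [h1, orderOf_one] at hh
    omega
  have hp3 : Fact (Nat.Prime 3) := ⟨Nat.prime_three⟩
  have hp2 : Fact (Nat.Prime 2) := ⟨Nat.prime_two⟩
  -- `P` is abelian and self-centralizing
  have hPc : IsMulCommutative (P : Subgroup G) :=
    IsPGroup.isMulCommutative_of_card_eq_prime_sq (p := 3) (by rw [hP9]; norm_num)
  have hPcomm : ∀ a ∈ (P : Subgroup G), ∀ b ∈ (P : Subgroup G), a * b = b * a := by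
    intro a ha b hb
    have := hPc.is_comm.comm (⟨a, ha⟩ : (P : Subgroup G)) ⟨b, hb⟩
    exact congrArg Subtype.val this
  have hle : (P : Subgroup G) ≤ centralizer ((P : Subgroup G) : Set G) :=
    Subgroup.le_centralizer_iff_isMulCommutative.mpr hPc
  have hCP : (P : Subgroup G) = centralizer ((P : Subgroup G) : Set G) :=
    Subgroup.eq_of_le_of_card_ge hle (by rw [hC, hP9])
  have hnP : ∀ p ∈ (P : Subgroup G), h * p * h⁻¹ ∈ (P : Subgroup G) := fun p hp =>
    (Subgroup.mem_normalizer_iff.mp hnorm p).mp hp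
  have hA : ∀ p ∈ (P : Subgroup G), t * p = p⁻¹ * t := by
    intro p hp
    have := htP p hp
    calc t * p = (t * p * t⁻¹) * t := by group
      _ = p⁻¹ * t := by rw [this]
  -- `c = h t h⁻¹ t⁻¹ ∈ C(P) = P`
  have hcP : h * t * h⁻¹ * t⁻¹ ∈ centralizer ((P : Subgroup G) : Set G) := by
    rw [Subgroup.mem_centralizer_iff]
    intro p hp
    have hp' : p ∈ (P : Subgroup G) := hp
    have hq : h * p⁻¹ * h⁻¹ ∈ (P : Subgroup G) := hnP _ (inv_mem hp')
    rw [hhinv] at hq
    rw [hhinv, htinv]
    obtain ⟨q, hqdef⟩ : ∃ q, q = h * p⁻¹ * h := ⟨_, rfl⟩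
    rw [← hqdef] at hq
    have e1 := hA p hp'
    have e2 : h * p⁻¹ = q * h := by
      rw [hqdef]; simp only [mul_assoc, hh2, mul_one]
    have e3 := hA q hq
    have e4 : h * q⁻¹ = p * h := by
      have h1 : q * (h * p * h) = 1 := by
        rw [hqdef]; simp only [mul_assoc, hh2', inv_mul_cancel_left, hh2]
      rw [inv_eq_of_mul_eq_one_right h1]
      simp only [mul_assoc, hh2']
    symm
    calc h * t * h * t * p = h * t * h * (t * p) := by simp only [mul_assoc]
      _ = h * t * h * (p⁻¹ * t) := by rw [e1]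
      _ = h * t * (h * p⁻¹) * t := by simp only [mul_assoc]
      _ = h * t * (q * h) * t := by rw [e2]
      _ = h * (t * q) * h * t := by simp only [mul_assoc]
      _ = h * (q⁻¹ * t) * h * t := by rw [e3]
      _ = (h * q⁻¹) * t * h * t := by simp only [mul_assoc]
      _ = (p * h) * t * h * t := by rw [e4]
      _ = p * (h * t * h * t) := by simp only [mul_assoc]
  rw [← hCP] at hcP
  obtain ⟨c, hcdef⟩ : ∃ c, c = h * t * h⁻¹ * t⁻¹ := ⟨_, rfl⟩
  rw [← hcdef] at hcP
  have hct : h * t * h⁻¹ = c * t := by rw [hcdef]; group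
  have hch : h * c * h⁻¹ = c⁻¹ := by
    rw [hcdef, hhinv, htinv]
    symm
    apply inv_eq_of_mul_eq_one_right
    simp only [mul_assoc, hh2', ht2', hh2]
  have hc9 : c ^ 9 = 1 := by
    have h1 := pow_card_eq_one' (G := (P : Subgroup G)) (x := ⟨c, hcP⟩)
    rw [hP9] at h1
    have h2 := congrArg Subtype.val h1
    simpa using h2
  obtain ⟨d, hddef⟩ : ∃ d, d = c ^ 5 := ⟨_, rfl⟩
  have hdP : d ∈ (P : Subgroup G) := hddef ▸ pow_mem hcP 5
  have hdd : d * d = c := by
    rw [hddef, ← pow_add]
    calc c ^ (5 + 5) = c ^ 9 * c := by rw [← pow_succ]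
      _ = c := by rw [hc9, one_mul]
  have hdh : h * d * h⁻¹ = d⁻¹ := by
    rw [hddef, ← conj_pow, hch, inv_pow]
  -- `t' = d * t` is an involution inverting `P` and commuting with `h`
  have ht'h : h * (d * t) * h⁻¹ = d * t := by
    calc h * (d * t) * h⁻¹ = (h * d * h⁻¹) * (h * t * h⁻¹) := by group
      _ = d⁻¹ * (c * t) := by rw [hdh, hct]
      _ = d⁻¹ * (d * d * t) := by rw [hdd]
      _ = d * t := by group
  have ht'comm : (d * t) * h = h * (d * t) := by
    calc (d * t) * h = (h * (d * t) * h⁻¹) * h := by rw [ht'h]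
      _ = h * (d * t) := by group
  have ht'inv : ∀ p ∈ (P : Subgroup G), (d * t) * p * (d * t)⁻¹ = p⁻¹ := by
    intro p hp
    calc (d * t) * p * (d * t)⁻¹ = d * (t * p * t⁻¹) * d⁻¹ := by group
      _ = d * p⁻¹ * d⁻¹ := by rw [htP p hp]
      _ = p⁻¹ * d * d⁻¹ := by rw [hPcomm d hdP p⁻¹ (inv_mem hp)]
      _ = p⁻¹ := by group
  have ht'sq : (d * t) * (d * t) = 1 := by
    calc (d * t) * (d * t) = d * (t * d) * t := by group
      _ = d * (d⁻¹ * t) * t := by rw [hA d hdP]
      _ = t * t := by group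
      _ = 1 := ht2
  have htnP : t ∉ (P : Subgroup G) := by
    intro htP'
    have h2 : orderOf t ∣ Nat.card (P : Subgroup G) := by
      have := orderOf_dvd_natCard (⟨t, htP'⟩ : (P : Subgroup G))
      rwa [Subgroup.orderOf_mk] at this
    rw [ht, hP9] at h2
    omega
  have ht'1 : d * t ≠ 1 := by
    intro h1
    apply htnP
    have : t = d⁻¹ := by
      calc t = d⁻¹ * (d * t) := by group
        _ = d⁻¹ := by rw [h1, mul_one]
    rw [this]
    exact inv_mem hdP
  have ht'o : orderOf (d * t) = 2 := orderOf_eq_prime (by rw [pow_two]; exact ht'sq) ht'1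
  have ht'h' : d * t ≠ h := by
    intro h1
    apply hnot
    intro p hp
    rw [← h1]
    exact ht'inv p hp
  have hno3 : ∀ s : G, s * s = 1 → s * x * s⁻¹ = x⁻¹ → orderOf (s * x) ≠ 3 := by
    intro s hs2 hsx h3
    have h1 : (s * x) ^ 2 = 1 := by
      rw [pow_two]
      calc s * x * (s * x) = (s * x * s⁻¹) * (s * s) * x := by group
        _ = 1 := by rw [hsx, hs2]; group
    have h2 : orderOf (s * x) ∣ 2 := orderOf_dvd_of_pow_eq_one h1
    rw [h3] at h2
    omega
  -- `u = h * t'`
  have hu2 : (h * (d * t)) * (h * (d * t)) = 1 := by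
    calc (h * (d * t)) * (h * (d * t)) = h * ((d * t) * h) * (d * t) := by group
      _ = h * (h * (d * t)) * (d * t) := by rw [ht'comm]
      _ = (h * h) * ((d * t) * (d * t)) := by group
      _ = 1 := by rw [hh2, ht'sq, one_mul]
  have hu1 : h * (d * t) ≠ 1 := by
    intro h1
    apply ht'h'
    calc d * t = h⁻¹ * (h * (d * t)) := by group
      _ = h := by rw [h1, mul_one, hhinv]
  have hux : (h * (d * t)) * x = x * (h * (d * t)) := by
    have h1 : (h * (d * t)) * x * (h * (d * t))⁻¹ = x := by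
      calc (h * (d * t)) * x * (h * (d * t))⁻¹ = h * ((d * t) * x * (d * t)⁻¹) * h⁻¹ := by group
        _ = h * x⁻¹ * h⁻¹ := by rw [ht'inv x hxP]
        _ = (h * x * h⁻¹)⁻¹ := by group
        _ = x := by rw [hhx, inv_inv]
    calc (h * (d * t)) * x = ((h * (d * t)) * x * (h * (d * t))⁻¹) * (h * (d * t)) := by group
      _ = x * (h * (d * t)) := by rw [h1]
  have hu3 : orderOf (h * (d * t) * x) ≠ 3 := by
    intro h3
    have h1 : (h * (d * t) * x) ^ 3 = 1 := by rw [← h3]; exact pow_orderOf_eq_one _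
    have hcomm : Commute (h * (d * t)) x := hux
    rw [hcomm.mul_pow, hx3, mul_one] at h1
    apply hu1
    have key : ∀ u : G, u ^ 3 = 1 → u * u = 1 → u = 1 := by
      intro u h3 h2
      calc u = u ^ 3 * (u * u)⁻¹ := by group
        _ = 1 := by rw [h3, h2]; group
    exact key _ h1 hu2
  -- the sets
  set R : Set G := {g | orderOf g = 2 ∧ orderOf (g * x) = 3 ∧ g * h = h * g} with hR
  set J : Set G := {g | orderOf g = 2 ∧ g ≠ h ∧ g * h = h * g} with hJ
  have hJcard : J.ncard = 12 := by
    rw [← Nat.card_coe_set_eq]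
    exact hcomm12
  change Nat.card ↥R ≤ 5
  rw [Nat.card_coe_set_eq]
  have hRsq : ∀ g ∈ R, g * g = 1 := by
    intro g hg
    rw [← pow_two, ← hg.1]
    exact pow_orderOf_eq_one g
  have hRne : ∀ g ∈ R, g ≠ h := by
    intro g hg h1
    rw [h1] at hg
    exact hno3 h hh2 hhx hg.2.1
  have hR1 : ∀ g ∈ R, g ≠ 1 := by
    intro g hg h1
    have := hg.1
    rw [h1, orderOf_one] at this
    omega
  have hsub : R ∪ (fun g => h * g) '' R ∪ {d * t, h * (d * t)} ⊆ J := by
    rintro g ((hg | ⟨g', hg', rfl⟩) | hg)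
    · exact ⟨hg.1, hRne g hg, hg.2.2⟩
    · have hmem : h * g' ∈ J := by
        refine ⟨?_, ?_, ?_⟩
        · refine orderOf_eq_prime ?_ ?_
          · rw [pow_two]
            calc h * g' * (h * g') = h * (g' * h) * g' := by group
              _ = h * (h * g') * g' := by rw [hg'.2.2]
              _ = (h * h) * (g' * g') := by group
              _ = 1 := by rw [hh2, hRsq g' hg', one_mul]
          · intro h1
            apply hRne g' hg'
            calc g' = h⁻¹ * (h * g') := by group
              _ = h := by rw [h1, mul_one, hhinv]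
        · intro h1
          apply hR1 g' hg'
          exact mul_left_cancel (a := h) (by rw [h1, mul_one])
        · rw [mul_assoc, hg'.2.2]
      exact hmem
    · rcases hg with rfl | hg
      · exact ⟨ht'o, ht'h', ht'comm⟩
      · rw [Set.mem_singleton_iff] at hg
        subst hg
        refine ⟨orderOf_eq_prime (by rw [pow_two]; exact hu2) hu1, ?_, ?_⟩
        · intro h1
          apply ht'1
          exact mul_left_cancel (a := h) (by rw [h1, mul_one])
        · rw [mul_assoc, ht'comm]
  have hdisj1 : Disjoint R ((fun g => h * g) '' R) := by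
    rw [Set.disjoint_left]
    rintro g hg ⟨g', hg', hgg⟩
    have hgg : h * g' = g := hgg
    have hg'eq : g' = h * g := by
      rw [← hgg, ← mul_assoc, hh2, one_mul]
    have h1 : (g * x) ^ 3 = 1 := by rw [← hg.2.1]; exact pow_orderOf_eq_one _
    have h2 : (h * g * x) ^ 3 = 1 := by
      have := hg'.2.1
      rw [hg'eq] at this
      rw [← this]
      exact pow_orderOf_eq_one _
    exact Cfsg.Agent.H69.M11.no_both_lifts g h x (hRsq g hg) hh2 hg.2.2.symm hx3 hx1 hhx h1 h2
  have hdisj2 : Disjoint (R ∪ (fun g => h * g) '' R) {d * t, h * (d * t)} := by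
    rw [Set.disjoint_left]
    rintro g (hg | ⟨g', hg', hgg⟩) hmem
    on_goal 2 => have hgg : h * g' = g := hgg
    · rcases hmem with h1 | h1
      · rw [h1] at hg
        exact hno3 (d * t) ht'sq (ht'inv x hxP) hg.2.1
      · rw [Set.mem_singleton_iff] at h1
        rw [h1] at hg
        exact hu3 hg.2.1
    · rcases hmem with h1 | h1
      · have : g' = h * (d * t) := by
          rw [← h1, ← hgg, ← mul_assoc, hh2, one_mul]
        rw [this] at hg'
        exact hu3 hg'.2.1
      · rw [Set.mem_singleton_iff] at h1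
        have : g' = d * t := mul_left_cancel (a := h) (by rw [hgg, h1])
        rw [this] at hg'
        exact hno3 (d * t) ht'sq (ht'inv x hxP) hg'.2.1
  have hne : d * t ≠ h * (d * t) := by
    intro h1
    apply hh1
    have : 1 * (d * t) = h * (d * t) := by rw [one_mul]; exact h1
    exact (mul_right_cancel this).symm
  have hfin : ∀ s : Set G, s.Finite := fun s => Set.toFinite s
  have hc1 : (R ∪ (fun g => h * g) '' R ∪ {d * t, h * (d * t)}).ncard =
      (R ∪ (fun g => h * g) '' R).ncard + ({d * t, h * (d * t)} : Set G).ncard :=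
    Set.ncard_union_eq hdisj2 (hfin _) (hfin _)
  have hc2 : (R ∪ (fun g => h * g) '' R).ncard = R.ncard + ((fun g => h * g) '' R).ncard :=
    Set.ncard_union_eq hdisj1 (hfin _) (hfin _)
  have hc3 : ((fun g => h * g) '' R).ncard = R.ncard :=
    Set.ncard_image_of_injective _ (mul_right_injective h)
  have hc4 : ({d * t, h * (d * t)} : Set G).ncard = 2 := Set.ncard_pair hne
  have hc5 := Set.ncard_le_ncard hsub (hfin J)
  rw [hc1, hc2, hc3, hc4, hJcard] at hc5
  omega

end Cfsg.Agent.H71.M11
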