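import Mathlib

set_option autoImplicit false

namespace Cfsg.Agent.H71

/-- Elements of the closure of a pairwise commuting set commute. -/
theorem closure_commute {G : Type*} [Group G] (S : Set G)
    (hcomm : ∀ a ∈ S, ∀ b ∈ S, a * b = b * a) :
    ∀ a ∈ Subgroup.closure S, ∀ b ∈ Subgroup.closure S, a * b = b * a := by
  have h1 : Subgroup.closure S ≤ Subgroup.centralizer S :=
    (Subgroup.closure_le _).2 fun a ha => Subgroup.mem_centralizer_iff.2 fun b hb => hcomm b hb a ha
  intro a ha b hb
  have h2 : Subgroup.closure S ≤ Subgroup.centralizer {a} :=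
    (Subgroup.closure_le _).2 fun s hs => by
      rw [SetLike.mem_coe, Subgroup.mem_centralizer_singleton_iff]
      exact (Subgroup.mem_centralizer_iff.1 (h1 ha) s hs)
  have := h2 hb
  rw [Subgroup.mem_centralizer_singleton_iff] at this
  exact this.symm

/-- The closure of a pairwise commuting set of `p`-elements is a `p`-group. -/
theorem isPGroup_closure_of_commute {G : Type*} [Group G] {p : ℕ} (S : Set G)
    (hcomm : ∀ a ∈ S, ∀ b ∈ S, a * b = b * a) (hp : ∀ a ∈ S, ∃ k : ℕ, a ^ p ^ k = 1) :
    IsPGroup p (Subgroup.closure S) := by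
  have hc := closure_commute S hcomm
  rintro ⟨y, hy⟩
  have key : ∃ k : ℕ, y ^ p ^ k = 1 := by
    induction hy using Subgroup.closure_induction with
    | mem x hx => exact hp x hx
    | one => exact ⟨0, one_pow _⟩
    | mul x y hx hy ihx ihy =>
      obtain ⟨k, hk⟩ := ihx
      obtain ⟨l, hl⟩ := ihy
      refine ⟨k + l, ?_⟩
      have hxy : Commute x y := hc x hx y hy
      rw [hxy.mul_pow, pow_add, pow_mul, hk, one_pow, mul_comm (p ^ k), pow_mul, hl, one_pow, one_mul]
    | inv x hx ih =>
      obtain ⟨k, hk⟩ := ih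
      exact ⟨k, by rw [inv_pow, hk, inv_one]⟩
  obtain ⟨k, hk⟩ := key
  exact ⟨k, Subtype.ext (by simpa using hk)⟩

end Cfsg.Agent.H71
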