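import Mathlib
import Cfsg.Agent.H51.RsDefs

/-!
# RS-TWO (helper71, for helper51's S2113 project)

An abelian subgroup `S` of order 8 normalised but not centralised by an element `y` with `y^7 = 1`
has abelian preimage in every central extension.

Proof: the seven conjugates `A i = y^i a y^-i` of an element `a ∈ S` moved by `y` are distinct and
non-trivial, so `S = {1} ∪ {A i}`; hence `S` has exponent 2.  The commutator pairing
`E i j = [lift (A i), lift (A j)]` is central, bimultiplicative, alternating, 2-torsion and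
shift-invariant; `A 0 * A 1 = A k` for some `2 ≤ k ≤ 6`, and the resulting `𝔽₂`-linear system
(`two_lin`) forces `E = 1`.
-/

set_option autoImplicit false

namespace Cfsg.Agent.H71.Rs

open Cfsg.Agent.H96.Ro Cfsg.Agent.H51.Rs

universe v w

/-- the `𝔽₂`-linear system -/
theorem two_lin {A : Type*} [AddCommGroup A] (f : ℕ → A) (k : ℕ) (hk : 2 ≤ k) (hk' : k ≤ 6)
    (h0 : f 0 = 0) (h7 : ∀ n, f (n + 7) = f n) (h2 : ∀ n, 2 • f n = 0)
    (hs : ∀ n ≤ 7, f (7 - n) = f n)
    (hr : ∀ j ≤ 6, f ((k + 7 - j) % 7) = f (7 - j) + f (8 - j)) : ∀ n < 7, f n = 0 := by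
  have h70 : f 7 = 0 := by rw [← h0]; exact h7 0
  have h81 : f 8 = f 1 := h7 1
  have h61 : f 6 = f 1 := hs 1 (by norm_num)
  have h52 : f 5 = f 2 := hs 2 (by norm_num)
  have h43 : f 4 = f 3 := hs 3 (by norm_num)
  have t1 : f 1 + f 1 = 0 := by rw [← two_nsmul]; exact h2 1
  have t2 : f 2 + f 2 = 0 := by rw [← two_nsmul]; exact h2 2
  have t3 : f 3 + f 3 = 0 := by rw [← two_nsmul]; exact h2 3
  have key : f 1 = 0 ∧ f 2 = 0 ∧ f 3 = 0 := by
    interval_cases k
    · -- k = 2
      have r0 : f 2 = f 7 + f 8 := hr 0 (by norm_num)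
      have r1 : f 1 = f 6 + f 7 := hr 1 (by norm_num)
      have r2 : f 0 = f 5 + f 6 := hr 2 (by norm_num)
      have r3 : f 6 = f 4 + f 5 := hr 3 (by norm_num)
      have r4 : f 5 = f 3 + f 4 := hr 4 (by norm_num)
      have r5 : f 4 = f 2 + f 3 := hr 5 (by norm_num)
      have r6 : f 3 = f 1 + f 2 := hr 6 (by norm_num)
      refine ⟨?_, ?_, ?_⟩
      · linear_combination (norm := abel) -r0 - r5 - h70 - h81 + h43
      · linear_combination (norm := abel) -r5 + h43
      · linear_combination (norm := abel) -r2 + r6 + h0 - h61 - h52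
    · -- k = 3
      have r0 : f 3 = f 7 + f 8 := hr 0 (by norm_num)
      have r1 : f 2 = f 6 + f 7 := hr 1 (by norm_num)
      have r2 : f 1 = f 5 + f 6 := hr 2 (by norm_num)
      have r3 : f 0 = f 4 + f 5 := hr 3 (by norm_num)
      have r4 : f 6 = f 3 + f 4 := hr 4 (by norm_num)
      have r5 : f 5 = f 2 + f 3 := hr 5 (by norm_num)
      have r6 : f 4 = f 1 + f 2 := hr 6 (by norm_num)
      refine ⟨?_, ?_, ?_⟩
      · linear_combination (norm := abel) r4 - h61 + h43 + t3
      · linear_combination (norm := abel) -r2 - h61 - h52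
      · linear_combination (norm := abel) -r5 + h52
    · -- k = 4
      have r0 : f 4 = f 7 + f 8 := hr 0 (by norm_num)
      have r1 : f 3 = f 6 + f 7 := hr 1 (by norm_num)
      have r2 : f 2 = f 5 + f 6 := hr 2 (by norm_num)
      have r3 : f 1 = f 4 + f 5 := hr 3 (by norm_num)
      have r4 : f 0 = f 3 + f 4 := hr 4 (by norm_num)
      have r5 : f 6 = f 2 + f 3 := hr 5 (by norm_num)
      have r6 : f 5 = f 1 + f 2 := hr 6 (by norm_num)
      refine ⟨?_, ?_, ?_⟩
      · linear_combination (norm := abel) -r6 + h52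
      · linear_combination (norm := abel) -r1 - r5 - h70
      · linear_combination (norm := abel) r1 - r2 + h70 - h52
    · -- k = 5
      have r0 : f 5 = f 7 + f 8 := hr 0 (by norm_num)
      have r1 : f 4 = f 6 + f 7 := hr 1 (by norm_num)
      have r2 : f 3 = f 5 + f 6 := hr 2 (by norm_num)
      have r3 : f 2 = f 4 + f 5 := hr 3 (by norm_num)
      have r4 : f 1 = f 3 + f 4 := hr 4 (by norm_num)
      have r5 : f 0 = f 2 + f 3 := hr 5 (by norm_num)
      have r6 : f 6 = f 1 + f 2 := hr 6 (by norm_num)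
      refine ⟨?_, ?_, ?_⟩
      · linear_combination (norm := abel) r4 + h43 + t3
      · linear_combination (norm := abel) -r6 + h61
      · linear_combination (norm := abel) -r3 - h52 - h43
    · -- k = 6
      have r0 : f 6 = f 7 + f 8 := hr 0 (by norm_num)
      have r1 : f 5 = f 6 + f 7 := hr 1 (by norm_num)
      have r2 : f 4 = f 5 + f 6 := hr 2 (by norm_num)
      have r3 : f 3 = f 4 + f 5 := hr 3 (by norm_num)
      have r4 : f 2 = f 3 + f 4 := hr 4 (by norm_num)
      have r5 : f 1 = f 2 + f 3 := hr 5 (by norm_num)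
      have r6 : f 0 = f 1 + f 2 := hr 6 (by norm_num)
      refine ⟨?_, ?_, ?_⟩
      · linear_combination (norm := abel) -r4 - r6 + h0 - h43 - t3
      · linear_combination (norm := abel) r4 + h43 + t3
      · linear_combination (norm := abel) -r5 + r6 - h0 + t1
  intro n hn
  obtain ⟨k1, k2, k3⟩ := key
  interval_cases n
  · exact h0
  · exact k1
  · exact k2
  · exact k3
  · rw [h43]; exact k3
  · rw [h52]; exact k2
  · rw [h61]; exact k1

/-- in a central extension the commutator only depends on the images -/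
theorem two_cm_congr {G : Type v} [Group G] {Γ : Type w} [Group Γ] (σ : Γ →* G)
    (hcent : ∀ z : Γ, σ z = 1 → ∀ x : Γ, x * z = z * x) (u u' v v' : Γ)
    (hu : σ u = σ u') (hv : σ v = σ v') : cm u v = cm u' v' := by
  have hz : ∀ x, x * (u⁻¹ * u') = (u⁻¹ * u') * x := hcent _ (by simp [hu])
  have hz' : ∀ x, x * (v⁻¹ * v') = (v⁻¹ * v') * x := hcent _ (by simp [hv])
  have e1 : u' = u * (u⁻¹ * u') := by group
  have e2 : v' = v * (v⁻¹ * v') := by group
  rw [e1, e2]
  generalize u⁻¹ * u' = z at hz
  generalize v⁻¹ * v' = z' at hz'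
  unfold cm
  symm
  calc u * z * (v * z') * (u * z)⁻¹ * (v * z')⁻¹
      = u * (z * (v * z')) * z⁻¹ * u⁻¹ * (z'⁻¹ * v⁻¹) := by group
    _ = u * ((v * z') * z) * z⁻¹ * u⁻¹ * (z'⁻¹ * v⁻¹) := by rw [hz (v * z')]
    _ = u * v * (z' * u⁻¹) * z'⁻¹ * v⁻¹ := by group
    _ = u * v * (u⁻¹ * z') * z'⁻¹ * v⁻¹ := by rw [hz' u⁻¹]
    _ = u * v * u⁻¹ * v⁻¹ := by group

/-- **RS-TWO**. -/
theorem two : StTwo.{v, w} := by
  intro G _ S y hcard hab hnorm hy7 ⟨a, haS, hya⟩ Γ _ σ hσ hcent
  -- the conjugates of `a`
  let A : ℕ → G := fun i => y ^ i * a * (y ^ i)⁻¹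
  have hAdef : ∀ i, A i = y ^ i * a * (y ^ i)⁻¹ := fun i => rfl
  have hAsucc : ∀ i, A (i + 1) = y * A i * y⁻¹ := by
    intro i; rw [hAdef, hAdef, pow_succ']; group
  have hAS : ∀ i, A i ∈ S := by
    intro i
    induction i with
    | zero => rw [hAdef]; simpa using haS
    | succ n ih => rw [hAsucc]; exact hnorm _ ih
  have hA7 : ∀ i, A (i + 7) = A i := by
    intro i; rw [hAdef, hAdef, pow_add, hy7, mul_one]
  have hAmod : ∀ i, A (i % 7) = A i := by
    intro i; rw [hAdef, hAdef, ← pow_eq_pow_mod i hy7]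
  have hAadd : ∀ i j, A (i + j) = y ^ i * A j * (y ^ i)⁻¹ := by
    intro i j; rw [hAdef, hAdef, pow_add]; group
  have ha1 : a ≠ 1 := by
    rintro rfl; exact hya (by group)
  -- injectivity on `0..6`
  have aux : ∀ i j, i < j → j < 7 → A i ≠ A j := by
    intro i j hij hj h
    obtain ⟨d, rfl⟩ : ∃ d, j = i + d := ⟨j - i, by omega⟩
    have hd : 0 < d ∧ d < 7 := by omega
    have h1 : A d = a := by
      have h2 := hAadd i d
      rw [← h, hAdef i] at h2
      exact (mul_left_cancel (mul_right_cancel h2)).symm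
    have hc : Commute (y ^ d) a := by
      have h3 : y ^ d * a * (y ^ d)⁻¹ = a := h1
      unfold Commute SemiconjBy
      calc y ^ d * a = (y ^ d * a * (y ^ d)⁻¹) * y ^ d := by group
        _ = a * y ^ d := by rw [h3]
    have hcop : Nat.Coprime d 7 := by
      apply Nat.Coprime.symm
      rw [Nat.Prime.coprime_iff_not_dvd (by norm_num)]
      intro h7
      have := Nat.le_of_dvd hd.1 h7
      omega
    obtain ⟨m, -, hm⟩ := Nat.exists_mul_mod_eq_one_of_coprime hcop (by norm_num)
    have hy : y = (y ^ d) ^ m := by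
      rw [← pow_mul, pow_eq_pow_mod (d * m) hy7, hm, pow_one]
    have hc' : Commute y a := by rw [hy]; exact hc.pow_left m
    apply hya
    calc y * a * y⁻¹ = a * y * y⁻¹ := by rw [hc'.eq]
      _ = a := by group
  have hAinj : ∀ i < 7, ∀ j < 7, A i = A j → i = j := by
    intro i hi j hj h
    by_contra hne
    rcases Nat.lt_or_gt_of_ne hne with h' | h'
    · exact aux i j h' hj h
    · exact aux j i h' hi h.symm
  have hAne : ∀ i, A i ≠ 1 := by
    intro i h
    apply ha1
    have h1 : y ^ i * a * (y ^ i)⁻¹ = 1 := h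
    have h2 : a = (y ^ i)⁻¹ * (y ^ i * a * (y ^ i)⁻¹) * y ^ i := by group
    rw [h2, h1]; group
  -- the orbit: every element of `S` is `1` or some `A i`
  have hfin : Finite S := Nat.finite_of_card_ne_zero (by rw [hcard]; norm_num)
  have horb : ∀ s ∈ S, s = 1 ∨ ∃ i < 7, s = A i := by
    let g : Option (Fin 7) → S := fun o => match o with
      | none => 1
      | some i => ⟨A i, hAS i⟩
    have hg : Function.Injective g := by
      intro o o' h
      match o, o', h with
      | none, none, _ => rfl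
      | none, some i, h => exact absurd (congrArg Subtype.val h).symm (hAne i)
      | some i, none, h => exact absurd (congrArg Subtype.val h) (hAne i)
      | some i, some j, h =>
        exact congrArg some (Fin.ext (hAinj i i.2 j j.2 (congrArg Subtype.val h)))
    have hbij : Function.Bijective g := hg.bijective_of_nat_card_le (by rw [hcard]; simp)
    intro s hs
    obtain ⟨o, ho⟩ := hbij.2 ⟨s, hs⟩
    match o, ho with
    | none, ho => left; exact (congrArg Subtype.val ho).symm
    | some i, ho => right; exact ⟨i, i.2, (congrArg Subtype.val ho).symm⟩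
  -- `S` has exponent 2
  have ha2 : a * a = 1 := by
    by_contra hne
    rcases horb (a * a) (S.mul_mem haS haS) with h | ⟨i, _, h⟩
    · exact hne h
    · have ho : orderOf (a * a) = orderOf a := by
        rw [h]
        exact (MulAut.conj (y ^ i)).orderOf_eq a
      have hdvd : orderOf a ∣ 8 := by rw [← hcard]; exact Subgroup.orderOf_dvd_natCard S haS
      have hpos : 0 < orderOf a :=
        Nat.pos_of_ne_zero (fun h0 => by rw [h0] at hdvd; simp at hdvd)
      have h1 : orderOf a ≠ 1 := by rw [Ne, orderOf_eq_one_iff]; exact ha1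
      rw [← pow_two, orderOf_pow' a (by norm_num : 2 ≠ 0)] at ho
      have h2 : 2 ∣ orderOf a := by
        have h8 : (8 : ℕ) = 2 ^ 3 := by norm_num
        rw [h8] at hdvd
        obtain ⟨e, -, he⟩ := (Nat.dvd_prime_pow Nat.prime_two).mp hdvd
        rw [he]
        have he0 : e ≠ 0 := by
          rintro rfl
          exact h1 (by rw [he, pow_zero])
        exact dvd_pow_self 2 he0
      have h3 : (orderOf a).gcd 2 = 2 := Nat.gcd_eq_right h2
      rw [h3] at ho
      omega
  have hsq : ∀ s ∈ S, s * s = 1 := by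
    intro s hs
    rcases horb s hs with rfl | ⟨i, _, rfl⟩
    · simp
    · rw [hAdef]
      calc y ^ i * a * (y ^ i)⁻¹ * (y ^ i * a * (y ^ i)⁻¹)
          = y ^ i * (a * a) * (y ^ i)⁻¹ := by group
        _ = 1 := by rw [ha2]; group
  -- the relation `A 0 * A 1 = A k`
  have hk : ∃ k, 2 ≤ k ∧ k ≤ 6 ∧ A 0 * A 1 = A k := by
    rcases horb (A 0 * A 1) (S.mul_mem (hAS 0) (hAS 1)) with h | ⟨k, hk7, h⟩
    · exfalso
      have h0 := hsq (A 0) (hAS 0)
      have h1 : A 1 = A 0 := mul_left_cancel (h.trans h0.symm)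
      exact absurd (hAinj 1 (by norm_num) 0 (by norm_num) h1) (by norm_num)
    · refine ⟨k, ?_, by omega, h⟩
      by_contra hlt
      have h01 : k = 0 ∨ k = 1 := by omega
      rcases h01 with rfl | rfl
      · exact hAne 1 (mul_left_cancel (h.trans (mul_one _).symm))
      · exact hAne 0 (mul_right_cancel (h.trans (one_mul _).symm))
  obtain ⟨k, hk2, hk6, hkA⟩ := hk
  -- lifts
  let lift : G → Γ := Function.surjInv hσ
  have hlift : ∀ g, σ (lift g) = g := Function.surjInv_eq hσ
  have hcong := two_cm_congr σ hcent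
  -- commutators of elements over `S` are central
  have hcen : ∀ u v : Γ, σ u ∈ S → σ v ∈ S → ∀ x : Γ, x * cm u v = cm u v * x := by
    intro u v hu hv
    apply hcent
    rw [cm_map]
    exact cm_eq_one_iff.mpr (hab _ hu _ hv)
  have hbl : ∀ u u' v : Γ, σ u ∈ S → σ u' ∈ S → σ v ∈ S →
      cm (u * u') v = cm u v * cm u' v := by
    intro u u' v hu hu' hv
    rw [cm_mul_left]
    have h1 := hcen u' v hu' hv u
    have h2 := hcen u' v hu' hv (cm u v)
    calc u * cm u' v * u⁻¹ * cm u v = cm u' v * u * u⁻¹ * cm u v := by rw [h1]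
      _ = cm u' v * cm u v := by group
      _ = cm u v * cm u' v := h2.symm
  have hbr : ∀ u v v' : Γ, σ u ∈ S → σ v ∈ S → σ v' ∈ S →
      cm u (v * v') = cm u v * cm u v' := by
    intro u v v' hu hv hv'
    rw [cm_mul_right]
    have h1 := hcen u v' hu hv' v
    rw [h1]; group
  -- the pairing on the orbit
  let E : ℕ → ℕ → Γ := fun i j => cm (lift (A i)) (lift (A j))
  have hEdef : ∀ i j, E i j = cm (lift (A i)) (lift (A j)) := fun i j => rfl
  have hlS : ∀ i, σ (lift (A i)) ∈ S := fun i => by rw [hlift]; exact hAS i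
  have hEc : ∀ i j, ∀ x : Γ, x * E i j = E i j * x := fun i j => hcen _ _ (hlS i) (hlS j)
  have hEshift1 : ∀ i j, E (i + 1) (j + 1) = E i j := by
    intro i j
    have h1 : E (i + 1) (j + 1) =
        cm (lift y * lift (A i) * (lift y)⁻¹) (lift y * lift (A j) * (lift y)⁻¹) := by
      apply hcong
      · rw [hlift, hAsucc, map_mul, map_mul, map_inv, hlift, hlift]
      · rw [hlift, hAsucc, map_mul, map_mul, map_inv, hlift, hlift]
    rw [h1, ← cm_conj, hEc i j (lift y)]
    group
  have hEshift : ∀ m i j, E (i + m) (j + m) = E i j := by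
    intro m
    induction m with
    | zero => intro i j; rfl
    | succ m ih => intro i j; rw [← add_assoc, ← add_assoc, hEshift1, ih]
  have hEself : ∀ i, E i i = 1 := fun i => cm_eq_one_iff.mpr rfl
  have hEsymm : ∀ i j, E j i = (E i j)⁻¹ := fun i j => (cm_inv _ _).symm
  have hEsq : ∀ i j, E i j * E i j = 1 := by
    intro i j
    rw [hEdef, ← hbl _ _ _ (hlS i) (hlS i) (hlS j)]
    have h1 : cm (lift (A i) * lift (A i)) (lift (A j)) = cm 1 (lift (A j)) := by
      apply hcong
      · rw [map_mul, hlift, hsq _ (hAS i), map_one]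
      · rfl
    rw [h1]
    exact cm_eq_one_iff.mpr (by rw [one_mul, mul_one])
  have hEinv : ∀ i j, (E i j)⁻¹ = E i j := fun i j => inv_eq_of_mul_eq_one_left (hEsq i j)
  have hErel : ∀ j, E j k = E j 0 * E j 1 := by
    intro j
    have h1 : E j k = cm (lift (A j)) (lift (A 0) * lift (A 1)) := by
      apply hcong
      · rfl
      · rw [map_mul, hlift, hlift, hlift, hkA]
    rw [h1, hbr _ _ _ (hlS j) (hlS 0) (hlS 1)]
  have hE7l : ∀ i j, E (i + 7) j = E i j := fun i j => by rw [hEdef, hEdef, hA7]
  have hE7r : ∀ i j, E i (j + 7) = E i j := fun i j => by rw [hEdef, hEdef, hA7]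
  have hEmod : ∀ i j, E i (j % 7) = E i j := fun i j => by rw [hEdef, hEdef, hAmod]
  -- the linear system
  let _ : CommGroup (Subgroup.center Γ) :=
    { (inferInstance : Group (Subgroup.center Γ)) with
      mul_comm := fun g g' => mul_comm' g g' }
  let f : ℕ → Additive (Subgroup.center Γ) := fun n =>
    Additive.ofMul ⟨E 0 n, Subgroup.mem_center_iff.mpr (hEc 0 n)⟩
  have hf : ∀ n, f n = Additive.ofMul ⟨E 0 n, Subgroup.mem_center_iff.mpr (hEc 0 n)⟩ :=
    fun n => rfl
  have hfeq : ∀ m n, E 0 m = E 0 n → f m = f n := by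
    intro m n h
    rw [hf, hf]
    exact congrArg Additive.ofMul (Subtype.ext h)
  have hfzero : ∀ n, f n = 0 ↔ E 0 n = 1 := by
    intro n
    rw [hf]
    constructor
    · intro h
      have h1 : (⟨E 0 n, Subgroup.mem_center_iff.mpr (hEc 0 n)⟩ : Subgroup.center Γ) = 1 := h
      exact congrArg Subtype.val h1
    · intro h
      have h1 : (⟨E 0 n, Subgroup.mem_center_iff.mpr (hEc 0 n)⟩ : Subgroup.center Γ) = 1 :=
        Subtype.ext h
      rw [h1]; rfl
  have hfadd : ∀ l m n, E 0 l = E 0 m * E 0 n → f l = f m + f n := by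
    intro l m n h
    rw [hf, hf, hf, ← ofMul_mul]
    exact congrArg Additive.ofMul (Subtype.ext h)
  have hlin := two_lin f k hk2 hk6 ((hfzero 0).mpr (hEself 0))
    (fun n => hfeq _ _ (hE7r 0 n))
    (fun n => by
      rw [two_nsmul]
      have h1 := hfadd 0 n n (by rw [hEself, hEsq])
      rw [← h1]
      exact (hfzero 0).mpr (hEself 0))
    (fun n hn => by
      apply hfeq
      have h1 : E 0 (7 - n) = E n 7 := by
        have := hEshift n 0 (7 - n)
        rw [zero_add, Nat.sub_add_cancel hn] at this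
        exact this.symm
      have h2 : E n 7 = E n 0 := hE7r n 0
      rw [h1, h2, hEsymm 0 n, hEinv])
    (fun j hj => by
      apply hfadd
      have h1 : E 0 ((k + 7 - j) % 7) = E j k := by
        rw [hEmod]
        have := hEshift j 0 (k + 7 - j)
        rw [zero_add, Nat.sub_add_cancel (by omega)] at this
        rw [← this, hE7r]
      have h2 : E 0 (7 - j) = E j 0 := by
        have := hEshift j 0 (7 - j)
        rw [zero_add, Nat.sub_add_cancel (by omega)] at this
        rw [← this]; exact hE7r j 0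
      have h3 : E 0 (8 - j) = E j 1 := by
        have := hEshift j 0 (8 - j)
        rw [zero_add, Nat.sub_add_cancel (by omega)] at this
        rw [← this]; exact hE7r j 1
      rw [h1, h2, h3, hErel])
  have hE0 : ∀ n < 7, E 0 n = 1 := fun n hn => (hfzero n).mp (hlin n hn)
  have hEall : ∀ i < 7, ∀ j < 7, E i j = 1 := by
    have aux2 : ∀ i j, i ≤ j → j < 7 → E i j = 1 := by
      intro i j hij hj
      have := hEshift i 0 (j - i)
      rw [zero_add, Nat.sub_add_cancel hij] at this
      rw [this]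
      exact hE0 _ (by omega)
    intro i hi j hj
    rcases Nat.le_total i j with h | h
    · exact aux2 i j h hj
    · rw [hEsymm j i, aux2 j i h hi, inv_one]
  -- conclusion
  intro u v hu hv
  rcases horb _ hu with h | ⟨i, hi, h⟩
  · exact (hcent u h v).symm
  · rcases horb _ hv with h' | ⟨j, hj, h'⟩
    · exact hcent v h' u
    · apply cm_eq_one_iff.mp
      have h1 : cm u v = E i j := by
        apply hcong
        · rw [hlift, h]
        · rw [hlift, h']
      rw [h1]; exact hEall i hi j hj

example : Cfsg.Agent.H51.Rs.StTwo.{v, w} := two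

end Cfsg.Agent.H71.Rs
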