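import Mathlib
import Cfsg.Agent.H21.Transfer

/-!
# Piece S3641-ACT (helper71, for helper21)

If `G` has exactly `p + 1` Sylow `p`-subgroups, the image of `G` in `Sym(Syl_p(G))` has order
`(p + 1) p d` with `d ∣ p - 1`.

`N = N_G(P)` has index `p + 1`; for `Q ≠ P` the stabilizer `N ∩ N_G(Q)` has index `p` in `N`
(the `p`-group `P` is transitive on the other `p` Sylow subgroups); its image `S̄` in the
symmetric group normalizes the image `P̄` of `P` (of order `p`) and meets the centralizer of `P̄`
trivially, so `|S̄|` divides `|N(P̄) : C(P̄)|`, which divides `|Aut(C_p)| = p - 1`.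
-/

set_option autoImplicit false

namespace Cfsg.Agent.H71.SN

open Subgroup

theorem relIndex_stabilizer_eq_ncard_orbit {G : Type*} [Group G] {X : Type*} [MulAction G X]
    (D : Subgroup G) (x : X) :
    (MulAction.stabilizer G x).relIndex D = (MulAction.orbit D x).ncard := by
  rw [← MulAction.index_stabilizer]
  rfl

theorem relIndex_stabilizer_le {G : Type*} [Group G] {X : Type*} [MulAction G X] [Finite X]
    (D : Subgroup G) (x : X) (T : Set X) (hT : ∀ g ∈ D, g • x ∈ T) :
    (MulAction.stabilizer G x).relIndex D ≤ T.ncard := by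
  rw [relIndex_stabilizer_eq_ncard_orbit]
  refine Set.ncard_le_ncard ?_ (Set.toFinite T)
  rintro _ ⟨g, rfl⟩
  exact hT (g : G) g.2

theorem sylow_action_card {G : Type*} [Group G] [Finite G] (p : ℕ) [Fact p.Prime]
    (hn : Nat.card (Sylow p G) = p + 1) :
    ∃ d : ℕ, d ∣ p - 1 ∧
      Nat.card (MulAction.toPermHom G (Sylow p G)).range = (p + 1) * p * d := by
  classical
  have hp : p.Prime := Fact.out
  have hp2 : 2 ≤ p := hp.two_le
  obtain ⟨P⟩ : Nonempty (Sylow p G) := inferInstance
  obtain ⟨Q, hQP⟩ : ∃ Q : Sylow p G, Q ≠ P := by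
    by_contra hcon
    push Not at hcon
    have h1 : Nat.card (Sylow p G) ≤ 1 :=
      Finite.card_le_one_iff_subsingleton.mpr ⟨fun a b => by rw [hcon a, hcon b]⟩
    omega
  obtain ⟨φ, hφ⟩ : ∃ φ : G →* Equiv.Perm (Sylow p G), φ = MulAction.toPermHom G (Sylow p G) :=
    ⟨_, rfl⟩
  have hφa : ∀ (g : G) (R : Sylow p G), φ g R = g • R := by
    intro g R
    rw [hφ]
    rfl
  have hKmem : ∀ g : G, g ∈ φ.ker ↔ ∀ R : Sylow p G, g • R = R := by
    intro g
    rw [MonoidHom.mem_ker]
    constructor
    · intro h R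
      rw [← hφa, h]
      rfl
    · intro h
      ext R
      rw [hφa, h]
      rfl
  obtain ⟨N, hN⟩ : ∃ N : Subgroup G, N = MulAction.stabilizer G P := ⟨_, rfl⟩
  obtain ⟨S, hS⟩ : ∃ S : Subgroup G, S = MulAction.stabilizer G Q := ⟨_, rfl⟩
  have hNmem : ∀ g : G, g ∈ N ↔ g • P = P := fun g => by rw [hN]; rfl
  have hSmem : ∀ g : G, g ∈ S ↔ g • Q = Q := fun g => by rw [hS]; rfl
  have hNnorm : N = normalizer ((P : Subgroup G) : Set G) := by
    rw [hN]
    exact Sylow.stabilizer_eq_normalizer P
  have hSnorm : S = normalizer ((Q : Subgroup G) : Set G) := by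
    rw [hS]
    exact Sylow.stabilizer_eq_normalizer Q
  have hNidx : N.index = p + 1 := by
    rw [hN, MulAction.index_stabilizer_of_transitive, hn]
  have hKN : φ.ker ≤ N := fun g hg => (hNmem g).mpr ((hKmem g).mp hg P)
  have hKS : φ.ker ≤ S := fun g hg => (hSmem g).mpr ((hKmem g).mp hg Q)
  have hPN : (P : Subgroup G) ≤ N := by
    rw [hNnorm]
    exact le_normalizer
  have hPS : ¬ (P : Subgroup G) ≤ S := by
    intro h
    rw [hSnorm] at h
    have h1 : (P : Subgroup G) ⊓ normalizer ((Q : Subgroup G) : Set G) =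
        (P : Subgroup G) ⊓ (Q : Subgroup G) := P.isPGroup'.inf_normalizer_sylow Q
    have h2 : (P : Subgroup G) ≤ (Q : Subgroup G) := by
      have h4 : (P : Subgroup G) ⊓ (Q : Subgroup G) = (P : Subgroup G) :=
        h1.symm.trans (inf_eq_left.mpr h)
      exact inf_eq_left.mp h4
    exact hQP (Sylow.ext (P.3 Q.isPGroup' h2))
  -- the complement counts
  have hc1 : ({P}ᶜ : Set (Sylow p G)).ncard = p := by
    have h1 := Set.ncard_add_ncard_compl ({P} : Set (Sylow p G))
    rw [Set.ncard_singleton, hn] at h1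
    omega
  have hc2 : ({P, Q}ᶜ : Set (Sylow p G)).ncard = p - 1 := by
    have h1 := Set.ncard_add_ncard_compl ({P, Q} : Set (Sylow p G))
    rw [Set.ncard_pair (Ne.symm hQP), hn] at h1
    omega
  -- `p`-power indices in `P`
  obtain ⟨k, hk⟩ := IsPGroup.iff_card.mp P.isPGroup'
  have hpow : ∀ (A D : Subgroup G), D ≤ (P : Subgroup G) → ∃ j : ℕ, A.relIndex D = p ^ j := by
    intro A D hD
    have h1 : A.relIndex D ∣ Nat.card D := relIndex_dvd_card A D
    have h2 : Nat.card D ∣ p ^ k := by
      rw [← hk]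
      exact Subgroup.card_dvd_of_le hD
    obtain ⟨j, -, hj⟩ := (Nat.dvd_prime_pow hp).mp (h1.trans h2)
    exact ⟨j, hj⟩
  -- the orbit of `Q` under `N` and under `P`
  have hSN : S.relIndex N ≤ p := by
    have h0 := relIndex_stabilizer_le N Q ({P}ᶜ : Set (Sylow p G)) (fun g hg => by
      intro h
      have h1 : g • Q = g • P := by rw [(hNmem g).mp hg]; exact h
      exact hQP (smul_left_cancel g h1))
    rw [hc1] at h0
    rw [hS]
    exact h0
  obtain ⟨j, hj⟩ := hpow S (P : Subgroup G) le_rfl
  have hj0 : j ≠ 0 := by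
    intro h0
    rw [h0, pow_zero, relIndex_eq_one] at hj
    exact hPS hj
  have hSN0 : S.relIndex N ≠ 0 := by
    have : Finite (↥N ⧸ S.subgroupOf N) := inferInstance
    exact index_ne_zero_of_finite
  have hle : S.relIndex (P : Subgroup G) ≤ S.relIndex N := relIndex_le_of_le_right hPN hSN0
  have hpj : p ≤ p ^ j := Nat.le_self_pow hj0 p
  have hSNp : S.relIndex N = p := by omega
  have hSPp : S.relIndex (P : Subgroup G) = p := by omega
  -- `S ⊓ P` acts trivially
  have hDK : S ⊓ (P : Subgroup G) ≤ φ.ker := by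
    intro x hx
    rw [hKmem]
    intro R
    by_cases hRP : R = P
    · rw [hRP]
      exact (hNmem x).mp (hPN (mem_inf.mp hx).2)
    by_cases hRQ : R = Q
    · rw [hRQ]
      exact (hSmem x).mp (mem_inf.mp hx).1
    have h1 : (MulAction.stabilizer G R).relIndex (S ⊓ (P : Subgroup G)) ≤ p - 1 := by
      have h0 := relIndex_stabilizer_le (S ⊓ (P : Subgroup G)) R
        ({P, Q}ᶜ : Set (Sylow p G)) (fun g hg => by
          intro h
          rcases h with h | h
          · have h2 : g • R = g • P := by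
              rw [(hNmem g).mp (hPN (mem_inf.mp hg).2)]
              exact h
            exact hRP (smul_left_cancel g h2)
          · have h2 : g • R = g • Q := by
              rw [(hSmem g).mp (mem_inf.mp hg).1]
              exact h
            exact hRQ (smul_left_cancel g h2))
      rw [hc2] at h0
      exact h0
    obtain ⟨i, hi⟩ := hpow (MulAction.stabilizer G R) (S ⊓ (P : Subgroup G)) inf_le_right
    have hi0 : i = 0 := by
      by_contra hne
      have : p ≤ p ^ i := Nat.le_self_pow hne p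
      omega
    rw [hi0, pow_zero, relIndex_eq_one] at hi
    exact hi hx
  have hKP : φ.ker.relIndex (P : Subgroup G) = p := by
    have h1 : φ.ker ⊓ (P : Subgroup G) = S ⊓ (P : Subgroup G) :=
      le_antisymm (inf_le_inf_right _ hKS) (le_inf hDK inf_le_right)
    rw [← inf_relIndex_right, h1, inf_relIndex_right, hSPp]
  -- transitivity of `P` on the other Sylow subgroups
  have horb : MulAction.orbit (P : Subgroup G) Q = ({P}ᶜ : Set (Sylow p G)) := by
    refine Set.eq_of_subset_of_ncard_le ?_ ?_ (Set.toFinite _)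
    · rintro _ ⟨g, rfl⟩
      intro h
      have h1 : (g : G) • Q = (g : G) • P := by
        rw [(hNmem (g : G)).mp (hPN g.2)]
        exact h
      exact hQP (smul_left_cancel (g : G) h1)
    · rw [hc1, ← relIndex_stabilizer_eq_ncard_orbit, ← hS, hSPp]
  -- the images in the symmetric group
  have hPbar : Nat.card ((P : Subgroup G).map φ) = p := by
    rw [← relIndex_ker, hKP]
  have hSbarN : (N ⊓ S).map φ ≤ normalizer ((P : Subgroup G).map φ : Set (Equiv.Perm (Sylow p G))) := by
    refine le_trans (map_mono ?_) (le_normalizer_map φ)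
    rw [← hNnorm]
    exact inf_le_left
  have hSbarC : centralizer ((P : Subgroup G).map φ : Set (Equiv.Perm (Sylow p G))) ⊓ (N ⊓ S).map φ =
      ⊥ := by
    rw [eq_bot_iff]
    intro σ hσ
    obtain ⟨hσC, hσS⟩ := mem_inf.mp hσ
    obtain ⟨n, hnNS, rfl⟩ := mem_map.mp hσS
    rw [mem_bot]
    have hnP : n • P = P := (hNmem n).mp (mem_inf.mp hnNS).1
    have hnQ : n • Q = Q := (hSmem n).mp (mem_inf.mp hnNS).2
    refine Equiv.ext fun R => ?_
    rw [hφa, Equiv.Perm.one_apply]
    by_cases hRP : R = P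
    · rw [hRP, hnP]
    · have hR : R ∈ MulAction.orbit (P : Subgroup G) Q := by
        rw [horb]
        exact hRP
      obtain ⟨x, rfl⟩ := hR
      have hcomm := mem_centralizer_iff.mp hσC (φ (x : G)) (mem_map_of_mem φ x.2)
      have h1 := congrArg (fun τ : Equiv.Perm (Sylow p G) => τ Q) hcomm
      simp only [Equiv.Perm.coe_mul, Function.comp_apply, hφa] at h1
      rw [hnQ] at h1
      exact h1.symm
  have hcyc : _root_.IsCyclic ↥((P : Subgroup G).map φ) := isCyclic_of_prime_card hPbar
  have hNC : (centralizer ((P : Subgroup G).map φ : Set (Equiv.Perm (Sylow p G)))).relIndex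
      (normalizer ((P : Subgroup G).map φ : Set (Equiv.Perm (Sylow p G)))) ∣ p - 1 := by
    have h1 := Cfsg.Agent.H21.relIndex_centralizer_normalizer_dvd_card_mulAut
      ((P : Subgroup G).map φ)
    rw [IsCyclic.card_mulAut, hPbar, Nat.totient_prime hp] at h1
    exact h1
  have hd : Nat.card ((N ⊓ S).map φ) ∣ p - 1 := by
    refine Dvd.dvd.trans ?_ hNC
    have h1 : (centralizer ((P : Subgroup G).map φ : Set (Equiv.Perm (Sylow p G)))).relIndex
        ((N ⊓ S).map φ) = Nat.card ((N ⊓ S).map φ) := by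
      rw [← inf_relIndex_right, hSbarC, relIndex_bot_left]
    rw [← h1, ← relIndex_subgroupOf hSbarN]
    exact relIndex_dvd_index_of_normal _ _
  refine ⟨Nat.card ((N ⊓ S).map φ), hd, ?_⟩
  have h1 : φ.ker.relIndex (N ⊓ S) * (N ⊓ S).relIndex N = φ.ker.relIndex N :=
    relIndex_mul_relIndex _ _ _ (le_inf hKN hKS) inf_le_left
  rw [← hφ, ← index_ker, ← relIndex_mul_index hKN, hNidx, ← h1, inf_relIndex_left, hSNp,
    relIndex_ker]
  ring

end Cfsg.Agent.H71.SN

example {G : Type*} [Group G] [Finite G] (p : ℕ) [Fact p.Prime]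
    (hn : Nat.card (Sylow p G) = p + 1) :
    ∃ d : ℕ, d ∣ p - 1 ∧
      Nat.card (MulAction.toPermHom G (Sylow p G)).range = (p + 1) * p * d :=
  Cfsg.Agent.H71.SN.sylow_action_card p hn
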