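import Mathlib
import Cfsg.Agent.H52.SoDefs
import Cfsg.Agent.H14.Thompson
import Cfsg.Agent.H51.Amalgam

/-! S2943 team project (helper52), piece SO-CONJ: the conjugate of a `J(T)`-component by an
element of `T` is a `J(T)`-component, and `W` commutes with the conjugation. -/

set_option autoImplicit false
open Cfsg

namespace Cfsg.Agent.H71.Sn

open Cfsg.Agent.H52.Sn

universe u

/-- conjugation by an element of `T` maps `T` onto itself -/
theorem map_conj_self {G : Type u} [Group G] (T : Subgroup G) {t : G} (ht : t ∈ T) :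
    T.map (MulAut.conj t).toMonoidHom = T := by
  ext x
  constructor
  · rintro ⟨y, hy, rfl⟩
    exact T.mul_mem (T.mul_mem ht hy) (T.inv_mem ht)
  · intro hx
    refine ⟨t⁻¹ * x * t, T.mul_mem (T.mul_mem (T.inv_mem ht) hx) ht, ?_⟩
    simp [mul_assoc]

/-- `W` commutes with conjugation -/
theorem wOf_map_conj {G : Type u} [Group G] (K : Subgroup G) (t : G) :
    wOf (K.map (MulAut.conj t).toMonoidHom) = (wOf K).map (MulAut.conj t).toMonoidHom := by
  unfold wOf omegaCenterOf
  rw [Subgroup.map_commutator, Cfsg.Agent.H14.omegaOne_center_conj,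
    ← Cfsg.Agent.H51.pCoreOf_map 2 K (MulAut.conj t)]

theorem conj : StConj.{u} := by
  intro G _ _ T K t ht hK
  obtain ⟨hgen, hcomm, hidx, hsyl, hcard, hexp⟩ := hK
  set φ : G →* G := (MulAut.conj t).toMonoidHom with hφ
  have hφinj : Function.Injective φ := (MulAut.conj t).injective
  have hφsurj : Function.Surjective φ := (MulAut.conj t).surjective
  have hJmap : (thompsonSubgroupOf 2 T).map φ = thompsonSubgroupOf 2 T := by
    rw [hφ, Cfsg.Agent.H14.thompsonSubgroupOf_conj, map_conj_self T ht]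
  have hw := wOf_map_conj K t
  refine ⟨⟨?_, ?_, ?_, ?_, ?_, ?_⟩, hw⟩
  · -- generation by odd-order elements
    conv_rhs => rw [← hgen]
    rw [MonoidHom.map_closure]
    congr 1
    ext g
    constructor
    · rintro ⟨⟨x, hx, rfl⟩, ho⟩
      refine ⟨x, ⟨hx, ?_⟩, rfl⟩
      have h1 : orderOf (φ x) = orderOf x := orderOf_injective φ hφinj x
      rwa [h1] at ho
    · rintro ⟨x, ⟨hx, ho⟩, rfl⟩
      refine ⟨⟨x, hx, rfl⟩, ?_⟩
      have h1 : orderOf (φ x) = orderOf x := orderOf_injective φ hφinj x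
      rwa [h1]
  · -- `[K', J] = K'`
    conv_lhs => rw [← hJmap]
    rw [← Subgroup.map_commutator, hcomm]
  · -- index of `O₂(K')`
    rw [Cfsg.Agent.H51.pCoreOf_map 2 K (MulAut.conj t),
      Subgroup.relIndex_map_map_of_injective _ _ (MulAut.conj t).injective]
    exact hidx
  · -- Sylow 2-subgroups of `⟨K', J⟩`
    intro S hS hJS
    obtain ⟨hS1, hS2, hS3⟩ := hS
    have hsup : K.map φ ⊔ thompsonSubgroupOf 2 T = (K ⊔ thompsonSubgroupOf 2 T).map φ := by
      rw [Subgroup.map_sup, hJmap]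
    rw [hsup] at hS1 hS3
    have hSmap : (S.comap φ).map φ = S := Subgroup.map_comap_eq_self_of_surjective hφsurj S
    have h1 : S.comap φ ≤ K ⊔ thompsonSubgroupOf 2 T := by
      have := Subgroup.comap_mono (f := φ) hS1
      rwa [Subgroup.comap_map_eq_self_of_injective hφinj] at this
    have h2 : IsPGroup 2 ↥(S.comap φ) := hS2.comap_of_injective φ hφinj
    have h3 : Odd ((S.comap φ).relIndex (K ⊔ thompsonSubgroupOf 2 T)) := by
      rw [← Subgroup.relIndex_map_map_of_injective (S.comap φ) (K ⊔ thompsonSubgroupOf 2 T) hφinj,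
        hSmap]
      exact hS3
    have h4 : thompsonSubgroupOf 2 T ≤ S.comap φ := by
      rw [← Subgroup.map_le_iff_le_comap, hJmap]
      exact hJS
    have h5 := hsyl (S.comap φ) ⟨h1, h2, h3⟩ h4
    have h6 : thompsonSubgroupOf 2 S = (thompsonSubgroupOf 2 (S.comap φ)).map φ := by
      rw [hφ, Cfsg.Agent.H14.thompsonSubgroupOf_conj, ← hφ, hSmap]
    rw [h6, h5, hJmap]
  · rw [hw, Subgroup.card_map_of_injective hφinj]
    exact hcard
  · intro w hw'
    rw [hw] at hw'
    obtain ⟨x, hx, rfl⟩ := hw'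
    rw [← map_mul, hexp x hx, map_one]

example : Cfsg.Agent.H52.Sn.StConj.{u} := conj

end Cfsg.Agent.H71.Sn
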