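import Mathlib
import Cfsg.Agent.H52.SoDefs

/-! S2943 team project (helper52), piece SO-NC: a `J(T)`-component `K ≤ L` does not centralize
`V` (in the abstract `Facts` form: `¬ K ≤ C`). -/

set_option autoImplicit false
open Cfsg

namespace Cfsg.Agent.H71.Sn

open Cfsg.Agent.H52.Sn

universe u

theorem nc : StNC.{u} := by
  intro X _ _ T C Q M J K O F hKC
  have hCn : C.Normal := F.hC
  -- `[C, J] ≤ T ⊓ C ≤ Q`
  have h1 : ⁅C, J⁆ ≤ T ⊓ C := by
    rw [Subgroup.commutator_le]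
    intro c hc a ha
    have haT : a ∈ T := F.hJT ha
    have hcN := F.hCT hc
    rw [commutatorElement_def]
    refine Subgroup.mem_inf.mpr ⟨?_, ?_⟩
    · exact T.mul_mem ((Subgroup.mem_normalizer_iff.mp hcN a).mp haT) (T.inv_mem haT)
    · have h2 : a * c⁻¹ * a⁻¹ ∈ C := hCn.conj_mem c⁻¹ (C.inv_mem hc) a
      have h3 : c * a * c⁻¹ * a⁻¹ = c * (a * c⁻¹ * a⁻¹) := by group
      rw [h3]
      exact C.mul_mem hc h2
  have hKQ : K ≤ Q := by
    calc K = ⁅K, J⁆ := F.hKJ.symm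
      _ ≤ ⁅C, J⁆ := Subgroup.commutator_mono hKC le_rfl
      _ ≤ T ⊓ C := h1
      _ ≤ Q := F.hTC
  -- odd-order elements of the 2-group `Q` are trivial
  have hodd : ∀ g : X, g ∈ K → Odd (orderOf g) → g = 1 := by
    intro g hg ho
    obtain ⟨k, hk⟩ := F.hQ2 ⟨g, hKQ hg⟩
    have hk' : g ^ 2 ^ k = 1 := by
      have := congrArg Subtype.val hk
      simpa using this
    have hdvd : orderOf g ∣ 2 ^ k := orderOf_dvd_of_pow_eq_one hk'
    have hcop : Nat.Coprime (orderOf g) (2 ^ k) :=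
      Nat.Coprime.pow_right k (Nat.Coprime.symm (Nat.coprime_two_left.mpr ho))
    have h1' : orderOf g = 1 := Nat.Coprime.eq_one_of_dvd hcop hdvd
    exact orderOf_eq_one_iff.mp h1'
  have hKbot : K = ⊥ := by
    rw [eq_bot_iff, ← F.hKgen, Subgroup.closure_le]
    rintro g ⟨hg, ho⟩
    exact Subgroup.mem_bot.mpr (hodd g hg ho)
  have h3 := F.hO3
  rw [hKbot, Subgroup.relIndex_bot_right] at h3
  exact absurd h3 (by norm_num)

example : Cfsg.Agent.H52.Sn.StNC.{u} := nc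

end Cfsg.Agent.H71.Sn
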