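import Mathlib
import Cfsg.Agent.H97.SpRDefs

/-!
# Piece S2281-LIFT (helper71, for helper97): the elements `g` of `SL_k` with some `d(g) U(S)` in
`H` form a subgroup
-/

set_option autoImplicit false

namespace Cfsg.Agent.H71.SpR

open Matrix Cfsg.Agent.H97.SpR

variable {F : Type*} [Field F]

theorem sl_coe_mul_inv {k : ℕ} (g : Matrix.SpecialLinearGroup (Fin k) F) :
    (g : Matrix (Fin k) (Fin k) F) * ((g⁻¹ : Matrix.SpecialLinearGroup (Fin k) F) :
      Matrix (Fin k) (Fin k) F) = 1 := by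
  rw [← Matrix.SpecialLinearGroup.coe_mul, mul_inv_cancel, Matrix.SpecialLinearGroup.coe_one]

theorem sl_coe_inv_mul {k : ℕ} (g : Matrix.SpecialLinearGroup (Fin k) F) :
    ((g⁻¹ : Matrix.SpecialLinearGroup (Fin k) F) : Matrix (Fin k) (Fin k) F) *
      (g : Matrix (Fin k) (Fin k) F) = 1 := by
  rw [← Matrix.SpecialLinearGroup.coe_mul, inv_mul_cancel, Matrix.SpecialLinearGroup.coe_one]

theorem dU_one_zero {k : ℕ} :
    dU (1 : Matrix.SpecialLinearGroup (Fin k) F) (0 : Matrix (Fin k) (Fin k) F) = 1 := by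
  unfold dU
  rw [inv_one, Matrix.SpecialLinearGroup.coe_one, Matrix.mul_zero, Matrix.transpose_one,
    Matrix.fromBlocks_one]

theorem dU_mul_dU {k : ℕ} (g g' : Matrix.SpecialLinearGroup (Fin k) F)
    (S S' : Matrix (Fin k) (Fin k) F) :
    dU g S * dU g' S' = dU (g * g')
      (((g'⁻¹ : Matrix.SpecialLinearGroup (Fin k) F) : Matrix (Fin k) (Fin k) F) * S *
        ((g'⁻¹ : Matrix.SpecialLinearGroup (Fin k) F) : Matrix (Fin k) (Fin k) F)ᵀ + S') := by
  unfold dU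
  rw [Matrix.fromBlocks_multiply]
  have h := sl_coe_mul_inv g'
  congr 1
  · rw [Matrix.mul_zero, add_zero, Matrix.SpecialLinearGroup.coe_mul]
  · rw [Matrix.SpecialLinearGroup.coe_mul]
    generalize (g : Matrix (Fin k) (Fin k) F) = A
    generalize (g' : Matrix (Fin k) (Fin k) F) = B at h ⊢
    generalize ((g'⁻¹ : Matrix.SpecialLinearGroup (Fin k) F) : Matrix (Fin k) (Fin k) F) = B'
      at h ⊢
    have h1 : A * B * (B' * S * B'ᵀ + S') = A * (B * B') * S * B'ᵀ + A * B * S' := by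
      simp only [Matrix.mul_add, Matrix.mul_assoc]
    rw [h1, h, Matrix.mul_one, add_comm, Matrix.mul_assoc A B S']
  · rw [Matrix.zero_mul, Matrix.mul_zero, add_zero]
  · rw [Matrix.zero_mul, zero_add, _root_.mul_inv_rev, Matrix.SpecialLinearGroup.coe_mul,
      Matrix.transpose_mul]

theorem dU_mul_dU_inv {k : ℕ} (g : Matrix.SpecialLinearGroup (Fin k) F)
    (S : Matrix (Fin k) (Fin k) F) :
    dU g S * dU g⁻¹ (-((g : Matrix (Fin k) (Fin k) F) * S *
      (g : Matrix (Fin k) (Fin k) F)ᵀ)) = 1 := by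
  rw [dU_mul_dU, mul_inv_cancel, inv_inv, add_neg_cancel]
  exact dU_one_zero

theorem lift_closure {k : ℕ} (H : Subgroup (Matrix.symplecticGroup (Fin k) F))
    (T : Set (Matrix.SpecialLinearGroup (Fin k) F))
    (hT : ∀ g ∈ T, ∃ S : Matrix (Fin k) (Fin k) F, Sᵀ = S ∧
      ∃ x ∈ H, (x : Matrix (Fin k ⊕ Fin k) (Fin k ⊕ Fin k) F) = dU g S) :
    ∀ g ∈ Subgroup.closure T, ∃ S : Matrix (Fin k) (Fin k) F, Sᵀ = S ∧
      ∃ x ∈ H, (x : Matrix (Fin k ⊕ Fin k) (Fin k ⊕ Fin k) F) = dU g S := by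
  intro g hg
  induction hg using Subgroup.closure_induction with
  | mem g hg => exact hT g hg
  | one =>
    exact ⟨0, Matrix.transpose_zero, 1, H.one_mem, dU_one_zero.symm⟩
  | mul g g' _ _ ih ih' =>
    obtain ⟨S, hS, x, hx, hxS⟩ := ih
    obtain ⟨S', hS', x', hx', hxS'⟩ := ih'
    refine ⟨((g'⁻¹ : Matrix.SpecialLinearGroup (Fin k) F) : Matrix (Fin k) (Fin k) F) * S *
        ((g'⁻¹ : Matrix.SpecialLinearGroup (Fin k) F) : Matrix (Fin k) (Fin k) F)ᵀ + S', ?_,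
      x * x', H.mul_mem hx hx', ?_⟩
    · rw [Matrix.transpose_add, Matrix.transpose_mul, Matrix.transpose_mul,
        Matrix.transpose_transpose, hS, hS', Matrix.mul_assoc]
    · rw [← dU_mul_dU, ← hxS, ← hxS']
      rfl
  | inv g _ ih =>
    obtain ⟨S, hS, x, hx, hxS⟩ := ih
    have hsym : (-((g : Matrix (Fin k) (Fin k) F) * S * (g : Matrix (Fin k) (Fin k) F)ᵀ))ᵀ =
        -((g : Matrix (Fin k) (Fin k) F) * S * (g : Matrix (Fin k) (Fin k) F)ᵀ) := by
      rw [Matrix.transpose_neg, Matrix.transpose_mul, Matrix.transpose_mul,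
        Matrix.transpose_transpose, hS, Matrix.mul_assoc]
    refine ⟨-((g : Matrix (Fin k) (Fin k) F) * S * (g : Matrix (Fin k) (Fin k) F)ᵀ), hsym,
      x⁻¹, H.inv_mem hx, ?_⟩
    have hy : x * ⟨_, dU_mem g⁻¹ _ hsym⟩ = 1 := by
      apply Subtype.ext
      have h1 : ((x * ⟨_, dU_mem g⁻¹ _ hsym⟩ : Matrix.symplecticGroup (Fin k) F) :
          Matrix (Fin k ⊕ Fin k) (Fin k ⊕ Fin k) F) =
          (x : Matrix (Fin k ⊕ Fin k) (Fin k ⊕ Fin k) F) *
            dU g⁻¹ (-((g : Matrix (Fin k) (Fin k) F) * S *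
              (g : Matrix (Fin k) (Fin k) F)ᵀ)) := rfl
      rw [h1, hxS, dU_mul_dU_inv]
      rfl
    rw [← eq_inv_of_mul_eq_one_right hy]

end Cfsg.Agent.H71.SpR
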