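import Mathlib
import Cfsg.Agent.H97.SpRDefs

/-!
# Piece S2281-U2 (helper71, for helper97): `d(M) u₁ d(M)⁻¹ = d(J₂) U(M E_ll Mᵀ)` for
`J₂ = M J M⁻¹`
-/

set_option autoImplicit false

namespace Cfsg.Agent.H71.SpR

open Matrix Cfsg.Agent.H97.SpR

variable {F : Type*} [Field F]

theorem u2_form (m : ℕ) (M M' : Matrix (Fin (m + 3)) (Fin (m + 3)) F)
    (J₂ : Matrix.SpecialLinearGroup (Fin (m + 3)) F) (h1 : M * M' = 1) (h2 : M' * M = 1)
    (hJ : (J₂ : Matrix (Fin (m + 3)) (Fin (m + 3)) F) = M * uniM (m + 3) (1 : F) * M') :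
    Matrix.fromBlocks M 0 0 M'ᵀ * u1M F m =
      dU J₂ (M * Matrix.single (Fin.last (m + 2)) (Fin.last (m + 2)) (1 : F) * Mᵀ) *
        Matrix.fromBlocks M 0 0 M'ᵀ := by
  have hJJ' : uniM (m + 3) (1 : F) *
      ((uniSL (m + 3) (1 : F))⁻¹ : Matrix.SpecialLinearGroup (Fin (m + 3)) F) = 1 := by
    rw [← uniSL_coe, ← Matrix.SpecialLinearGroup.coe_mul, mul_inv_cancel,
      Matrix.SpecialLinearGroup.coe_one]
  have hJ2 : ((J₂⁻¹ : Matrix.SpecialLinearGroup (Fin (m + 3)) F) :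
      Matrix (Fin (m + 3)) (Fin (m + 3)) F) * (J₂ : Matrix (Fin (m + 3)) (Fin (m + 3)) F) = 1 := by
    rw [← Matrix.SpecialLinearGroup.coe_mul, inv_mul_cancel, Matrix.SpecialLinearGroup.coe_one]
  unfold u1M dU
  rw [uniSL_coe, hJ]
  rw [hJ] at hJ2
  generalize uniM (m + 3) (1 : F) = J at hJJ' hJ2 ⊢
  generalize (((uniSL (m + 3) (1 : F))⁻¹ : Matrix.SpecialLinearGroup (Fin (m + 3)) F) :
    Matrix (Fin (m + 3)) (Fin (m + 3)) F) = J' at hJJ' ⊢
  generalize ((J₂⁻¹ : Matrix.SpecialLinearGroup (Fin (m + 3)) F) :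
      Matrix (Fin (m + 3)) (Fin (m + 3)) F) = K at hJ2 ⊢
  generalize Matrix.single (Fin.last (m + 2)) (Fin.last (m + 2)) (1 : F) = E
  -- `K = M * J' * M'`
  have hK : K = M * J' * M' := by
    have h3 : (M * J * M') * (M * J' * M') = 1 := by
      calc (M * J * M') * (M * J' * M') = M * J * (M' * M) * J' * M' := by
            simp only [Matrix.mul_assoc]
        _ = M * (J * J') * M' := by rw [h2, Matrix.mul_one, Matrix.mul_assoc M J J']
        _ = 1 := by rw [hJJ', Matrix.mul_one, h1]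
    calc K = K * ((M * J * M') * (M * J' * M')) := by rw [h3, Matrix.mul_one]
      _ = (K * (M * J * M')) * (M * J' * M') :=
          (Matrix.mul_assoc K (M * J * M') (M * J' * M')).symm
      _ = M * J' * M' := by rw [hJ2, Matrix.one_mul]
  rw [Matrix.fromBlocks_multiply, Matrix.fromBlocks_multiply]
  congr 1
  · rw [Matrix.zero_mul, add_zero, Matrix.mul_zero, add_zero, Matrix.mul_assoc (M * J) M' M, h2,
      Matrix.mul_one]
  · rw [Matrix.zero_mul, add_zero, Matrix.mul_zero, zero_add]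
    have h4 : Mᵀ * M'ᵀ = 1 := by rw [← Matrix.transpose_mul, h2, Matrix.transpose_one]
    calc M * (J * E) = M * J * (M' * M) * E * (Mᵀ * M'ᵀ) := by
          rw [h2, h4, Matrix.mul_one, Matrix.mul_one, Matrix.mul_assoc]
      _ = M * J * M' * (M * E * Mᵀ) * M'ᵀ := by simp only [Matrix.mul_assoc]
  · rw [Matrix.zero_mul, Matrix.mul_zero, add_zero, Matrix.zero_mul, Matrix.mul_zero, add_zero]
  · rw [Matrix.zero_mul, zero_add, Matrix.mul_zero, zero_add, hK, ← Matrix.transpose_mul,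
      ← Matrix.transpose_mul]
    have h5 : M' * (M * J' * M') = J' * M' := by
      rw [← Matrix.mul_assoc, ← Matrix.mul_assoc, h2, Matrix.one_mul]
    rw [h5]

end Cfsg.Agent.H71.SpR
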