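import Mathlib
import Cfsg.Agent.H71.Parts
import Cfsg.Agent.H71.SylowConj
import Cfsg.Agent.H71.Inv
import Cfsg.Agent.H71.Lift

set_option autoImplicit false

namespace Cfsg.Agent.H71

/-- No nontrivial element of odd order is inverted by any element. -/
def NoInv (G : Type*) [Group G] : Prop :=
  ∀ t x : G, Odd (orderOf x) → t * x * t⁻¹ = x⁻¹ → x = 1

theorem NoInv.subgroup {G : Type*} [Group G] (h : NoInv G) (K : Subgroup G) : NoInv K := by
  intro t x hodd htx
  have h1 : (t : G) * (x : G) * (t : G)⁻¹ = (x : G)⁻¹ := by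
    have := congrArg Subtype.val htx
    simpa using this
  have := h (t : G) (x : G) (by rwa [Subgroup.orderOf_coe]) h1
  exact Subtype.ext this

/-- A `p`-element of `G ⧸ N` lifts to a `p`-element of `G`. -/
theorem exists_p_lift {G : Type*} [Group G] [Finite G] {p : ℕ} (hp : p.Prime)
    (N : Subgroup G) [N.Normal] (y : G ⧸ N) (hy : ∃ k : ℕ, orderOf y = p ^ k) :
    ∃ x : G, (x : G ⧸ N) = y ∧ ∃ k : ℕ, orderOf x = p ^ k := by
  obtain ⟨x₀, rfl⟩ := QuotientGroup.mk_surjective y
  obtain ⟨a, b, ha, hb, hab, hak, hbp⟩ := exists_p_part p hp x₀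
  refine ⟨a, ?_, hak⟩
  have hb1 : (b : G ⧸ N) = 1 := by
    apply eq_one_of_pow_order_of_not_dvd (p := p)
    · obtain ⟨j, rfl⟩ := Subgroup.mem_zpowers_iff.1 hb
      obtain ⟨k, hk⟩ := hy
      have h1 : orderOf ((x₀ ^ j : G) : G ⧸ N) ∣ p ^ k := by
        rw [← hk, QuotientGroup.mk_zpow]
        exact orderOf_dvd_of_mem_zpowers (Subgroup.zpow_mem _ (Subgroup.mem_zpowers _) j)
      obtain ⟨i, -, hi⟩ := (Nat.dvd_prime_pow hp).1 h1
      exact ⟨i, hi⟩
    · intro h
      exact hbp (h.trans (orderOf_map_dvd (QuotientGroup.mk' N) b))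
  rw [hab, QuotientGroup.mk_mul, hb1, mul_one]

/-- `NoInv` passes to quotients by normal 2-subgroups. -/
theorem NoInv.quotient {G : Type*} [Group G] [Finite G] (h : NoInv G) (N : Subgroup G) [N.Normal]
    (hN : IsPGroup 2 N) : NoInv (G ⧸ N) := by
  intro t x hodd htx
  by_contra hx1
  have hne : orderOf x ≠ 1 := fun h' => hx1 (orderOf_eq_one_iff.1 h')
  set r := (orderOf x).minFac with hr
  have hrp : r.Prime := Nat.minFac_prime hne
  have hrd : r ∣ orderOf x := Nat.minFac_dvd _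
  have hr2 : r ≠ 2 := by
    intro h2
    rw [h2] at hrd
    exact (Nat.not_even_iff_odd.2 hodd) (even_iff_two_dvd.2 hrd)
  have : Fact r.Prime := ⟨hrp⟩
  -- an element of order r inverted by t
  set w := x ^ (orderOf x / r) with hw
  have hwr : orderOf w = r := orderOf_pow_orderOf_div (orderOf_pos x).ne' hrd
  have htw : t * w * t⁻¹ = w⁻¹ := by
    rw [hw, ← conj_pow, htx, inv_pow]
  obtain ⟨w₀, hw₀, hw₀k⟩ := exists_p_lift hrp N w ⟨1, by rw [hwr, pow_one]⟩
  obtain ⟨t₀, rfl⟩ := QuotientGroup.mk_surjective t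
  have hrN : ¬ r ∣ Nat.card N := by
    obtain ⟨m, hm⟩ := hN.exists_card_eq
    rw [hm]
    intro hdvd
    exact hr2 ((Nat.prime_dvd_prime_iff_eq hrp Nat.prime_two).1 (hrp.dvd_of_dvd_pow hdvd))
  have hnorm : (t₀ : G ⧸ N) ∈ Subgroup.normalizer
      ((Subgroup.zpowers (w₀ : G ⧸ N) : Subgroup (G ⧸ N)) : Set (G ⧸ N)) := by
    rw [hw₀]
    apply mem_normalizer_zpowers
    · rw [htw]; exact Subgroup.inv_mem _ (Subgroup.mem_zpowers w)
    · rw [inv3 htw]; exact Subgroup.inv_mem _ (Subgroup.mem_zpowers w)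
  obtain ⟨n, hn, hnn⟩ := lift_normalizer N hrN w₀ t₀ hw₀k hnorm
  have h1 : n⁻¹ * t₀ * w₀ * (n⁻¹ * t₀)⁻¹ ∈ Subgroup.zpowers w₀ :=
    (Subgroup.mem_set_normalizer_iff.1 hnn w₀).1 (Subgroup.mem_zpowers w₀)
  obtain ⟨j, hj⟩ := Subgroup.mem_zpowers_iff.1 h1
  have hn1 : (n : G ⧸ N) = 1 := (QuotientGroup.eq_one_iff n).2 hn
  -- w₀ ^ j * w₀ ∈ N
  have h2 : ((w₀ ^ j * w₀ : G) : G ⧸ N) = 1 := by
    rw [hj]
    simp only [QuotientGroup.mk_mul, QuotientGroup.mk_inv, hn1, inv_one, one_mul, mul_inv_rev, mul_one]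
    rw [hw₀, htw, inv_mul_cancel]
  have h3 : w₀ ^ j * w₀ ∈ N := (QuotientGroup.eq_one_iff _).1 h2
  have h4 : w₀ ^ j * w₀ = 1 := by
    obtain ⟨k, hk⟩ := hw₀k
    have hpow : (w₀ ^ j * w₀) ^ r ^ k = 1 := by
      have : w₀ ^ j * w₀ = w₀ ^ (j + 1) := by rw [zpow_add, zpow_one]
      rw [this, ← zpow_natCast, ← zpow_mul, mul_comm, zpow_mul, zpow_natCast, ← hk, pow_orderOf_eq_one,
        one_zpow]
    exact eq_one_of_mem_of_pow N hrN h3 hpow
  have h5 : n⁻¹ * t₀ * w₀ * (n⁻¹ * t₀)⁻¹ = w₀⁻¹ := by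
    rw [← hj]; exact eq_inv_of_mul_eq_one_left h4
  have hoddw : Odd (orderOf w₀) := by
    obtain ⟨k, hk⟩ := hw₀k
    rw [hk]
    exact Odd.pow (hrp.odd_of_ne_two hr2)
  have h6 := h _ _ hoddw h5
  rw [h6, QuotientGroup.mk_one] at hw₀
  rw [← hw₀, orderOf_one] at hwr
  exact hrp.one_lt.ne hwr

/-- In a finite `p`-group, a proper subgroup is properly contained in its normalizer: an
element version inside an ambient group. -/
theorem exists_normalizing_not_mem {G : Type*} [Group G] [Finite G] {p : ℕ} [Fact p.Prime]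
    (P : Sylow p G) (D : Subgroup G) (hD : D ≤ P) (hne : D ≠ (P : Subgroup G)) :
    ∃ a : G, a ∈ P ∧ a ∈ Subgroup.normalizer (D : Set G) ∧ a ∉ D := by
  have hnil : Group.IsNilpotent (P : Subgroup G) := P.isPGroup'.isNilpotent
  have hlt : D.subgroupOf P < ⊤ := by
    rw [lt_top_iff_ne_top]
    intro h
    apply hne
    apply le_antisymm hD
    intro y hy
    have : (⟨y, hy⟩ : (P : Subgroup G)) ∈ D.subgroupOf P := by rw [h]; trivial
    exact Subgroup.mem_subgroupOf.1 this
  have h2 := Group.normalizerCondition_of_isNilpotent (G := (P : Subgroup G)) _ hlt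
  obtain ⟨a, haN, haD⟩ := SetLike.exists_of_lt h2
  refine ⟨(a : G), a.2, ?_, fun h => haD (Subgroup.mem_subgroupOf.2 h)⟩
  rw [Subgroup.mem_set_normalizer_iff]
  intro y
  constructor
  · intro hy
    have h3 := (Subgroup.mem_set_normalizer_iff.1 haN ⟨y, hD hy⟩).1 (Subgroup.mem_subgroupOf.2 hy)
    exact Subgroup.mem_subgroupOf.1 h3
  · intro hy
    have hyP : y ∈ P := by
      have h4 : (a : G) * y * (a : G)⁻¹ ∈ P := hD hy
      have : y = (a : G)⁻¹ * ((a : G) * y * (a : G)⁻¹) * (a : G) := by group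
      rw [this]
      exact mul_mem (mul_mem (inv_mem a.2) h4) a.2
    have h3 := (Subgroup.mem_set_normalizer_iff.1 haN ⟨y, hyP⟩).2 (Subgroup.mem_subgroupOf.2 hy)
    exact Subgroup.mem_subgroupOf.1 h3

theorem two_closed_aux (n : ℕ) : ∀ (G : Type*) [Group G] [Finite G], Nat.card G = n → NoInv G →
    ∀ P : Sylow 2 G, (P : Subgroup G).Normal := by
  induction n using Nat.strong_induction_on with
  | _ n ih =>
  intro G _ _ hn hG P
  have hfact : Fact (Nat.Prime 2) := ⟨Nat.prime_two⟩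
  by_cases hex : ∃ N : Subgroup G, N.Normal ∧ IsPGroup 2 N ∧ N ≠ ⊥
  · -- pass to the quotient by a nontrivial normal 2-subgroup
    obtain ⟨N, hNn, hN2, hNbot⟩ := hex
    have hlt : Nat.card (G ⧸ N) < n := by
      rw [← hn, Subgroup.card_eq_card_quotient_mul_card_subgroup N]
      have h1 : 1 < Nat.card N := (Subgroup.one_lt_card_iff_ne_bot N).2 hNbot
      have h2 : 0 < Nat.card (G ⧸ N) := Nat.card_pos
      nlinarith
    have hq := ih _ hlt (G ⧸ N) rfl (hG.quotient N hN2)
      (P.mapSurjective (QuotientGroup.mk'_surjective N))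
    rw [Sylow.coe_mapSurjective] at hq
    have hNP : N ≤ P := hN2.le_sylow_of_normal P
    have h3 := hq.comap (QuotientGroup.mk' N)
    rw [Subgroup.comap_map_eq, QuotientGroup.ker_mk', sup_eq_left.2 hNP] at h3
    exact h3
  · by_contra hPn
    have hexQ : ∃ Q : Sylow 2 G, Q ≠ P := by
      by_contra hall
      push Not at hall
      have : Subsingleton (Sylow 2 G) := ⟨fun A B => (hall A).trans (hall B).symm⟩
      exact hPn (Sylow.normal_of_subsingleton P)
    obtain ⟨Q, hQP⟩ := hexQ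
    -- choose a pair of distinct Sylow subgroups with maximal intersection
    let T := {pq : Sylow 2 G × Sylow 2 G // pq.1 ≠ pq.2}
    have hTne : Nonempty T := ⟨⟨(Q, P), hQP⟩⟩
    obtain ⟨⟨⟨P₀, Q₀⟩, hne⟩, hmax⟩ := Finite.exists_max
      (fun pq : T => Nat.card ((pq.1.1 : Subgroup G) ⊓ (pq.1.2 : Subgroup G) : Subgroup G))
    have hne' : P₀ ≠ Q₀ := hne
    have hmax' : ∀ P' Q' : Sylow 2 G, P' ≠ Q' →
        Nat.card ((P' : Subgroup G) ⊓ (Q' : Subgroup G) : Subgroup G) ≤
        Nat.card ((P₀ : Subgroup G) ⊓ (Q₀ : Subgroup G) : Subgroup G) :=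
      fun P' Q' h => hmax ⟨(P', Q'), h⟩
    -- if a Sylow subgroup R meets P' in more than D, where P' ∈ {P₀, Q₀}, then R = P'
    have hkey : ∀ (P' R : Sylow 2 G) (a : G),
        (P₀ : Subgroup G) ⊓ (Q₀ : Subgroup G) ≤ (P' : Subgroup G) ⊓ (R : Subgroup G) →
        a ∈ P' → a ∈ R → a ∉ (P₀ : Subgroup G) ⊓ (Q₀ : Subgroup G) → P' = R := by
      intro P' R a hle haP haR haD
      by_contra hPR
      have h1 := hmax' P' R hPR
      have h2 := Subgroup.eq_of_le_of_card_ge hle h1
      exact haD (h2 ▸ ⟨haP, haR⟩)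
    by_cases hD : (P₀ : Subgroup G) ⊓ (Q₀ : Subgroup G) = ⊥
    · -- trivial intersections: use two involutions
      have hP₀ : (P₀ : Subgroup G) ≠ ⊥ := by
        intro h
        have hle : (P₀ : Subgroup G) ≤ Q₀ := h ▸ bot_le
        exact hne' (Sylow.ext (P₀.is_maximal' Q₀.isPGroup' hle).symm)
      have hQ₀ : (Q₀ : Subgroup G) ≠ ⊥ := by
        intro h
        have hle : (Q₀ : Subgroup G) ≤ P₀ := h ▸ bot_le
        exact hne' (Sylow.ext (Q₀.is_maximal' P₀.isPGroup' hle))
      have hinv : ∀ S : Sylow 2 G, (S : Subgroup G) ≠ ⊥ → ∃ t : G, t ∈ S ∧ orderOf t = 2 := by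
        intro S hS
        have h1 : 1 < Nat.card (S : Subgroup G) := (Subgroup.one_lt_card_iff_ne_bot _).2 hS
        obtain ⟨k, hk⟩ := S.isPGroup'.exists_card_eq
        have h2 : 2 ∣ Nat.card (S : Subgroup G) := by
          rw [hk]
          rcases Nat.eq_zero_or_pos k with rfl | hpos
          · rw [hk] at h1; simp at h1
          · exact dvd_pow_self 2 hpos.ne'
        obtain ⟨t, ht⟩ := exists_prime_orderOf_dvd_card' (G := (S : Subgroup G)) 2 h2
        exact ⟨(t : G), t.2, by rw [Subgroup.orderOf_coe]; exact ht⟩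
      obtain ⟨t, htP, ht2⟩ := hinv P₀ hP₀
      obtain ⟨u, huQ, hu2⟩ := hinv Q₀ hQ₀
      have ht1 : t ≠ 1 := fun h => by rw [h, orderOf_one] at ht2; omega
      have hu1 : u ≠ 1 := fun h => by rw [h, orderOf_one] at hu2; omega
      have htt : t * t = 1 := by rw [← pow_two, ← ht2, pow_orderOf_eq_one]
      have huu : u * u = 1 := by rw [← pow_two, ← hu2, pow_orderOf_eq_one]
      have htinv : t⁻¹ = t := inv_eq_of_mul_eq_one_left htt
      have huinv : u⁻¹ = u := inv_eq_of_mul_eq_one_left huu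
      have hc : t * (t * u) * t⁻¹ = (t * u)⁻¹ := by
        rw [mul_inv_rev, htinv, huinv, ← mul_assoc, htt, one_mul]
      obtain ⟨a, b, ha, hb, hab, hak, hbodd⟩ := exists_p_part 2 Nat.prime_two (t * u)
      have hb1 : b = 1 := by
        apply hG t b (Nat.odd_iff.2 (Nat.two_dvd_ne_zero.1 hbodd))
        obtain ⟨j, rfl⟩ := Subgroup.mem_zpowers_iff.1 hb
        rw [← conj_zpow, hc, inv_zpow]
      have hck : ∃ k : ℕ, orderOf (t * u) = 2 ^ k := by
        rw [hab, hb1, mul_one]; exact hak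
      have htk : ∃ k : ℕ, orderOf t = 2 ^ k := ⟨1, by rw [ht2, pow_one]⟩
      have hK : IsPGroup 2 (Subgroup.zpowers t ⊔ Subgroup.zpowers (t * u) : Subgroup G) := by
        apply IsPGroup.to_sup_of_normal_right' (isPGroup_zpowers htk) (isPGroup_zpowers hck)
        rw [Subgroup.zpowers_le]
        apply mem_normalizer_zpowers
        · rw [hc]; exact Subgroup.inv_mem _ (Subgroup.mem_zpowers _)
        · rw [inv3 hc]; exact Subgroup.inv_mem _ (Subgroup.mem_zpowers _)
      obtain ⟨R, hR⟩ := hK.exists_le_sylow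
      have htR : t ∈ R := hR (Subgroup.mem_sup_left (Subgroup.mem_zpowers t))
      have huR : u ∈ R := by
        have h1 : t * u ∈ R := hR (Subgroup.mem_sup_right (Subgroup.mem_zpowers _))
        have : u = t⁻¹ * (t * u) := by group
        rw [this]
        exact mul_mem (inv_mem htR) h1
      have e1 : P₀ = R := hkey P₀ R t (hD ▸ bot_le) htP htR (by rw [hD, Subgroup.mem_bot]; exact ht1)
      have e2 : Q₀ = R := hkey Q₀ R u (hD ▸ bot_le) huQ huR (by rw [hD, Subgroup.mem_bot]; exact hu1)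
      exact hne' (e1.trans e2.symm)
    · -- nontrivial intersection D: its normalizer is proper and 2-closed by induction
      set D : Subgroup G := (P₀ : Subgroup G) ⊓ (Q₀ : Subgroup G) with hDdef
      have hD2 : IsPGroup 2 D := P₀.isPGroup'.to_le inf_le_left
      have hMtop : Subgroup.normalizer (D : Set G) ≠ ⊤ := by
        intro h
        exact hex ⟨D, Subgroup.normalizer_eq_top_iff.1 h, hD2, hD⟩
      have hMlt : Nat.card (Subgroup.normalizer (D : Set G)) < n := by
        rw [← hn]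
        exact lt_of_le_of_ne (Subgroup.card_le_card_group _)
          fun h => hMtop (Subgroup.eq_top_of_card_eq _ h)
      have hDP : D ≠ (P₀ : Subgroup G) := by
        intro h
        have hle : (P₀ : Subgroup G) ≤ Q₀ := h ▸ inf_le_right
        exact hne' (Sylow.ext (P₀.is_maximal' Q₀.isPGroup' hle).symm)
      have hDQ : D ≠ (Q₀ : Subgroup G) := by
        intro h
        have hle : (Q₀ : Subgroup G) ≤ P₀ := h ▸ inf_le_left
        exact hne' (Sylow.ext (Q₀.is_maximal' P₀.isPGroup' hle))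
      obtain ⟨a, haP, haN, haD⟩ := exists_normalizing_not_mem P₀ D inf_le_left hDP
      obtain ⟨b, hbQ, hbN, hbD⟩ := exists_normalizing_not_mem Q₀ D inf_le_right hDQ
      -- the unique Sylow 2-subgroup of the normalizer
      obtain ⟨T₀⟩ : Nonempty (Sylow 2 (Subgroup.normalizer (D : Set G))) := inferInstance
      have hT₀ := ih _ hMlt (Subgroup.normalizer (D : Set G)) rfl
        (hG.subgroup _) T₀
      have hTall : ∀ E : Subgroup G, IsPGroup 2 E → E ≤ Subgroup.normalizer (D : Set G) →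
          E ≤ (T₀ : Subgroup _).map (Subgroup.normalizer (D : Set G)).subtype := by
        intro E hE hEM
        obtain ⟨T₁, hT₁⟩ := (hE.comap_subtype (K := Subgroup.normalizer (D : Set G))).exists_le_sylow
        obtain ⟨g, hg⟩ := MulAction.exists_smul_eq (Subgroup.normalizer (D : Set G)) T₀ T₁
        have hT₁eq : T₁ = T₀ := by rw [← hg]; exact Sylow.smul_eq_of_normal
        intro y hy
        have := hT₁ (show (⟨y, hEM hy⟩ : Subgroup.normalizer (D : Set G)) ∈ E.subgroupOf _ from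
          Subgroup.mem_subgroupOf.2 hy)
        rw [hT₁eq] at this
        exact Subgroup.mem_map.2 ⟨⟨y, hEM hy⟩, this, rfl⟩
      have hT2 : IsPGroup 2 ((T₀ : Subgroup _).map (Subgroup.normalizer (D : Set G)).subtype) :=
        T₀.isPGroup'.map _
      obtain ⟨R, hR⟩ := hT2.exists_le_sylow
      have hDR : D ≤ R := (hTall D hD2 Subgroup.le_normalizer).trans hR
      have haR : a ∈ R := by
        have hza : ∃ k : ℕ, orderOf a = 2 ^ k := by
          obtain ⟨k, hk⟩ := P₀.isPGroup' ⟨a, haP⟩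
          have hk' : a ^ 2 ^ k = 1 := by simpa using congrArg Subtype.val hk
          obtain ⟨i, -, hi⟩ := (Nat.dvd_prime_pow Nat.prime_two).1 (orderOf_dvd_of_pow_eq_one hk')
          exact ⟨i, hi⟩
        exact hR (hTall _ (isPGroup_zpowers hza) (by rw [Subgroup.zpowers_le]; exact haN)
          (Subgroup.mem_zpowers a))
      have hbR : b ∈ R := by
        have hzb : ∃ k : ℕ, orderOf b = 2 ^ k := by
          obtain ⟨k, hk⟩ := Q₀.isPGroup' ⟨b, hbQ⟩
          have hk' : b ^ 2 ^ k = 1 := by simpa using congrArg Subtype.val hk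
          obtain ⟨i, -, hi⟩ := (Nat.dvd_prime_pow Nat.prime_two).1 (orderOf_dvd_of_pow_eq_one hk')
          exact ⟨i, hi⟩
        exact hR (hTall _ (isPGroup_zpowers hzb) (by rw [Subgroup.zpowers_le]; exact hbN)
          (Subgroup.mem_zpowers b))
      have e1 : P₀ = R := hkey P₀ R a (le_inf inf_le_left hDR) haP haR haD
      have e2 : Q₀ = R := hkey Q₀ R b (le_inf inf_le_right hDR) hbQ hbR hbD
      exact hne' (e1.trans e2.symm)

/-- A finite group in which no nontrivial element of odd order is conjugate to its inverse has a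
normal Sylow 2-subgroup. -/
theorem two_closed_of_noInv {G : Type*} [Group G] [Finite G] (h : NoInv G) (P : Sylow 2 G) :
    (P : Subgroup G).Normal :=
  two_closed_aux _ G rfl h P

end Cfsg.Agent.H71
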