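import Mathlib
import Cfsg.Agent.H58.UqDefs
import Cfsg.Agent.H71.SpSetup

/-! S2950 team project UQ (helper58), piece UQ-NSET: for `K ∈ 𝒦₀(T)` the 2-local `N_G(W_K)` is
in the family of a 2-subgroup `S` with `J(S) = J(T)`. -/

set_option autoImplicit false
open Cfsg

namespace Cfsg.Agent.H71.Uq

open Cfsg.Agent.H52.Sn Cfsg.Agent.H71.Sn Cfsg.Agent.H58.Uq

universe u

theorem nset : StNSet.{u} := by
  intro G _ _ hchar T K hT hK
  obtain ⟨hJC, hzero⟩ := hK
  have hJC' := hJC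
  obtain ⟨hgen, hcomm, hidx, hsyl, hcard, hexp⟩ := hJC
  have : Fact (Nat.Prime 2) := ⟨Nat.prime_two⟩
  have hJT : thompsonSubgroupOf 2 T ≤ T := Subgroup.map_subtype_le _
  have hJ2 : IsPGroup 2 ↥(thompsonSubgroupOf 2 T) := hT.to_le hJT
  have hconjK : ∀ g : G, K.map (MulAut.conj g).toMonoidHom = K →
      g ∈ Subgroup.normalizer (wOf K : Set G) := by
    intro g hg
    apply mem_normalizer_of_map_conj_eq
    rw [← wOf_map_conj, hg]
  have hKN : K ≤ Subgroup.normalizer (wOf K : Set G) :=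
    fun k hk => hconjK k (map_conj_self K hk)
  have hJK : ∀ j ∈ thompsonSubgroupOf 2 T, K.map (MulAut.conj j).toMonoidHom = K := by
    intro j hj
    have h1 := map_conj_commutator_right K (thompsonSubgroupOf 2 T) hj
    rwa [hcomm] at h1
  have hJN : thompsonSubgroupOf 2 T ≤ Subgroup.normalizer (wOf K : Set G) :=
    fun j hj => hconjK j (hJK j hj)
  have hW2 : IsPGroup 2 ↥(wOf K) := IsPGroup.of_card (n := 2) (hcard.trans (by norm_num))
  have hWne : wOf K ≠ ⊥ := by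
    intro h
    rw [h, Subgroup.card_bot] at hcard
    omega
  obtain ⟨N, hN⟩ : ∃ N : Subgroup G, N = Subgroup.normalizer (wOf K : Set G) := ⟨_, rfl⟩
  rw [← hN] at hconjK hKN hJN hzero
  rw [← hN]
  obtain ⟨P, hP⟩ := (hJ2.comap_subtype (K := N)).exists_le_sylow
  obtain ⟨S, hS⟩ : ∃ S : Subgroup G, S = (P : Subgroup N).map N.subtype := ⟨_, rfl⟩
  have hSN : S ≤ N := by rw [hS]; exact Subgroup.map_subtype_le _
  have hS2 : IsPGroup 2 ↥S := by rw [hS]; exact P.2.map N.subtype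
  have hSsub : S.subgroupOf N = (P : Subgroup N) := by
    rw [hS]; exact Subgroup.comap_map_eq_self_of_injective N.subtype_injective _
  have hSodd : Odd (S.relIndex N) := by
    rw [Subgroup.relIndex, hSsub]
    exact Nat.not_even_iff_odd.mp (fun h => P.not_dvd_index (even_iff_two_dvd.mp h))
  have hJS : thompsonSubgroupOf 2 T ≤ S := by
    intro j hj
    have hmem : (⟨j, hJN hj⟩ : N) ∈ (thompsonSubgroupOf 2 T).subgroupOf N :=
      Subgroup.mem_subgroupOf.mpr hj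
    rw [hS]
    exact ⟨⟨j, hJN hj⟩, hP hmem, rfl⟩
  have hSyl : IsSylowTwoIn S N := ⟨hSN, hS2, hSodd⟩
  have hJeq : thompsonSubgroupOf 2 S = thompsonSubgroupOf 2 T := hzero S hJS hSyl
  have hKne : K ≠ ⊥ := by
    intro h
    rw [h, Subgroup.relIndex_bot_right] at hidx
    exact absurd hidx (by norm_num)
  have hJne : thompsonSubgroupOf 2 T ≠ ⊥ := by
    intro h
    rw [h, Subgroup.commutator_bot_right] at hcomm
    exact hKne hcomm.symm
  have hSne : S ≠ ⊥ := by
    intro h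
    rw [h] at hJS
    exact hJne (le_bot_iff.mp hJS)
  have hQn : (pCore 2 ↥N).Normal := Subgroup.sSup_normal _ (fun _ hH => hH.1)
  have hQ2 : IsPGroup 2 ↥(pCore 2 ↥N) :=
    Sylow.sSup_of_normal _ (fun _ hH => hH.2) (fun _ hH => hH.1)
  have hWQ : wOf K ≤ pCoreOf 2 N := by
    have hWn : ((wOf K).subgroupOf N).Normal := by
      rw [hN]; exact Subgroup.normal_in_normalizer
    have hWN : wOf K ≤ N := by rw [hN]; exact Subgroup.le_normalizer
    have hWp : IsPGroup 2 ↥((wOf K).subgroupOf N) := hW2.comap_subtype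
    have hle : (wOf K).subgroupOf N ≤ pCore 2 ↥N := le_sSup ⟨hWn, hWp⟩
    intro w hw
    exact ⟨⟨w, hWN hw⟩, hle (Subgroup.mem_subgroupOf.mpr hw), rfl⟩
  refine ⟨S, hS2, hSne, hJeq, ⟨hSyl, ?_, ?_⟩⟩
  · -- `J(S) ≰ O₂(N)`
    rw [hJeq]
    intro hJQ
    have hKQ : K ≤ pCoreOf 2 N := by
      calc K = ⁅K, thompsonSubgroupOf 2 T⁆ := hcomm.symm
        _ ≤ ⁅K, pCoreOf 2 N⁆ := Subgroup.commutator_mono le_rfl hJQ
        _ ≤ pCoreOf 2 N := by
          rw [Subgroup.commutator_le]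
          rintro k hk _ ⟨q, hq, rfl⟩
          rw [commutatorElement_def]
          have h1 : (⟨k, hKN hk⟩ : N) * q * (⟨k, hKN hk⟩ : N)⁻¹ * q⁻¹ ∈ pCore 2 ↥N :=
            (pCore 2 ↥N).mul_mem (hQn.conj_mem q hq _) ((pCore 2 ↥N).inv_mem hq)
          exact ⟨_, h1, rfl⟩
    have hKbot : K = ⊥ := by
      rw [eq_bot_iff, ← hgen, Subgroup.closure_le]
      rintro g ⟨hg, ho⟩
      obtain ⟨q, hq, rfl⟩ := hKQ hg
      obtain ⟨k, hk⟩ := hQ2 ⟨q, hq⟩
      have hk' : ((q : N) : G) ^ 2 ^ k = 1 := by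
        have := congrArg (fun x : pCore 2 ↥N => ((x : N) : G)) hk
        simpa using this
      have hdvd : orderOf ((q : N) : G) ∣ 2 ^ k := orderOf_dvd_of_pow_eq_one hk'
      have hcop : Nat.Coprime (orderOf ((q : N) : G)) (2 ^ k) :=
        Nat.Coprime.pow_right k (Nat.Coprime.symm (Nat.coprime_two_left.mpr ho))
      have h1' := Nat.Coprime.eq_one_of_dvd hcop hdvd
      exact Subgroup.mem_bot.mpr (orderOf_eq_one_iff.mp h1')
    exact hKne hKbot
  · -- `C_G(O₂(N)) ≤ O₂(N)`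
    intro g hg
    have hgW : g ∈ Subgroup.centralizer (wOf K : Set G) :=
      Subgroup.centralizer_le (SetLike.coe_subset_coe.mpr hWQ) hg
    have hgN : g ∈ N := by rw [hN]; exact Subgroup.centralizer_le_normalizer _ hgW
    have hcharN := hchar.2 (wOf K) hW2 hWne
    rw [← hN] at hcharN
    have hgc : (⟨g, hgN⟩ : N) ∈
        Subgroup.centralizer ((pCore 2 ↥N : Subgroup ↥N) : Set ↥N) := by
      rw [Subgroup.mem_centralizer_iff]
      intro q hq
      apply Subtype.ext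
      rw [Subgroup.mem_centralizer_iff] at hg
      exact hg (q : G) ⟨q, hq, rfl⟩
    exact ⟨⟨g, hgN⟩, hcharN hgc, rfl⟩

example : Cfsg.Agent.H58.Uq.StNSet.{u} := nset

end Cfsg.Agent.H71.Uq
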